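import Groth.Agent.Lib.Lead.FreeSheaf

/-!
# Čech cochains and short exact sequences of sheaves

Explicit diagram chases with Čech cochains for a short exact sequence of abelian sheaves
`0 ⟶ F ⟶ G ⟶ H ⟶ 0` such that `G ⟶ H` is surjective on sections over all finite
intersections of the members of the family.
-/

set_option autoImplicit false
universe u

open CategoryTheory TopologicalSpace Opposite CategoryTheory.Limits

namespace Groth.Agent.Lib.Lead

variable {X : TopCat.{u}} {ι : Type u} (U : ι → Opens X)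

/-- Vanishing of Čech cohomology in terms of explicit cochains. -/
lemma isZero_cechH_succ_iff (P : (Opens X)ᵒᵖ ⥤ AddCommGrpCat.{u}) (n : ℕ) :
    IsZero (CohTop.cechH P U (n + 1)) ↔
      ∀ c : CechCochain U P (n + 1), cechCoboundary U P (n + 1) c = 0 →
        ∃ b : CechCochain U P n, cechCoboundary U P n b = c := by
  change IsZero ((cechCx U P).homology (n + 1)) ↔ _
  rw [isZero_cech_homology_succ_iff']
  constructor
  · intro h c hc
    obtain ⟨b, hb⟩ := h c (fun y => congrFun hc y)
    exact ⟨b, funext hb⟩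
  · intro h c hc
    obtain ⟨b, hb⟩ := h c (funext hc)
    exact ⟨b, fun y => congrFun hb y⟩

section Additive

variable (P : (Opens X)ᵒᵖ ⥤ AddCommGrpCat.{u})

lemma cechCoboundary_sub (n : ℕ) (c c' : CechCochain U P n) :
    cechCoboundary U P n (c - c') = cechCoboundary U P n c - cechCoboundary U P n c' := by
  funext y
  simp only [cechCoboundary, Pi.sub_apply, map_sub, smul_sub, Finset.sum_sub_distrib]

lemma cechCoboundary_add (n : ℕ) (c c' : CechCochain U P n) :
    cechCoboundary U P n (c + c') = cechCoboundary U P n c + cechCoboundary U P n c' := by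
  funext y
  simp only [cechCoboundary, Pi.add_apply, map_add, smul_add, Finset.sum_add_distrib]

end Additive

section Map

variable {P Q : (Opens X)ᵒᵖ ⥤ AddCommGrpCat.{u}} (φ : P ⟶ Q)

/-- The map on Čech cochains induced by a morphism of presheaves. -/
noncomputable def cochainMap (n : ℕ) (c : CechCochain U P n) : CechCochain U Q n :=
  fun x => φ.app (op (cechOpen U x)) (c x)

lemma cochainMap_apply (n : ℕ) (c : CechCochain U P n) (x : Fin (n + 1) → ι) :
    cochainMap U φ n c x = φ.app (op (cechOpen U x)) (c x) := rfl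

lemma cochainMap_sub (n : ℕ) (c c' : CechCochain U P n) :
    cochainMap U φ n (c - c') = cochainMap U φ n c - cochainMap U φ n c' := by
  funext x
  simp only [cochainMap, Pi.sub_apply, map_sub]

lemma cochainMap_zero (n : ℕ) : cochainMap U φ n 0 = 0 := by
  funext x
  simp only [cochainMap, Pi.zero_apply, map_zero]

lemma cochainMap_coboundary (n : ℕ) (c : CechCochain U P n) :
    cochainMap U φ (n + 1) (cechCoboundary U P n c) =
      cechCoboundary U Q n (cochainMap U φ n c) := by
  funext y
  simp only [cochainMap, cechCoboundary, map_sum, map_zsmul]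
  refine Finset.sum_congr rfl fun i _ => ?_
  congr 1
  exact NatTrans.naturality_apply φ (homOfLE (cechOpen_face_le U y i)).op (c (y ∘ Fin.succAbove i))

end Map

section SES

variable (S : ShortComplex (CohTop.Ab X)) (hS : S.ShortExact)

include hS in
lemma ses_sections_gf (V : Opens X) (z : S.X₁.obj.obj (op V)) :
    S.g.hom.app (op V) (S.f.hom.app (op V) z) = 0 := by
  have h := S.zero
  have h' : S.f.hom ≫ S.g.hom = 0 := by
    rw [← ObjectProperty.FullSubcategory.comp_hom, h]; rfl
  have h'' := congrArg (fun φ => φ.app (op V)) h'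
  exact ConcreteCategory.congr_hom h'' z

include hS in
lemma ses_sections_exact (V : Opens X) (z : S.X₂.obj.obj (op V)) (hz : S.g.hom.app (op V) z = 0) :
    ∃ c : S.X₁.obj.obj (op V), S.f.hom.app (op V) c = z :=
  TopCat.Sheaf.sections_exact_of_left_exact hS.exact hS.mono_f z hz

include hS in
lemma ses_sections_injective (V : Opens X) : Function.Injective (S.f.hom.app (op V)) :=
  haveI := hS.mono_f
  sheaf_sections_injective_of_mono S.f V

include hS in
lemma ses_cochain_gf (n : ℕ) (e : CechCochain U S.X₁.obj n) :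
    cochainMap U S.g.hom n (cochainMap U S.f.hom n e) = 0 := by
  funext x
  exact ses_sections_gf S hS _ _

include hS in
lemma ses_cochain_exact (n : ℕ) (i : CechCochain U S.X₂.obj n)
    (hi : cochainMap U S.g.hom n i = 0) :
    ∃ e : CechCochain U S.X₁.obj n, cochainMap U S.f.hom n e = i := by
  have h : ∀ x : Fin (n + 1) → ι, ∃ c : S.X₁.obj.obj (op (cechOpen U x)),
      S.f.hom.app (op (cechOpen U x)) c = i x :=
    fun x => ses_sections_exact S hS _ (i x) (congrFun hi x)
  choose e he using h
  exact ⟨e, funext he⟩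

include hS in
lemma ses_cochain_injective (n : ℕ) (e e' : CechCochain U S.X₁.obj n)
    (h : cochainMap U S.f.hom n e = cochainMap U S.f.hom n e') : e = e' := by
  funext x
  exact ses_sections_injective S hS _ (congrFun h x)

lemma ses_cochain_surjective (n : ℕ)
    (hsurj : ∀ x : Fin (n + 1) → ι, Function.Surjective (S.g.hom.app (op (cechOpen U x))))
    (q : CechCochain U S.X₃.obj n) :
    ∃ i : CechCochain U S.X₂.obj n, cochainMap U S.g.hom n i = q := by
  choose i hi using fun x => hsurj x (q x)
  exact ⟨i, funext hi⟩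

include hS in
/-- Shift up: Čech acyclicity of the kernel and middle term gives that of the quotient. -/
theorem cech_shift_up (n : ℕ)
    (hsurj : ∀ x : Fin (n + 2) → ι, Function.Surjective (S.g.hom.app (op (cechOpen U x))))
    (h₁ : IsZero (CohTop.cechH S.X₁.obj U (n + 2)))
    (h₂ : IsZero (CohTop.cechH S.X₂.obj U (n + 1))) :
    IsZero (CohTop.cechH S.X₃.obj U (n + 1)) := by
  rw [isZero_cechH_succ_iff] at h₁ h₂ ⊢
  intro q hq
  obtain ⟨i, rfl⟩ := ses_cochain_surjective U S (n + 1) hsurj q
  rw [← cochainMap_coboundary] at hq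
  obtain ⟨e, he⟩ := ses_cochain_exact U S hS (n + 2) _ hq
  have hde : cechCoboundary U S.X₁.obj (n + 2) e = 0 := by
    apply ses_cochain_injective U S hS
    rw [cochainMap_coboundary, he, cechCoboundary_comp, cochainMap_zero]
  obtain ⟨e', rfl⟩ := h₁ e hde
  have hcl : cechCoboundary U S.X₂.obj (n + 1) (i - cochainMap U S.f.hom (n + 1) e') = 0 := by
    rw [cechCoboundary_sub, ← cochainMap_coboundary, he, sub_self]
  obtain ⟨i', hi'⟩ := h₂ _ hcl
  refine ⟨cochainMap U S.g.hom n i', ?_⟩
  rw [← cochainMap_coboundary, hi', cochainMap_sub, ses_cochain_gf U S hS, sub_zero]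

include hS in
/-- Shift down: Čech acyclicity of the quotient and middle term gives that of the kernel one
degree up. -/
theorem cech_shift_down (n : ℕ)
    (hsurj : ∀ x : Fin (n + 1) → ι, Function.Surjective (S.g.hom.app (op (cechOpen U x))))
    (h₃ : IsZero (CohTop.cechH S.X₃.obj U (n + 1)))
    (h₂ : IsZero (CohTop.cechH S.X₂.obj U (n + 2))) :
    IsZero (CohTop.cechH S.X₁.obj U (n + 2)) := by
  rw [isZero_cechH_succ_iff] at h₃ h₂ ⊢
  intro e he
  have h1 : cechCoboundary U S.X₂.obj (n + 2) (cochainMap U S.f.hom (n + 2) e) = 0 := by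
    rw [← cochainMap_coboundary, he, cochainMap_zero]
  obtain ⟨i, hi⟩ := h₂ _ h1
  have h2 : cechCoboundary U S.X₃.obj (n + 1) (cochainMap U S.g.hom (n + 1) i) = 0 := by
    rw [← cochainMap_coboundary, hi, ses_cochain_gf U S hS]
  obtain ⟨q', hq'⟩ := h₃ _ h2
  obtain ⟨i', rfl⟩ := ses_cochain_surjective U S n hsurj q'
  have h3 : cochainMap U S.g.hom (n + 1) (i - cechCoboundary U S.X₂.obj n i') = 0 := by
    rw [cochainMap_sub, cochainMap_coboundary, hq', sub_self]
  obtain ⟨e', he'⟩ := ses_cochain_exact U S hS (n + 1) _ h3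
  refine ⟨e', ?_⟩
  apply ses_cochain_injective U S hS
  rw [cochainMap_coboundary, he', cechCoboundary_sub, cechCoboundary_comp, sub_zero, hi]

end SES

section Glue

variable (P : (Opens X)ᵒᵖ ⥤ AddCommGrpCat.{u})

lemma cechOpen_le_iSup {n : ℕ} (x : Fin (n + 1) → ι) : cechOpen U x ≤ iSup U :=
  (cechOpen_le U x 0).trans (le_iSup U (x 0))

/-- The cochain of restrictions of a section over the union. -/
noncomputable def cechRes (n : ℕ) (t : P.obj (op (iSup U))) : CechCochain U P n :=
  fun x => res P (cechOpen_le_iSup U x) t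

lemma cechRes_apply (n : ℕ) (t : P.obj (op (iSup U))) (x : Fin (n + 1) → ι) :
    cechRes U P n t x = res P (cechOpen_le_iSup U x) t := rfl

lemma cechCoboundary_cechRes (t : P.obj (op (iSup U))) :
    cechCoboundary U P 0 (cechRes U P 0 t) = 0 := by
  funext y
  have h : ∀ i : Fin 2, (P.map (homOfLE (cechOpen_face_le U y i)).op)
      (cechRes U P 0 t (y ∘ Fin.succAbove i)) = res P (cechOpen_le_iSup U y) t := by
    intro i
    rw [← res_apply, cechRes_apply, res_res]
  change ∑ i : Fin 2, (-1 : ℤ) ^ (i : ℕ) • (P.map (homOfLE (cechOpen_face_le U y i)).op)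
      (cechRes U P 0 t (y ∘ Fin.succAbove i)) = 0
  simp only [h, Fin.sum_univ_two]
  simp

lemma cochainMap_cechRes {P Q : (Opens X)ᵒᵖ ⥤ AddCommGrpCat.{u}} (φ : P ⟶ Q) (n : ℕ)
    (t : P.obj (op (iSup U))) :
    cochainMap U φ n (cechRes U P n t) = cechRes U Q n (φ.app (op (iSup U)) t) := by
  funext x
  simp only [cochainMap, cechRes_apply]
  exact res_naturality φ _ t

lemma cochain_transport {n : ℕ} (b : CechCochain U P n) (x x' : Fin (n + 1) → ι) (hx : x = x')
    (V : Opens X) (h : V ≤ cechOpen U x) (h' : V ≤ cechOpen U x') :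
    res P h (b x) = res P h' (b x') := by
  subst hx
  rfl

/-- A 0-cocycle of a sheaf glues to a section over the union. -/
lemma exists_cechRes_eq (F : CohTop.Ab X) (q : CechCochain U F.obj 0)
    (hq : cechCoboundary U F.obj 0 q = 0) :
    ∃ s : F.obj.obj (op (iSup U)), cechRes U F.obj 0 s = q := by
  have hx1 : ∀ k : ι, U k ≤ cechOpen U (fun _ : Fin 1 => k) := by
    intro k
    rw [cechOpen_eq]
    exact le_iInf fun _ => le_rfl
  let q' : ∀ k, F.obj.obj (op (U k)) := fun k => res F.obj (hx1 k) (q (fun _ => k))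
  have hV : ∀ k l : ι, U k ⊓ U l ≤ cechOpen U ![k, l] := by
    intro k l
    rw [cechOpen_eq]
    refine le_iInf fun a => ?_
    fin_cases a
    · exact inf_le_left
    · exact inf_le_right
  have hV0 : ∀ k l : ι, cechOpen U ![k, l] ≤ U k := fun k l => cechOpen_le U ![k, l] 0
  have hV1 : ∀ k l : ι, cechOpen U ![k, l] ≤ U l := fun k l => cechOpen_le U ![k, l] 1
  have hdiff : ∀ k l : ι, res F.obj (hV0 k l) (q' k) = res F.obj (hV1 k l) (q' l) := by
    intro k l
    have h2 := congrFun hq ![k, l]
    have e0 : (![k, l] ∘ Fin.succAbove (0 : Fin 2)) = (fun _ : Fin 1 => l) := by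
      funext a; fin_cases a; rfl
    have e1 : (![k, l] ∘ Fin.succAbove (1 : Fin 2)) = (fun _ : Fin 1 => k) := by
      funext a; fin_cases a; rfl
    change ∑ i : Fin 2, (-1 : ℤ) ^ (i : ℕ) •
      (F.obj.map (homOfLE (cechOpen_face_le U ![k, l] i)).op) (q (![k, l] ∘ Fin.succAbove i)) = 0 at h2
    rw [Fin.sum_univ_two] at h2
    simp only [Fin.val_zero, pow_zero, one_smul, Fin.val_one, pow_one, neg_smul] at h2
    change res F.obj _ (q _) + -res F.obj _ (q _) = 0 at h2
    rw [cochain_transport U F.obj q _ _ e0 _ _ ((hV1 k l).trans (hx1 l)),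
      cochain_transport U F.obj q _ _ e1 _ _ ((hV0 k l).trans (hx1 k))] at h2
    dsimp only [q']
    rw [res_res, res_res]
    have h3 := eq_neg_of_add_eq_zero_left h2
    rw [neg_neg] at h3
    exact h3.symm
  have hcompat : TopCat.Presheaf.IsCompatible F.obj U q' := by
    intro k l
    have h := congrArg (res F.obj (hV k l)) (hdiff k l)
    rw [res_res F.obj (hV k l) (hV0 k l) (q' k), res_res F.obj (hV k l) (hV1 k l) (q' l)] at h
    exact h
  obtain ⟨s, hs, -⟩ := TopCat.Sheaf.existsUnique_gluing' (F := F) U (iSup U)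
    (fun k => homOfLE (le_iSup U k)) le_rfl q' hcompat
  refine ⟨s, ?_⟩
  funext x
  rw [cechRes_apply]
  have h1 : res F.obj (le_iSup U (x 0)) s = q' (x 0) := hs (x 0)
  have h2 : res F.obj (cechOpen_le_iSup U x) s =
      res F.obj (cechOpen_le U x 0) (res F.obj (le_iSup U (x 0)) s) := by
    rw [res_res]
  rw [h2, h1]
  dsimp only [q']
  rw [res_res]
  have e : (fun _ : Fin 1 => x 0) = x := by
    funext a; fin_cases a; rfl
  rw [cochain_transport U F.obj q _ _ e _ _ le_rfl, res_self]

end Glue

section Base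

variable (S : ShortComplex (CohTop.Ab X)) (hS : S.ShortExact)

include hS in
/-- Base case: if `G ⟶ H` is surjective on sections over the union, then vanishing of `Ȟ¹` of the
middle term gives that of the kernel. -/
theorem cech_h1_of_surjective
    (hsurj : Function.Surjective (S.g.hom.app (op (iSup U))))
    (h₂ : IsZero (CohTop.cechH S.X₂.obj U 1)) :
    IsZero (CohTop.cechH S.X₁.obj U 1) := by
  rw [isZero_cechH_succ_iff] at h₂ ⊢
  intro e he
  have h1 : cechCoboundary U S.X₂.obj 1 (cochainMap U S.f.hom 1 e) = 0 := by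
    rw [← cochainMap_coboundary, he, cochainMap_zero]
  obtain ⟨i, hi⟩ := h₂ _ h1
  have h2 : cechCoboundary U S.X₃.obj 0 (cochainMap U S.g.hom 0 i) = 0 := by
    rw [← cochainMap_coboundary, hi, ses_cochain_gf U S hS]
  obtain ⟨s, hs⟩ := exists_cechRes_eq U S.X₃ _ h2
  obtain ⟨t, rfl⟩ := hsurj s
  have h3 : cochainMap U S.g.hom 0 (i - cechRes U S.X₂.obj 0 t) = 0 := by
    rw [cochainMap_sub, cochainMap_cechRes, hs, sub_self]
  obtain ⟨e', he'⟩ := ses_cochain_exact U S hS 0 _ h3
  refine ⟨e', ?_⟩
  apply ses_cochain_injective U S hS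
  rw [cochainMap_coboundary, he', cechCoboundary_sub, cechCoboundary_cechRes, sub_zero, hi]

end Base

end Groth.Agent.Lib.Lead
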