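import Groth.Agent.Lib.Lead.CechInjective

/-!
# Vanishing of Čech `H¹` gives surjectivity on sections
-/

universe u

open CategoryTheory CategoryTheory.Limits TopologicalSpace Opposite

namespace Groth.Agent.Lib.Lead

section Res

variable {X : TopCat.{u}}

/-- Restriction of sections of a presheaf of abelian groups. -/
noncomputable def res (P : (Opens X)ᵒᵖ ⥤ AddCommGrpCat.{u}) {V V' : Opens X} (h : V ≤ V') :
    P.obj (op V') →+ P.obj (op V) :=
  (P.map (homOfLE h).op).hom

lemma res_apply (P : (Opens X)ᵒᵖ ⥤ AddCommGrpCat.{u}) {V V' : Opens X} (h : V ≤ V')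
    (s : P.obj (op V')) : res P h s = P.map (homOfLE h).op s := rfl

@[simp]
lemma res_res (P : (Opens X)ᵒᵖ ⥤ AddCommGrpCat.{u}) {V V' V'' : Opens X} (h : V ≤ V') (h' : V' ≤ V'')
    (s : P.obj (op V'')) : res P h (res P h' s) = res P (h.trans h') s := by
  rw [res_apply, res_apply, res_apply, ← ConcreteCategory.comp_apply, ← P.map_comp]
  rfl

@[simp]
lemma res_self (P : (Opens X)ᵒᵖ ⥤ AddCommGrpCat.{u}) {V : Opens X} (h : V ≤ V)
    (s : P.obj (op V)) : res P h s = s := by
  rw [res_apply]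
  change (P.map (𝟙 _)) s = s
  rw [P.map_id]
  rfl

lemma res_naturality {P Q : (Opens X)ᵒᵖ ⥤ AddCommGrpCat.{u}} (φ : P ⟶ Q) {V V' : Opens X}
    (h : V ≤ V') (s : P.obj (op V')) :
    φ.app (op V) (res P h s) = res Q h (φ.app (op V') s) := by
  rw [res_apply, res_apply]
  exact NatTrans.naturality_apply φ (homOfLE h).op s

end Res


section H1

variable {X : TopCat.{u}}

lemma sheaf_sections_injective_of_mono {F G : CohTop.Ab X} (f : F ⟶ G) [Mono f] (V : Opens X) :
    Function.Injective (f.hom.app (op V)) := by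
  have h1 : Mono f.hom := (Sheaf.Hom.mono_iff_presheaf_mono _ _ f).1 inferInstance
  have h2 : Mono (f.hom.app (op V)) := inferInstance
  exact (AddCommGrpCat.mono_iff_injective _).1 h2


/-- Gluing local lifts when the first Čech cohomology of the kernel vanishes. -/
theorem exists_lift_of_cech_h1 (S : ShortComplex (CohTop.Ab X)) (hS : S.ShortExact)
    (U : Opens X) {κ : Type u} (W : κ → Opens X) (hW : iSup W = U)
    (hH1 : IsZero (CohTop.cechH S.X₁.obj W 1))
    (s : S.X₃.obj.obj (op U)) (t' : ∀ k, S.X₂.obj.obj (op (W k)))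
    (ht' : ∀ k, S.g.hom.app (op (W k)) (t' k) = res S.X₃.obj (hW ▸ le_iSup W k) s) :
    ∃ t : S.X₂.obj.obj (op U), S.g.hom.app (op U) t = s := by
  have hle : ∀ k, W k ≤ U := fun k => hW ▸ le_iSup W k
  haveI := hS.mono_f
  have finj : ∀ V : Opens X, Function.Injective (S.f.hom.app (op V)) :=
    fun V => sheaf_sections_injective_of_mono S.f V
  have gf : ∀ (V : Opens X) (z : S.X₁.obj.obj (op V)),
      S.g.hom.app (op V) (S.f.hom.app (op V) z) = 0 := by
    intro V z
    have h := S.zero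
    have h' : S.f.hom ≫ S.g.hom = 0 := by
      rw [← ObjectProperty.FullSubcategory.comp_hom, h]; rfl
    have h'' := congrArg (fun φ => φ.app (op V)) h'
    exact ConcreteCategory.congr_hom h'' z
  have ex : ∀ (V : Opens X) (z : S.X₂.obj.obj (op V)), S.g.hom.app (op V) z = 0 →
      ∃ c : S.X₁.obj.obj (op V), S.f.hom.app (op V) c = z :=
    fun V z hz => TopCat.Sheaf.sections_exact_of_left_exact hS.exact hS.mono_f z hz
  -- Step 1: the difference cochain
  have h1 : ∀ x : Fin 2 → κ, ∃ c : S.X₁.obj.obj (op (cechOpen W x)),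
      S.f.hom.app _ c = res S.X₂.obj (cechOpen_le W x 1) (t' (x 1)) -
        res S.X₂.obj (cechOpen_le W x 0) (t' (x 0)) := by
    intro x
    apply ex
    rw [map_sub, res_naturality, res_naturality, ht', ht', res_res, res_res, sub_self]
  choose c hc using h1
  -- Step 2: it is a cocycle
  have hcoc : ∀ y : Fin 3 → κ, ∑ i : Fin 3, (-1 : ℤ) ^ (i : ℕ) •
      (S.X₁.obj.map (homOfLE (cechOpen_face_le W y i)).op) (c (y ∘ Fin.succAbove i)) = 0 := by
    intro y
    apply finj
    rw [map_sum, map_zero]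
    have key : ∀ i : Fin 3, S.f.hom.app (op (cechOpen W y))
        ((-1 : ℤ) ^ (i : ℕ) • (S.X₁.obj.map (homOfLE (cechOpen_face_le W y i)).op) (c (y ∘ Fin.succAbove i))) =
        (-1 : ℤ) ^ (i : ℕ) • (res S.X₂.obj (cechOpen_le W y (Fin.succAbove i 1)) (t' (y (Fin.succAbove i 1))) -
          res S.X₂.obj (cechOpen_le W y (Fin.succAbove i 0)) (t' (y (Fin.succAbove i 0)))) := by
      intro i
      rw [map_zsmul]
      congr 1
      have := res_naturality S.f.hom (cechOpen_face_le W y i) (c (y ∘ Fin.succAbove i))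
      rw [res_apply] at this
      rw [this, hc, map_sub, res_res, res_res]
      rfl
    simp only [key]
    rw [Fin.sum_univ_three]
    change (-1 : ℤ) ^ (0 : ℕ) • (res S.X₂.obj (cechOpen_le W y 2) (t' (y 2)) -
        res S.X₂.obj (cechOpen_le W y 1) (t' (y 1))) +
      (-1 : ℤ) ^ (1 : ℕ) • (res S.X₂.obj (cechOpen_le W y 2) (t' (y 2)) -
        res S.X₂.obj (cechOpen_le W y 0) (t' (y 0))) +
      (-1 : ℤ) ^ (2 : ℕ) • (res S.X₂.obj (cechOpen_le W y 1) (t' (y 1)) -
        res S.X₂.obj (cechOpen_le W y 0) (t' (y 0))) = 0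
    simp only [pow_zero, one_smul, pow_one, neg_smul, even_two, Even.neg_pow, one_pow]
    abel
  -- Step 3: it is a coboundary
  obtain ⟨b, hb⟩ := (isZero_cech_homology_succ_iff' W S.X₁.obj 0).1 hH1 c hcoc
  -- Step 4: corrected local lifts
  have hx1 : ∀ k : κ, W k ≤ cechOpen W (fun _ : Fin 1 => k) := by
    intro k
    rw [cechOpen_eq]
    exact le_iInf fun _ => le_rfl
  have btr : ∀ (x x' : Fin 1 → κ) (hx : x = x') (V : Opens X) (h : V ≤ cechOpen W x)
      (h' : V ≤ cechOpen W x'), res S.X₁.obj h (b x) = res S.X₁.obj h' (b x') := by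
    intro x x' hx V h h'
    subst hx
    rfl
  let b' : ∀ k, S.X₁.obj.obj (op (W k)) := fun k => res S.X₁.obj (hx1 k) (b (fun _ => k))
  let t'' : ∀ k, S.X₂.obj.obj (op (W k)) := fun k => t' k - S.f.hom.app (op (W k)) (b' k)
  have hV : ∀ k l : κ, W k ⊓ W l ≤ cechOpen W ![k, l] := by
    intro k l
    rw [cechOpen_eq]
    refine le_iInf fun a => ?_
    fin_cases a
    · exact inf_le_left
    · exact inf_le_right
  have hV0 : ∀ k l : κ, cechOpen W ![k, l] ≤ W k := fun k l => cechOpen_le W ![k, l] 0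
  have hV1 : ∀ k l : κ, cechOpen W ![k, l] ≤ W l := fun k l => cechOpen_le W ![k, l] 1
  have hdiff : ∀ k l : κ, res S.X₂.obj (hV0 k l) (t'' k) = res S.X₂.obj (hV1 k l) (t'' l) := by
    intro k l
    have h2 := hb ![k, l]
    rw [Fin.sum_univ_two] at h2
    have e0 : (![k, l] ∘ Fin.succAbove (0 : Fin 2)) = (fun _ : Fin 1 => l) := by
      funext a; fin_cases a; rfl
    have e1 : (![k, l] ∘ Fin.succAbove (1 : Fin 2)) = (fun _ : Fin 1 => k) := by
      funext a; fin_cases a; rfl
    have h3 := congrArg (S.f.hom.app (op (cechOpen W ![k, l]))) h2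
    rw [hc] at h3
    simp only [Fin.val_zero, pow_zero, one_smul, Fin.val_one, pow_one, neg_smul, map_add, map_neg] at h3
    change S.f.hom.app _ (res S.X₁.obj _ (b _)) + -S.f.hom.app _ (res S.X₁.obj _ (b _)) =
      res S.X₂.obj (hV1 k l) (t' l) - res S.X₂.obj (hV0 k l) (t' k) at h3
    rw [btr _ _ e0 _ _ ((hV1 k l).trans (hx1 l)), btr _ _ e1 _ _ ((hV0 k l).trans (hx1 k))] at h3
    dsimp only [t'', b']
    rw [map_sub, map_sub, ← res_naturality, ← res_naturality, res_res, res_res]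
    rw [sub_eq_sub_iff_add_eq_add]
    have h6 := eq_add_of_sub_eq' h3.symm
    rw [h6]
    abel
  -- Step 5: glue
  have hcompat : TopCat.Presheaf.IsCompatible S.X₂.obj W t'' := by
    intro k l
    have h := congrArg (res S.X₂.obj (hV k l)) (hdiff k l)
    rw [res_res, res_res] at h
    exact h
  have hcover : U ≤ iSup W := hW ▸ le_rfl
  obtain ⟨t, ht, -⟩ := TopCat.Sheaf.existsUnique_gluing' (F := S.X₂) W U
    (fun k => homOfLE (hle k)) hcover t'' hcompat
  refine ⟨t, ?_⟩
  refine TopCat.Sheaf.eq_of_locally_eq' S.X₃ W U (fun k => homOfLE (hle k)) hcover _ _ (fun k => ?_)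
  have h1 := res_naturality S.g.hom (hle k) t
  rw [res_apply, res_apply] at h1
  rw [← h1]
  have h2 : S.X₂.obj.map (homOfLE (hle k)).op t = t'' k := ht k
  rw [h2]
  dsimp only [t'']
  rw [map_sub, gf, sub_zero, ht']
  rfl

end H1

end Groth.Agent.Lib.Lead
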