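import Groth.Agent.Lib.Lead.CechExplicit

/-!
# Injective sheaves are Čech-acyclic
-/

universe u

open CategoryTheory CategoryTheory.Limits TopologicalSpace Opposite

namespace Groth.Agent.Lib.Lead

section Injective

variable {X : TopCat.{u}}

/-- The underlying presheaf of an injective abelian sheaf is an injective presheaf. -/
lemma injective_presheaf_of_injective_sheaf (I : CohTop.Ab X) [Injective I] :
    Injective (I.obj : (Opens X)ᵒᵖ ⥤ AddCommGrpCat.{u}) := by
  have := Injective.injective_of_adjoint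
    (sheafificationAdjunction (Opens.grothendieckTopology X) AddCommGrpCat.{u}) I
  exact this

end Injective

section Evaluation

/-- Exactness in a functor category can be checked objectwise. -/
lemma shortComplex_exact_of_evaluation {T : Type*} [Category T] {V : Type*} [Category V] [Abelian V]
    (S : ShortComplex (T ⥤ V))
    (h : ∀ t : T, (S.map ((evaluation T V).obj t)).Exact) : S.Exact := by
  rw [ShortComplex.exact_iff_isZero_homology, Functor.isZero_iff]
  intro t
  have e := S.mapHomologyIso ((evaluation T V).obj t)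
  exact (Iso.isZero_iff e).1 ((ShortComplex.exact_iff_isZero_homology _).1 (h t))

end Evaluation

section Free

variable {X : TopCat.{u}} {ι : Type u} (U : ι → Opens X)

/-- Index set of the free presheaf `cechK U n` at `W`. -/
abbrev cechIdx (n : ℕ) (W : Opens X) : Type u := {x : Fin (n + 1) → ι // W ≤ cechOpen U x}

/-- The free abelian presheaf representing degree `n` Čech cochains. -/
noncomputable def cechK (n : ℕ) : (Opens X)ᵒᵖ ⥤ AddCommGrpCat.{u} where
  obj W := AddCommGrpCat.of (FreeAbelianGroup (cechIdx U n W.unop))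
  map {W W'} f := AddCommGrpCat.ofHom
    (FreeAbelianGroup.map (fun x : cechIdx U n W.unop => (⟨x.1, (leOfHom f.unop).trans x.2⟩ : cechIdx U n W'.unop)))
  map_id W := by
    ext x
    simp
  map_comp f g := by
    ext x
    simp


/-- Generators of `cechK`. -/
noncomputable def cechKGen (n : ℕ) (W : (Opens X)ᵒᵖ) (x : cechIdx U n W.unop) : (cechK U n).obj W :=
  FreeAbelianGroup.of x

/-- Face maps on index sets. -/
def cechIdxFace (n : ℕ) (i : Fin (n + 2)) (W : Opens X) (x : cechIdx U (n + 1) W) : cechIdx U n W :=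
  ⟨x.1 ∘ i.succAbove, x.2.trans (cechOpen_face_le U x.1 i)⟩

/-- Face maps `K_{n+1} ⟶ K_n`. -/
noncomputable def cechKFace (n : ℕ) (i : Fin (n + 2)) : cechK U (n + 1) ⟶ cechK U n where
  app W := AddCommGrpCat.ofHom (FreeAbelianGroup.map (cechIdxFace U n i W.unop))
  naturality W W' f := by
    refine AddCommGrpCat.hom_ext (FreeAbelianGroup.lift_ext _ _ fun x => ?_)
    simp only [cechK, AddCommGrpCat.hom_comp, AddCommGrpCat.hom_ofHom, AddMonoidHom.comp_apply,
      FreeAbelianGroup.map_of_apply]
    rfl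

/-- The differential `K_{n+1} ⟶ K_n`. -/
noncomputable def cechKd (n : ℕ) : cechK U (n + 1) ⟶ cechK U n :=
  ∑ i : Fin (n + 2), (-1 : ℤ) ^ (i : ℕ) • cechKFace U n i

variable (P : (Opens X)ᵒᵖ ⥤ AddCommGrpCat.{u})

/-- Explicit Čech cochains. -/
abbrev CechCochain (n : ℕ) : Type u := (x : Fin (n + 1) → ι) → P.obj (op (cechOpen U x))

/-- Explicit Čech differential. -/
noncomputable def cechCoboundary (n : ℕ) (c : CechCochain U P n) : CechCochain U P (n + 1) :=
  fun y => ∑ i : Fin (n + 2), (-1 : ℤ) ^ (i : ℕ) •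
    (P.map (homOfLE (cechOpen_face_le U y i)).op) (c (y ∘ Fin.succAbove i))

/-- The morphism `K_n ⟶ P` attached to a cochain. -/
noncomputable def cechKDesc (n : ℕ) (c : CechCochain U P n) : cechK U n ⟶ P where
  app W := AddCommGrpCat.ofHom
    (FreeAbelianGroup.lift (fun x : cechIdx U n W.unop => P.map (homOfLE x.2).op (c x.1)))
  naturality W W' f := by
    refine AddCommGrpCat.hom_ext (FreeAbelianGroup.lift_ext _ _ fun x => ?_)
    simp only [cechK, AddCommGrpCat.hom_comp, AddCommGrpCat.hom_ofHom, AddMonoidHom.comp_apply,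
      FreeAbelianGroup.map_of_apply, FreeAbelianGroup.lift_apply_of]
    change _ = (P.map (homOfLE x.2).op ≫ P.map f) (c x.1)
    rw [← P.map_comp]
    rfl

/-- The cochain attached to a morphism `K_n ⟶ P`. -/
noncomputable def cechKEval (n : ℕ) (ψ : cechK U n ⟶ P) : CechCochain U P n :=
  fun x => ψ.app (op (cechOpen U x)) (cechKGen U n (op (cechOpen U x)) ⟨x, le_rfl⟩)


lemma cechKDesc_app_of (n : ℕ) (c : CechCochain U P n) (W : (Opens X)ᵒᵖ) (x : cechIdx U n W.unop) :
    (cechKDesc U P n c).app W (cechKGen U n W x) = P.map (homOfLE x.2).op (c x.1) :=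
  FreeAbelianGroup.lift_apply_of _ _

lemma cechKEval_desc (n : ℕ) (c : CechCochain U P n) :
    cechKEval U P n (cechKDesc U P n c) = c := by
  funext x
  dsimp only [cechKEval]
  rw [cechKDesc_app_of]
  change (P.map (𝟙 _)) (c x) = c x
  rw [P.map_id]
  rfl

lemma cechK_hom_ext (n : ℕ) {ψ ψ' : cechK U n ⟶ P}
    (h : ∀ (W : (Opens X)ᵒᵖ) (x : cechIdx U n W.unop),
      ψ.app W (cechKGen U n W x) = ψ'.app W (cechKGen U n W x)) : ψ = ψ' := by
  ext W : 2
  exact AddCommGrpCat.hom_ext (FreeAbelianGroup.lift_ext _ _ (h W))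

lemma cechK_map_of (n : ℕ) {W W' : (Opens X)ᵒᵖ} (f : W ⟶ W') (x : cechIdx U n W.unop) :
    (cechK U n).map f (cechKGen U n W x) =
      cechKGen U n W' ⟨x.1, (leOfHom f.unop).trans x.2⟩ :=
  FreeAbelianGroup.map_of_apply _

lemma cechKDesc_eval (n : ℕ) (ψ : cechK U n ⟶ P) :
    cechKDesc U P n (cechKEval U P n ψ) = ψ := by
  apply cechK_hom_ext
  intro W x
  rw [cechKDesc_app_of]
  dsimp only [cechKEval]
  have := ConcreteCategory.congr_hom (ψ.naturality (homOfLE x.2).op)
    (cechKGen U n (op (cechOpen U x.1)) ⟨x.1, le_rfl⟩)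
  rw [ConcreteCategory.comp_apply, ConcreteCategory.comp_apply] at this
  rw [← this, cechK_map_of]


lemma cechKd_app_of (n : ℕ) (W : (Opens X)ᵒᵖ) (y : cechIdx U (n + 1) W.unop) :
    (cechKd U n).app W (cechKGen U (n + 1) W y) =
      ∑ i : Fin (n + 2), (-1 : ℤ) ^ (i : ℕ) • cechKGen U n W (cechIdxFace U n i W.unop y) := by
  dsimp only [cechKd]
  rw [NatTrans.app_sum, addCommGrpCat_sum_apply]
  refine Finset.sum_congr rfl fun i _ => ?_
  rw [NatTrans.app_zsmul, addCommGrpCat_zsmul_apply]
  congr 1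

lemma cechKd_desc (n : ℕ) (c : CechCochain U P n) :
    cechKd U n ≫ cechKDesc U P n c = cechKDesc U P (n + 1) (cechCoboundary U P n c) := by
  apply cechK_hom_ext
  intro W y
  rw [NatTrans.comp_app, ConcreteCategory.comp_apply, cechKd_app_of, map_sum, cechKDesc_app_of]
  dsimp only [cechCoboundary]
  rw [map_sum]
  refine Finset.sum_congr rfl fun i _ => ?_
  rw [map_zsmul, map_zsmul, cechKDesc_app_of]
  congr 1
  change _ = (P.map _ ≫ P.map _) _
  rw [← P.map_comp]
  rfl


lemma cechEquiv_cechd (n : ℕ) (c : cechX U P n) :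
    cechEquiv U P (n + 1) (cechd U P n c) = cechCoboundary U P n (cechEquiv U P n c) := by
  funext y
  exact cechEquiv_d U P n c y

lemma cechd_comp_cechd (n : ℕ) (c : cechX U P n) : cechd U P (n + 1) (cechd U P n c) = 0 := by
  have h := (cechCx U P).d_comp_d n (n + 1) (n + 2)
  have h' := ConcreteCategory.congr_hom h c
  exact h'

lemma cechCoboundary_comp (n : ℕ) (c : CechCochain U P n) :
    cechCoboundary U P (n + 1) (cechCoboundary U P n c) = 0 := by
  obtain ⟨c', rfl⟩ := (cechEquiv U P n).surjective c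
  rw [← cechEquiv_cechd, ← cechEquiv_cechd, cechd_comp_cechd, map_zero]

lemma cechCoboundary_zero (n : ℕ) : cechCoboundary U P n 0 = 0 := by
  funext y
  simp [cechCoboundary]

lemma cechKDesc_zero (n : ℕ) : cechKDesc U P n 0 = 0 := by
  apply cechK_hom_ext
  intro W x
  rw [cechKDesc_app_of]
  simp

/-- `d ∘ d = 0` for the free presheaf complex. -/
lemma cechKd_comp (n : ℕ) : cechKd U (n + 1) ≫ cechKd U n = 0 := by
  have h1 : cechKd U n = cechKDesc U (cechK U n) (n + 1)
      (cechCoboundary U (cechK U n) n (cechKEval U (cechK U n) n (𝟙 _))) := by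
    rw [← cechKd_desc, cechKDesc_eval, Category.comp_id]
  rw [h1, cechKd_desc, cechCoboundary_comp, cechKDesc_zero]


section Homotopy

variable {U} (W : (Opens X)ᵒᵖ) (i₀ : ι) (hi₀ : W.unop ≤ U i₀)

/-- Prepending a fixed index. -/
def cechIdxCons (m : ℕ) (x : cechIdx U m W.unop) : cechIdx U (m + 1) W.unop :=
  ⟨Fin.cons i₀ x.1, by
    rw [cechOpen_eq]
    refine le_iInf fun a => ?_
    refine Fin.cases ?_ (fun b => ?_) a
    · simpa using hi₀
    · simpa using x.2.trans (cechOpen_le U x.1 b)⟩

lemma cechIdxFace_zero_cons (m : ℕ) (y : cechIdx U m W.unop) :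
    cechIdxFace U m 0 W.unop (cechIdxCons W i₀ hi₀ m y) = y := by
  apply Subtype.ext
  funext a
  simp [cechIdxFace, cechIdxCons, Fin.succAbove_zero]

lemma cechIdxFace_succ_cons (m : ℕ) (k : Fin (m + 2)) (y : cechIdx U (m + 1) W.unop) :
    cechIdxFace U (m + 1) k.succ W.unop (cechIdxCons W i₀ hi₀ (m + 1) y) =
      cechIdxCons W i₀ hi₀ m (cechIdxFace U m k W.unop y) := by
  apply Subtype.ext
  funext a
  refine Fin.cases ?_ (fun b => ?_) a
  · simp [cechIdxFace, cechIdxCons]
  · simp [cechIdxFace, cechIdxCons, Fin.removeNth]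


/-- The contracting homotopy on sections over `W`. -/
noncomputable def cechKh (m : ℕ) : (cechK U m).obj W →+ (cechK U (m + 1)).obj W :=
  FreeAbelianGroup.map (cechIdxCons W i₀ hi₀ m)

lemma cechKh_gen (m : ℕ) (x : cechIdx U m W.unop) :
    cechKh W i₀ hi₀ m (cechKGen U m W x) = cechKGen U (m + 1) W (cechIdxCons W i₀ hi₀ m x) :=
  FreeAbelianGroup.map_of_apply _

lemma cechK_homotopy (n : ℕ) (z : (cechK U (n + 1)).obj W) :
    (cechKd U (n + 1)).app W (cechKh W i₀ hi₀ (n + 1) z) =
      z - cechKh W i₀ hi₀ n ((cechKd U n).app W z) := by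
  have key : ((cechKd U (n + 1)).app W).hom.comp (cechKh W i₀ hi₀ (n + 1)) =
      AddMonoidHom.id _ - (cechKh W i₀ hi₀ n).comp ((cechKd U n).app W).hom := by
    refine FreeAbelianGroup.lift_ext _ _ fun y => ?_
    change (cechKd U (n + 1)).app W (cechKh W i₀ hi₀ (n + 1) (cechKGen U (n + 1) W y)) =
      cechKGen U (n + 1) W y - cechKh W i₀ hi₀ n ((cechKd U n).app W (cechKGen U (n + 1) W y))
    rw [cechKh_gen, cechKd_app_of, cechKd_app_of, Fin.sum_univ_succ, map_sum]
    simp only [Fin.val_zero, pow_zero, one_smul, cechIdxFace_zero_cons, Fin.val_succ,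
      cechIdxFace_succ_cons, map_zsmul, cechKh_gen, pow_succ, mul_neg, mul_one, neg_smul,
      Finset.sum_neg_distrib]
    abel
  exact DFunLike.congr_fun key z

/-- Sectionwise exactness of the free presheaf complex. -/
lemma cechK_exact_app (n : ℕ) (W : (Opens X)ᵒᵖ) (z : (cechK U (n + 1)).obj W)
    (hz : (cechKd U n).app W z = 0) :
    ∃ w : (cechK U (n + 2)).obj W, (cechKd U (n + 1)).app W w = z := by
  by_cases hne : Nonempty (cechIdx U (n + 1) W.unop)
  · obtain ⟨x₀⟩ := hne
    have hi₀ : W.unop ≤ U (x₀.1 0) := x₀.2.trans (cechOpen_le U x₀.1 0)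
    refine ⟨cechKh W (x₀.1 0) hi₀ (n + 1) z, ?_⟩
    rw [cechK_homotopy, hz, map_zero, sub_zero]
  · rw [not_nonempty_iff] at hne
    refine ⟨0, ?_⟩
    rw [map_zero]
    have : Subsingleton (FreeAbelianGroup (cechIdx U (n + 1) W.unop)) := by
      refine ⟨fun a b => ?_⟩
      have h0 : ∀ c : FreeAbelianGroup (cechIdx U (n + 1) W.unop), c = 0 := by
        intro c
        induction c using FreeAbelianGroup.induction_on with
        | zero => rfl
        | of x => exact (hne.false x).elim
        | neg x hx => exact (hne.false x).elim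
        | add x y hx hy => rw [hx, hy, add_zero]
      rw [h0 a, h0 b]
    exact Subsingleton.elim (α := FreeAbelianGroup (cechIdx U (n + 1) W.unop)) _ _

end Homotopy


/-- Čech cocycles of positive degree with values in an injective presheaf are coboundaries. -/
theorem cech_exact_of_injective_presheaf (I : (Opens X)ᵒᵖ ⥤ AddCommGrpCat.{u}) [Injective I]
    (n : ℕ) (c : CechCochain U I (n + 1)) (hc : cechCoboundary U I (n + 1) c = 0) :
    ∃ b : CechCochain U I n, cechCoboundary U I n b = c := by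
  let S : ShortComplex ((Opens X)ᵒᵖ ⥤ AddCommGrpCat.{u}) :=
    ShortComplex.mk (cechKd U (n + 1)) (cechKd U n) (cechKd_comp U n)
  have hS : S.Exact := shortComplex_exact_of_evaluation S (fun W => by
    rw [ShortComplex.ab_exact_iff]
    intro z hz
    exact cechK_exact_app n W z hz)
  have hφ : S.f ≫ cechKDesc U I (n + 1) c = 0 := by
    change cechKd U (n + 1) ≫ cechKDesc U I (n + 1) c = 0
    rw [cechKd_desc, hc, cechKDesc_zero]
  have hψ : cechKd U n ≫ hS.descToInjective _ hφ = cechKDesc U I (n + 1) c :=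
    hS.comp_descToInjective _ hφ
  refine ⟨cechKEval U I n (hS.descToInjective _ hφ), ?_⟩
  have h : cechKDesc U I (n + 1) (cechCoboundary U I n (cechKEval U I n (hS.descToInjective _ hφ))) =
      cechKDesc U I (n + 1) c := by
    rw [← cechKd_desc, cechKDesc_eval, hψ]
  have h' := congrArg (cechKEval U I (n + 1)) h
  rwa [cechKEval_desc, cechKEval_desc] at h'

end Free

/-- **Injective abelian sheaves are Čech-acyclic** for every family of opens. -/
theorem isZero_cechH_of_injective {X : TopCat.{u}} (I : CohTop.Ab X) [Injective I]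
    {ι : Type u} (U : ι → Opens X) (n : ℕ) : IsZero (CohTop.cechH I.obj U (n + 1)) := by
  haveI := injective_presheaf_of_injective_sheaf I
  change IsZero ((cechCx U I.obj).homology (n + 1))
  rw [isZero_cech_homology_succ_iff']
  intro c hc
  obtain ⟨b, hb⟩ := cech_exact_of_injective_presheaf U I.obj n c (funext hc)
  exact ⟨b, fun y => congrFun hb y⟩

end Groth.Agent.Lib.Lead
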