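import Groth.Prelude.Def_CohTop
import Groth.Agent.Lib.Lead.CechH1

/-!
# The free abelian sheaf `ℤ_U` on an open `U`, `Hom(ℤ_U, F) ≃ F(U)`, and dimension shifting

* `ZU U` is the object such that `CohTop.HU F n U = Ext (ZU U) F n` (by `rfl`).
* `ZUequiv U F : (ZU U ⟶ F) ≃ F(U)`, given by evaluation `ZUev` at the generator `ZUgen U`;
  natural in `F` (`ZUev_comp`) and in `U` (`ZUev_map`).
* `ZUmap h : ZU V ⟶ ZU U` for `V ≤ U` is a monomorphism.
* `ext_succ_eq_zero`: the abstract dimension shifting argument.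
* `HU_subsingleton_of_resolving`: the same for `CohTop.HU`.
-/

set_option autoImplicit false
universe w v u

open CategoryTheory TopologicalSpace Opposite CategoryTheory.Limits CategoryTheory.Abelian

namespace Groth.Agent.Lib.Lead

section Abstract

/-- Dimension shifting: if every object `F` of a class `P` embeds into an injective with cokernel
in `P`, in such a way that maps from `Z` to the cokernel lift to the injective, then
`Ext^{n+1}(Z, F) = 0` for all `F` in `P`. -/
theorem ext_succ_eq_zero {C : Type u} [Category.{v} C] [Abelian C] [HasExt.{w} C] (Z : C)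
    (P : C → Prop)
    (hP : ∀ F, P F → ∃ S : ShortComplex C, S.ShortExact ∧ S.X₁ = F ∧ Injective S.X₂ ∧ P S.X₃ ∧
      ∀ ψ : Z ⟶ S.X₃, ∃ ψ' : Z ⟶ S.X₂, ψ' ≫ S.g = ψ)
    (n : ℕ) : ∀ F, P F → ∀ x : Ext.{w} Z F (n + 1), x = 0 := by
  induction n with
  | zero =>
    intro F hF x
    obtain ⟨S, hS, rfl, hI, hQ, hlift⟩ := hP F hF
    obtain ⟨y, rfl⟩ := Ext.covariant_sequence_exact₁ Z hS x (Ext.eq_zero_of_injective _) (zero_add 1)
    obtain ⟨ψ, rfl⟩ := (Ext.mk₀_bijective _ _).surjective y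
    obtain ⟨ψ', rfl⟩ := hlift ψ
    rw [← Ext.mk₀_comp_mk₀, Ext.comp_assoc_of_second_deg_zero, hS.comp_extClass, Ext.comp_zero]
  | succ n ih =>
    intro F hF x
    obtain ⟨S, hS, rfl, hI, hQ, hlift⟩ := hP F hF
    obtain ⟨y, rfl⟩ := Ext.covariant_sequence_exact₁ Z hS x (Ext.eq_zero_of_injective _) rfl
    rw [ih _ hQ y, Ext.zero_comp]

end Abstract

variable {X : TopCat.{u}}

/-- The free abelian presheaf on the representable presheaf of `U`. -/
noncomputable abbrev ZUpre (U : Opens X) : (Opens X)ᵒᵖ ⥤ AddCommGrpCat.{u} :=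
  yoneda.obj U ⋙ AddCommGrpCat.free

/-- The free abelian sheaf on the open `U`. -/
noncomputable abbrev ZU (U : Opens X) : CohTop.Ab X :=
  (presheafToSheaf (Opens.grothendieckTopology X) AddCommGrpCat.{u}).obj (ZUpre U)

lemma HU_eq (F : CohTop.Ab X) (n : ℕ) (U : Opens X) :
    CohTop.HU F n U = Ext (ZU U) F n := rfl

/-- The canonical generator of `ℤ_U` over `U`. -/
noncomputable def ZUgen (U : Opens X) : (ZU U).obj.obj (op U) :=
  ((toSheafify (Opens.grothendieckTopology X) (ZUpre U)).app (op U)).hom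
    (FreeAbelianGroup.of (𝟙 U))

/-- Evaluation at the generator. -/
noncomputable def ZUev (U : Opens X) (F : CohTop.Ab X) (φ : ZU U ⟶ F) : F.obj.obj (op U) :=
  (φ.hom.app (op U)).hom (ZUgen U)

/-- The adjunction equivalence. -/
noncomputable def ZUequiv (U : Opens X) (F : CohTop.Ab X) : (ZU U ⟶ F) ≃ F.obj.obj (op U) :=
  ((sheafificationAdjunction (Opens.grothendieckTopology X) AddCommGrpCat.{u}).homEquiv
      (ZUpre U) F).trans
    (((Adjunction.whiskerRight (Opens X)ᵒᵖ AddCommGrpCat.adj.{u}).homEquiv (yoneda.obj U) F.obj).trans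
      yonedaEquiv)

lemma ZUequiv_apply (U : Opens X) (F : CohTop.Ab X) (φ : ZU U ⟶ F) :
    ZUequiv U F φ = ZUev U F φ := by
  unfold ZUequiv ZUev ZUgen
  simp only [Equiv.trans_apply]
  rw [yonedaEquiv_apply]
  rw [Adjunction.homEquiv_unit, Adjunction.homEquiv_unit]
  simp
  rfl

lemma ZUev_bijective (U : Opens X) (F : CohTop.Ab X) : Function.Bijective (ZUev U F) := by
  have h : ZUev U F = ZUequiv U F := funext fun φ => (ZUequiv_apply U F φ).symm
  rw [h]
  exact (ZUequiv U F).bijective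

lemma ZUev_comp (U : Opens X) {F G : CohTop.Ab X} (φ : ZU U ⟶ F) (f : F ⟶ G) :
    ZUev U G (φ ≫ f) = f.hom.app (op U) (ZUev U F φ) := by
  unfold ZUev
  rfl

/-- If `g` is surjective on sections over `U`, maps `ℤ_U ⟶ H` lift along `g`. -/
lemma ZU_lift (U : Opens X) {G H : CohTop.Ab X} (g : G ⟶ H)
    (hg : Function.Surjective (g.hom.app (op U))) (ψ : ZU U ⟶ H) :
    ∃ ψ' : ZU U ⟶ G, ψ' ≫ g = ψ := by
  obtain ⟨t, ht⟩ := hg (ZUev U H ψ)
  obtain ⟨ψ', hψ'⟩ := (ZUev_bijective U G).2 t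
  refine ⟨ψ', (ZUev_bijective U H).1 ?_⟩
  rw [ZUev_comp, hψ', ht]

/-- Dimension shifting for `CohTop.HU`. -/
theorem HU_subsingleton_of_resolving (B : Set (Opens X)) (P : CohTop.Ab X → Prop)
    (hP : ∀ F, P F → ∃ S : ShortComplex (CohTop.Ab X), S.ShortExact ∧ S.X₁ = F ∧ Injective S.X₂ ∧
      P S.X₃ ∧ ∀ U ∈ B, Function.Surjective (S.g.hom.app (op U)))
    (F : CohTop.Ab X) (hF : P F) (U : Opens X) (hU : U ∈ B) (n : ℕ) :
    Subsingleton (CohTop.HU F (n + 1) U) := by
  have h := ext_succ_eq_zero (ZU U) P (fun F hF => by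
    obtain ⟨S, hS, h1, h2, h3, h4⟩ := hP F hF
    exact ⟨S, hS, h1, h2, h3, fun ψ => ZU_lift U S.g (h4 U hU) ψ⟩) n F hF
  exact subsingleton_of_forall_eq 0 h

/-- The map of presheaves `ℤ_V^{pre} ⟶ ℤ_U^{pre}` for `V ≤ U`. -/
noncomputable def ZUpreMap {V U : Opens X} (h : V ≤ U) : ZUpre V ⟶ ZUpre U :=
  Functor.whiskerRight (yoneda.map (homOfLE h)) AddCommGrpCat.free

/-- The map `ℤ_V ⟶ ℤ_U` for `V ≤ U`. -/
noncomputable def ZUmap {V U : Opens X} (h : V ≤ U) : ZU V ⟶ ZU U :=
  (presheafToSheaf (Opens.grothendieckTopology X) AddCommGrpCat.{u}).map (ZUpreMap h)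

lemma ZUpreMap_gen {V U : Opens X} (h : V ≤ U) :
    (ConcreteCategory.hom ((ZUpreMap h).app (op V))) (FreeAbelianGroup.of (𝟙 V)) =
      (ConcreteCategory.hom ((ZUpre U).map (homOfLE h).op)) (FreeAbelianGroup.of (𝟙 U)) := by
  have e1 : (ConcreteCategory.hom ((ZUpreMap h).app (op V))) (FreeAbelianGroup.of (𝟙 V)) =
      FreeAbelianGroup.of (homOfLE h) := by
    dsimp only [ZUpreMap, Functor.whiskerRight_app, AddCommGrpCat.free_map]
    erw [FreeAbelianGroup.map_of_apply]
    congr 1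
  have e2 : (ConcreteCategory.hom ((ZUpre U).map (homOfLE h).op)) (FreeAbelianGroup.of (𝟙 U)) =
      FreeAbelianGroup.of (homOfLE h) := by
    dsimp only [ZUpre, Functor.comp_map, AddCommGrpCat.free_map]
    erw [FreeAbelianGroup.map_of_apply]
    congr 1
  rw [e1, e2]

lemma ZUev_map {V U : Opens X} (h : V ≤ U) (F : CohTop.Ab X) (φ : ZU U ⟶ F) :
    ZUev V F (ZUmap h ≫ φ) = res F.obj h (ZUev U F φ) := by
  unfold ZUev ZUgen
  rw [res_apply]
  have h1 := NatTrans.naturality_apply φ.hom (homOfLE h).op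
    (((toSheafify (Opens.grothendieckTopology X) (ZUpre U)).app (op U)).hom (FreeAbelianGroup.of (𝟙 U)))
  erw [← h1]
  have h2 := NatTrans.naturality_apply (toSheafify (Opens.grothendieckTopology X) (ZUpre U)) (homOfLE h).op
    (FreeAbelianGroup.of (𝟙 U))
  erw [← h2]
  have h3 : (ZUmap h ≫ φ).hom.app (op V) = (ZUmap h).hom.app (op V) ≫ φ.hom.app (op V) := rfl
  rw [h3]
  have h4 : (toSheafify (Opens.grothendieckTopology X) (ZUpre V)).app (op V) ≫ (ZUmap h).hom.app (op V)
      = (ZUpreMap h).app (op V) ≫ (toSheafify (Opens.grothendieckTopology X) (ZUpre U)).app (op V) := by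
    have := toSheafify_naturality (Opens.grothendieckTopology X) (ZUpreMap h)
    have h5 := congrArg (fun α => α.app (op V)) this
    exact h5.symm
  have h6 := ConcreteCategory.congr_hom h4 (FreeAbelianGroup.of (𝟙 V))
  have h6' : (ConcreteCategory.hom ((ZUmap h).hom.app (op V)))
      ((ConcreteCategory.hom ((toSheafify (Opens.grothendieckTopology X) (ZUpre V)).app (op V)))
        (FreeAbelianGroup.of (𝟙 V))) =
      (ConcreteCategory.hom ((toSheafify (Opens.grothendieckTopology X) (ZUpre U)).app (op V)))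
        ((ConcreteCategory.hom ((ZUpreMap h).app (op V))) (FreeAbelianGroup.of (𝟙 V))) := h6
  rw [ZUpreMap_gen] at h6'
  rw [← h6']
  rfl

instance {V U : Opens X} (h : V ≤ U) : Mono (ZUpreMap h) := by
  have : ∀ W : (Opens X)ᵒᵖ, Mono ((ZUpreMap h).app W) := by
    intro W
    dsimp only [ZUpreMap, Functor.whiskerRight_app]
    have : Mono ((yoneda.map (homOfLE h)).app W) := by
      rw [mono_iff_injective]
      intro a b _
      have : Subsingleton (W.unop ⟶ V) := inferInstance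
      exact Subsingleton.elim (α := (W.unop ⟶ V)) a b
    infer_instance
  exact NatTrans.mono_of_mono_app _

instance {V U : Opens X} (h : V ≤ U) : Mono (ZUmap h) := by
  dsimp only [ZUmap]
  infer_instance

lemma HU_res_apply (F : CohTop.Ab X) (n : ℕ) {U V : Opens X} (h : V ≤ U) (x : CohTop.HU F n U) :
    CohTop.res F n h x = (Ext.mk₀ (ZUmap h)).comp x (zero_add n) := rfl

end Groth.Agent.Lib.Lead
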