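import Groth.Agent.Lib.Lead.CechSiteSES
set_option autoImplicit false
universe u
open CategoryTheory CategoryTheory.Limits Opposite
namespace Groth.Agent.Lib.Lead
variable {C : Type u} [SmallCategory C] {J : GrothendieckTopology C}

section H1

variable [HasPullbacks C] {U : C} {ι : Type u} (Y : ι → Over U)

/-- The canonical degree `0` generator over a member of the family. -/
def sPt (i : ι) : sGen Y 0 (Y i).left := ⟨fun _ => ⟨i, 𝟙 _⟩, fun _ _ => rfl⟩

variable {Y} in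
/-- The degree `1` generator attached to a pair of maps with the same structure map. -/
def sPair {Z : C} {i j : ι} (gi : Z ⟶ (Y i).left) (gj : Z ⟶ (Y j).left)
    (h : gi ≫ (Y i).hom = gj ≫ (Y j).hom) : sGen Y 1 Z :=
  ⟨![⟨i, gi⟩, ⟨j, gj⟩], by
    have h0 : ∀ a : Fin 2, sStr ((![⟨i, gi⟩, ⟨j, gj⟩] : Fin 2 → sT Y Z) a) = gi ≫ (Y i).hom := by
      intro a
      fin_cases a
      · rfl
      · exact h.symm
    intro a b
    rw [h0 a, h0 b]⟩

variable {Y} in
lemma sGenFace_zero_pair {Z : C} {i j : ι} (gi : Z ⟶ (Y i).left) (gj : Z ⟶ (Y j).left)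
    (h : gi ≫ (Y i).hom = gj ≫ (Y j).hom) :
    sGenFace 0 (sPair gi gj h) = sGenRestr gj (sPt Y j) := by
  apply Subtype.ext
  funext a
  fin_cases a
  exact Sigma.ext rfl (heq_of_eq (Category.comp_id gj).symm)

variable {Y} in
lemma sGenFace_one_pair {Z : C} {i j : ι} (gi : Z ⟶ (Y i).left) (gj : Z ⟶ (Y j).left)
    (h : gi ≫ (Y i).hom = gj ≫ (Y j).hom) :
    sGenFace 1 (sPair gi gj h) = sGenRestr gi (sPt Y i) := by
  apply Subtype.ext
  funext a
  fin_cases a
  exact Sigma.ext rfl (heq_of_eq (Category.comp_id gi).symm)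

variable {Y} in
lemma map_sToProd_π (P : Cᵒᵖ ⥤ AddCommGrpCat.{u}) {n : ℕ} {W : C} (τ : sGen Y n W)
    (a : Fin (n + 1)) (z : P.obj (op (Y (sIdx τ a)).left)) :
    P.map (sToProd τ).op (P.map (Pi.π (Y ∘ sIdx τ) a).left.op z) = P.map (τ.1 a).2.op z := by
  have key : ∀ (f' : W ⟶ (Y (sIdx τ a)).left),
      sToProd τ ≫ (Pi.π (Y ∘ sIdx τ) a).left = f' →
      P.map (sToProd τ).op (P.map (Pi.π (Y ∘ sIdx τ) a).left.op z) = P.map f'.op z := by
    rintro _ rfl
    rw [op_comp, P.map_comp]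
    rfl
  exact key _ (sToProd_π τ a)

lemma gFace_left_π {n : ℕ} (y : Fin (n + 2) → ι) (i : Fin (n + 2)) (a : Fin (n + 1)) :
    (gFace Y y i).left ≫ (Pi.π (Y ∘ (y ∘ Fin.succAbove i)) a).left =
      (Pi.π (Y ∘ y) (Fin.succAbove i a)).left := by
  have h3 : gFace Y y i ≫ Pi.π (Y ∘ (y ∘ Fin.succAbove i)) a =
      Pi.π (Y ∘ y) (Fin.succAbove i a) := by
    unfold gFace
    exact Pi.lift_π _ _
  exact congrArg (fun φ => φ.left) h3

lemma map_gFace_π (P : Cᵒᵖ ⥤ AddCommGrpCat.{u}) {n : ℕ} (y : Fin (n + 2) → ι) (i : Fin (n + 2))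
    (a : Fin (n + 1)) (z : P.obj (op (Y (y (Fin.succAbove i a))).left)) :
    P.map (gFace Y y i).left.op (P.map (Pi.π (Y ∘ (y ∘ Fin.succAbove i)) a).left.op z) =
      P.map (Pi.π (Y ∘ y) (Fin.succAbove i a)).left.op z := by
  have key : ∀ (f' : (gObj Y y).left ⟶ (Y (y (Fin.succAbove i a))).left),
      (gFace Y y i).left ≫ (Pi.π (Y ∘ (y ∘ Fin.succAbove i)) a).left = f' →
      P.map (gFace Y y i).left.op (P.map (Pi.π (Y ∘ (y ∘ Fin.succAbove i)) a).left.op z) =
        P.map f'.op z := by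
    rintro _ rfl
    rw [op_comp, P.map_comp]
    rfl
  exact key _ (gFace_left_π Y y i a)

lemma map_π_hom (P : Cᵒᵖ ⥤ AddCommGrpCat.{u}) {n : ℕ} (x : Fin (n + 1) → ι) (a : Fin (n + 1))
    (s : P.obj (op U)) :
    P.map (Pi.π (Y ∘ x) a).left.op (P.map (Y (x a)).hom.op s) = P.map (gObj Y x).hom.op s := by
  have key : ∀ (f' : (gObj Y x).left ⟶ U),
      (Pi.π (Y ∘ x) a).left ≫ (Y (x a)).hom = f' →
      P.map (Pi.π (Y ∘ x) a).left.op (P.map (Y (x a)).hom.op s) = P.map f'.op s := by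
    rintro _ rfl
    rw [op_comp, P.map_comp]
    rfl
  exact key _ (Over.w (Pi.π (Y ∘ x) a))

/-- Gluing local lifts when the first Čech cohomology of the kernel vanishes (sites). -/
theorem exists_lift_of_sCech_h1 (S : ShortComplex (Sheaf J AddCommGrpCat.{u})) (hS : S.ShortExact)
    (hY : Sieve.ofArrows (fun i => (Y i).left) (fun i => (Y i).hom) ∈ J U)
    (hH1 : IsZero (CohCx.cechH S.X₁.obj Y 1))
    (s : S.X₃.obj.obj (op U)) (t' : ∀ i, S.X₂.obj.obj (op (Y i).left))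
    (ht' : ∀ i, S.g.hom.app (op (Y i).left) (t' i) = S.X₃.obj.map (Y i).hom.op s) :
    ∃ t : S.X₂.obj.obj (op U), S.g.hom.app (op U) t = s := by
  have finj := sses_sections_injective S hS
  have gf := sses_sections_gf S
  have ex := sses_sections_exact S hS
  -- Step 1: the difference cochain
  have h1 : ∀ x : Fin 2 → ι, ∃ c : (sPU (U := U) S.X₁.obj).obj (op (gObj Y x)),
      S.f.hom.app (op (gObj Y x).left) c = S.X₂.obj.map (Pi.π (Y ∘ x) 1).left.op (t' (x 1)) -
        S.X₂.obj.map (Pi.π (Y ∘ x) 0).left.op (t' (x 0)) := by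
    intro x
    refine ex (gObj Y x).left _ ?_
    rw [map_sub]
    have e : ∀ a : Fin 2, S.g.hom.app _ (S.X₂.obj.map (Pi.π (Y ∘ x) a).left.op (t' (x a))) =
        S.X₃.obj.map (gObj Y x).hom.op s := by
      intro a
      have e1 : S.g.hom.app _ (S.X₂.obj.map (Pi.π (Y ∘ x) a).left.op (t' (x a))) =
          S.X₃.obj.map (Pi.π (Y ∘ x) a).left.op (S.g.hom.app (op (Y (x a)).left) (t' (x a))) :=
        NatTrans.naturality_apply S.g.hom (Pi.π (Y ∘ x) a).left.op (t' (x a))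
      rw [ht'] at e1
      exact e1.trans (map_π_hom Y S.X₃.obj x a s)
    exact (congrArg₂ (· - ·) (e 1) (e 0)).trans (sub_self _)
  choose c hc using h1
  -- Step 2: it is a cocycle
  have hcoc : gCoboundary Y (sPU S.X₁.obj) 1 c = 0 := by
    funext y
    refine finj (gObj Y y).left ?_
    let R : ∀ a : Fin 3, S.X₂.obj.obj (op (gObj Y y).left) :=
      fun a => S.X₂.obj.map (Pi.π (Y ∘ y) a).left.op (t' (y a))
    have key : ∀ i : Fin 3, S.f.hom.app (op (gObj Y y).left)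
        (S.X₁.obj.map (gFace Y y i).left.op (c (y ∘ Fin.succAbove i))) =
        R (Fin.succAbove i 1) - R (Fin.succAbove i 0) := by
      intro i
      have e1 : S.f.hom.app (op (gObj Y y).left)
          (S.X₁.obj.map (gFace Y y i).left.op (c (y ∘ Fin.succAbove i))) =
          S.X₂.obj.map (gFace Y y i).left.op (S.f.hom.app _ (c (y ∘ Fin.succAbove i))) :=
        NatTrans.naturality_apply S.f.hom (gFace Y y i).left.op (c (y ∘ Fin.succAbove i))
      rw [e1, hc, map_sub]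
      exact congrArg₂ (· - ·) (map_gFace_π Y S.X₂.obj y i 1 (t' (y (Fin.succAbove i 1))))
        (map_gFace_π Y S.X₂.obj y i 0 (t' (y (Fin.succAbove i 0))))
    have hsum : S.f.hom.app (op (gObj Y y).left) (gCoboundary Y (sPU S.X₁.obj) 1 c y) =
        ∑ i : Fin 3, (-1 : ℤ) ^ (i : ℕ) • (R (Fin.succAbove i 1) - R (Fin.succAbove i 0)) := by
      have h0 : gCoboundary Y (sPU S.X₁.obj) 1 c y = ∑ i : Fin 3, (-1 : ℤ) ^ (i : ℕ) •
          S.X₁.obj.map (gFace Y y i).left.op (c (y ∘ Fin.succAbove i)) := rfl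
      rw [h0, map_sum]
      refine Finset.sum_congr rfl fun i _ => ?_
      rw [map_zsmul, key]
    refine hsum.trans (Eq.trans ?_ (map_zero (S.f.hom.app (op (gObj Y y).left)).hom).symm)
    rw [Fin.sum_univ_three]
    change (-1 : ℤ) ^ (0 : ℕ) • (R 2 - R 1) + (-1 : ℤ) ^ (1 : ℕ) • (R 2 - R 0) +
      (-1 : ℤ) ^ (2 : ℕ) • (R 1 - R 0) = 0
    simp only [pow_zero, one_smul, pow_one, neg_smul, even_two, Even.neg_pow, one_pow]
    abel
  -- Step 3: it is a coboundary
  obtain ⟨b, hb⟩ := (isZero_sCechH_succ_iff Y S.X₁.obj 0).1 hH1 c hcoc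
  -- Step 4: corrected local lifts
  let ψ : sK Y 0 ⟶ S.X₁.obj := sKDesc Y S.X₁.obj 0 b
  let b' : ∀ i, S.X₁.obj.obj (op (Y i).left) :=
    fun i => ψ.app (op (Y i).left) (sKGen Y 0 (op (Y i).left) (sPt Y i))
  let t'' : ∀ i, S.X₂.obj.obj (op (Y i).left) := fun i => t' i - S.f.hom.app (op (Y i).left) (b' i)
  have hψ : ∀ (Z : C) (i : ι) (g : Z ⟶ (Y i).left),
      ψ.app (op Z) (sKGen Y 0 (op Z) (sGenRestr g (sPt Y i))) = S.X₁.obj.map g.op (b' i) := by
    intro Z i g
    have h := NatTrans.naturality_apply ψ g.op (sKGen Y 0 (op (Y i).left) (sPt Y i))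
    rw [sK_map_of] at h
    exact h
  have hdiff : ∀ (i j : ι) (Z : C) (gi : Z ⟶ (Y i).left) (gj : Z ⟶ (Y j).left),
      gi ≫ (Y i).hom = gj ≫ (Y j).hom →
      S.X₂.obj.map gi.op (t'' i) = S.X₂.obj.map gj.op (t'' j) := by
    intro i j Z gi gj h
    have e1 : (sKd Y 0 ≫ ψ).app (op Z) (sKGen Y 1 (op Z) (sPair gi gj h)) =
        S.X₁.obj.map (sToProd (sPair gi gj h)).op (c (sIdx (sPair gi gj h))) := by
      dsimp only [ψ]
      rw [sKd_desc, hb, sKDesc_app_of]
    rw [NatTrans.comp_app, ConcreteCategory.comp_apply, sKd_app_of, Fin.sum_univ_two,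
      sGenFace_zero_pair, sGenFace_one_pair, map_add, map_zsmul, map_zsmul, hψ, hψ] at e1
    simp only [Fin.val_zero, pow_zero, one_smul, Fin.val_one, pow_one, neg_smul] at e1
    have e2 := congrArg (S.f.hom.app (op Z)) e1
    have e3 : S.f.hom.app (op Z)
        (S.X₁.obj.map (sToProd (sPair gi gj h)).op (c (sIdx (sPair gi gj h)))) =
        S.X₂.obj.map gj.op (t' j) - S.X₂.obj.map gi.op (t' i) := by
      have n1 := NatTrans.naturality_apply S.f.hom (sToProd (sPair gi gj h)).op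
        (c (sIdx (sPair gi gj h)))
      refine n1.trans ?_
      rw [hc, map_sub]
      exact congrArg₂ (· - ·)
        (map_sToProd_π S.X₂.obj (sPair gi gj h) 1 (t' j))
        (map_sToProd_π S.X₂.obj (sPair gi gj h) 0 (t' i))
    rw [e3, map_add, map_neg] at e2
    have n2 := NatTrans.naturality_apply S.f.hom gj.op (b' j)
    have n3 := NatTrans.naturality_apply S.f.hom gi.op (b' i)
    rw [n2, n3] at e2
    dsimp only [t'']
    rw [map_sub, map_sub, sub_eq_sub_iff_add_eq_add]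
    rw [← sub_eq_zero] at e2 ⊢
    rw [← e2]
    abel
  -- Step 5: glue
  have hsheaf : ∀ (F : Sheaf J AddCommGrpCat.{u}), Presieve.IsSheafFor (F.obj ⋙ forget AddCommGrpCat.{u})
      (Presieve.ofArrows (fun i => (Y i).left) (fun i => (Y i).hom)) := by
    intro F
    have h1 : Presieve.IsSheaf J (F.obj ⋙ forget AddCommGrpCat.{u}) :=
      (isSheaf_iff_isSheaf_of_type J _).1
        ((Presheaf.isSheaf_iff_isSheaf_forget J F.obj (forget AddCommGrpCat.{u})).1 F.property)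
    exact (Presieve.isSheafFor_iff_generate _).2 (h1 _ hY)
  have hcompat : Presieve.Arrows.Compatible (S.X₂.obj ⋙ forget AddCommGrpCat.{u})
      (fun i => (Y i).hom) t'' := by
    intro i j Z gi gj h
    exact hdiff i j Z gi gj h
  obtain ⟨t, ht, -⟩ := (Presieve.isSheafFor_arrows_iff _ _).1 (hsheaf S.X₂) t'' hcompat
  refine ⟨t, ?_⟩
  have key : ∀ i, (S.X₃.obj ⋙ forget AddCommGrpCat.{u}).map (Y i).hom.op (S.g.hom.app (op U) t) =
      (S.X₃.obj ⋙ forget AddCommGrpCat.{u}).map (Y i).hom.op s := by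
    intro i
    change S.X₃.obj.map (Y i).hom.op (S.g.hom.app (op U) t) = S.X₃.obj.map (Y i).hom.op s
    have n1 := NatTrans.naturality_apply S.g.hom (Y i).hom.op t
    rw [← n1]
    have h2 : S.X₂.obj.map (Y i).hom.op t = t'' i := ht i
    rw [h2]
    dsimp only [t'']
    rw [map_sub, gf, sub_zero, ht']
  refine (hsheaf S.X₃).isSeparatedFor.ext ?_
  rintro _ _ ⟨i⟩
  exact key i

end H1

end Groth.Agent.Lib.Lead
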