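import Mathlib.Algebra.Homology.DerivedCategory.Ext.Map
import Mathlib.Algebra.Homology.DerivedCategory.Ext.ExactSequences
import Mathlib.Algebra.Homology.DerivedCategory.Ext.EnoughInjectives
import Mathlib.CategoryTheory.Preadditive.Injective.Basic
import Groth.Agent.Lib.Helper5.RDerShift

/-!
# Comparison of `Ext` groups along an adjunction with exact left adjoint

For an adjunction `L ⊣ R` between abelian categories with `L` exact, objects `a : C`, `b : D` and a
morphism `θ : b ⟶ L a`, we define `Φ F n : Ext a (R F) n → Ext b F n`,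
`e ↦ mk₀ θ ∘ L(e) ∘ mk₀ (counit)`, show it is natural, compatible with connecting maps, bijective in
degree `0` when `θ` is an isomorphism, and (by dimension shifting) bijective in all degrees when the
higher right derived functors of `R` vanish on `F` (the degenerate Leray spectral sequence).
-/

universe w w' v u v' u'

namespace Groth.Agent.Lib.Lead.ExtAdj

open CategoryTheory Limits Abelian

variable {C : Type u} [Category.{v} C] [Abelian C] [HasExt.{w} C]
  {D : Type u'} [Category.{v'} D] [Abelian D] [HasExt.{w'} D]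
  {L : C ⥤ D} {R : D ⥤ C} (adj : L ⊣ R) [L.Additive] [PreservesFiniteLimits L]
  [PreservesFiniteColimits L] {a : C} {b : D} (θ : b ⟶ L.obj a)

/-- The comparison map `Ext a (R F) n → Ext b F n`. -/
noncomputable def Φ (F : D) (n : ℕ) : Ext.{w} a (R.obj F) n →+ Ext.{w'} b F n :=
  ((Ext.mk₀ (adj.counit.app F)).postcomp b (add_zero n)).comp
    ((AddMonoidHom.mk' (fun e => (Ext.mk₀ θ).comp e (zero_add n))
      (fun _ _ => Ext.comp_add _ _ _ _)).comp (L.mapExtAddHom a (R.obj F) n))

lemma Φ_apply (F : D) (n : ℕ) (e : Ext.{w} a (R.obj F) n) :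
    Φ adj θ F n e = ((Ext.mk₀ θ).comp (e.mapExactFunctor L) (zero_add n)).comp
      (Ext.mk₀ (adj.counit.app F)) (add_zero n) := rfl

lemma Φ_naturality {F G : D} (φ : F ⟶ G) (n : ℕ) (e : Ext.{w} a (R.obj F) n) :
    Φ adj θ G n (e.comp (Ext.mk₀ (R.map φ)) (add_zero n)) =
      (Φ adj θ F n e).comp (Ext.mk₀ φ) (add_zero n) := by
  rw [Φ_apply, Φ_apply, Ext.mapExactFunctor_comp, Ext.mapExactFunctor_mk₀]
  rw [Ext.comp_assoc_of_third_deg_zero, Ext.comp_assoc_of_third_deg_zero,
    Ext.comp_assoc_of_third_deg_zero, Ext.comp_assoc_of_third_deg_zero, Ext.mk₀_comp_mk₀,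
    Ext.mk₀_comp_mk₀]
  have h : L.map (R.map φ) ≫ adj.counit.app G = adj.counit.app F ≫ φ := adj.counit_naturality φ
  rw [h]

omit [HasExt.{w} C] in
lemma comp_aux {X Y Z Z' W V : D} {n : ℕ} (t : Ext.{w'} X Y 0) (x : Ext.{w'} Y Z n)
    (c : Ext.{w'} Z W 1) (ε₁ : Ext.{w'} W V 0) (ε₃ : Ext.{w'} Z Z' 0) (c' : Ext.{w'} Z' V 1)
    (h : c.comp ε₁ (add_zero 1) = ε₃.comp c' (zero_add 1)) :
    (t.comp (x.comp c rfl) (zero_add (n + 1))).comp ε₁ (add_zero (n + 1)) =
      ((t.comp x (zero_add n)).comp ε₃ (add_zero n)).comp c' rfl := by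
  rw [Ext.comp_assoc t (x.comp c rfl) ε₁ (zero_add (n + 1)) (add_zero (n + 1)) (by lia),
    Ext.comp_assoc x c ε₁ rfl (add_zero 1) (by lia), h,
    Ext.comp_assoc (t.comp x (zero_add n)) ε₃ c' (add_zero n) (zero_add 1) (by lia),
    Ext.comp_assoc t x (ε₃.comp c' (zero_add 1)) (zero_add n) rfl (by lia)]

variable [R.Additive]

/-- The morphism of short complexes `L R S ⟶ S` given by the counit. -/
@[simps]
noncomputable def counitSC (S : ShortComplex D) : (S.map R).map L ⟶ S where
  τ₁ := adj.counit.app S.X₁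
  τ₂ := adj.counit.app S.X₂
  τ₃ := adj.counit.app S.X₃
  comm₁₂ := (adj.counit_naturality S.f).symm
  comm₂₃ := (adj.counit_naturality S.g).symm

lemma Φ_δ {S : ShortComplex D} (hS : S.ShortExact) (hRS : (S.map R).ShortExact) (n : ℕ)
    (e : Ext.{w} a (S.map R).X₃ n) :
    Φ adj θ S.X₁ (n + 1) (e.comp hRS.extClass rfl) = (Φ adj θ S.X₃ n e).comp hS.extClass rfl := by
  have hnat := ShortComplex.ShortExact.extClass_naturality (hRS.map_of_exact L) hS (counitSC adj S)
  have h1 : (e.comp hRS.extClass rfl).mapExactFunctor L =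
      (e.mapExactFunctor L).comp (hRS.map_of_exact L).extClass rfl := by
    rw [Ext.mapExactFunctor_comp, Ext.mapExactFunctor_extClass]
    rfl
  refine (congrArg (fun z => ((Ext.mk₀ θ).comp z (zero_add (n + 1))).comp
    (Ext.mk₀ (adj.counit.app S.X₁)) (add_zero (n + 1))) h1).trans ?_
  exact comp_aux (Ext.mk₀ θ) (e.mapExactFunctor L) (hRS.map_of_exact L).extClass
    (Ext.mk₀ (adj.counit.app S.X₁)) (Ext.mk₀ (adj.counit.app S.X₃)) hS.extClass hnat

omit [R.Additive] in
lemma Φ_mk₀ (F : D) (g : a ⟶ R.obj F) :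
    Φ adj θ F 0 (Ext.mk₀ g) = Ext.mk₀ (θ ≫ (adj.homEquiv a F).symm g) := by
  rw [Φ_apply, Ext.mapExactFunctor_mk₀, Ext.mk₀_comp_mk₀, Ext.mk₀_comp_mk₀, Category.assoc,
    Adjunction.homEquiv_counit]

omit [R.Additive] in
lemma Φ_zero_bijective [IsIso θ] (F : D) : Function.Bijective (Φ adj θ F 0) := by
  constructor
  · intro x y hxy
    obtain ⟨g, rfl⟩ := (Ext.mk₀_bijective _ _).2 x
    obtain ⟨g', rfl⟩ := (Ext.mk₀_bijective _ _).2 y
    rw [Φ_mk₀, Φ_mk₀] at hxy
    have h := (Ext.mk₀_bijective _ _).1 hxy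
    rw [cancel_epi] at h
    exact congrArg _ ((adj.homEquiv a F).symm.injective h)
  · intro y
    obtain ⟨h, rfl⟩ := (Ext.mk₀_bijective _ _).2 y
    refine ⟨Ext.mk₀ (adj.homEquiv a F (inv θ ≫ h)), ?_⟩
    rw [Φ_mk₀, Equiv.symm_apply_apply, IsIso.hom_inv_id_assoc]

variable [EnoughInjectives D]

/-- The short exact sequence `0 ⟶ F ⟶ I ⟶ Q ⟶ 0` with `I` injective. -/
noncomputable def sesInj (F : D) : ShortComplex D :=
  ShortComplex.mk (Injective.ι F) (cokernel.π (Injective.ι F)) (cokernel.condition _)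

omit [HasExt.{w'} D] in
lemma sesInj_shortExact (F : D) : (sesInj F).ShortExact where
  exact := ShortComplex.exact_cokernel _
  mono_f := inferInstanceAs (Mono (Injective.ι F))
  epi_g := inferInstanceAs (Epi (cokernel.π (Injective.ι F)))

instance (F : D) : Injective (sesInj F).X₂ := inferInstanceAs (Injective (Injective.under F))

open Groth.Agent.Lib.Helper5 in
/-- Degenerate Leray: if `R^q R F = 0` for `q > 0`, then `Φ` is bijective in every degree. -/
theorem Φ_bijective [IsIso θ] (n : ℕ) : ∀ (F : D),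
    (∀ q : ℕ, IsZero ((R.rightDerived (q + 1)).obj F)) → Function.Bijective (Φ adj θ F n) := by
  have : PreservesFiniteLimits R := by
    have := adj.rightAdjoint_preservesLimits
    infer_instance
  induction n with
  | zero => intro F _; exact Φ_zero_bijective adj θ F
  | succ n ih =>
    intro F hF
    have hS := sesInj_shortExact F
    have hQ : ∀ q : ℕ, IsZero ((R.rightDerived (q + 1)).obj (sesInj F).X₃) := fun q =>
      isZero_rightDerived_succ_X₃ R hS q (hF (q + 1))
    have hI : ∀ q : ℕ, IsZero ((R.rightDerived (q + 1)).obj (sesInj F).X₂) := fun q =>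
      R.isZero_rightDerived_obj_injective_succ q _
    have hRS : ((sesInj F).map R).ShortExact := by
      have h := (Functor.preservesFiniteLimits_iff_forall_exact_map_and_mono R).1
        inferInstance _ hS
      exact ShortComplex.ShortExact.mk' h.1 h.2
        (epi_map_g_of_isZero_rightDerived_one R hS (hF 0))
    have : Injective ((sesInj F).map R).X₂ := Injective.injective_of_adjoint adj (sesInj F).X₂
    have b2 := ih _ hI
    have b3 := ih _ hQ
    constructor
    · rw [injective_iff_map_eq_zero]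
      intro x hx
      obtain ⟨x', rfl⟩ := Ext.covariant_sequence_exact₁ a hRS x (Ext.eq_zero_of_injective _) rfl
      replace hx := (Φ_δ adj θ hS hRS n x').symm.trans hx
      obtain ⟨y'', hy''⟩ := Ext.covariant_sequence_exact₃ b hS _ rfl hx
      obtain ⟨x'', rfl⟩ := b2.2 y''
      rw [← Φ_naturality] at hy''
      have h3 := b3.1 hy''
      rw [← h3]
      have hz : (Ext.mk₀ ((sesInj F).map R).g).comp hRS.extClass (zero_add 1) = 0 :=
        hRS.comp_extClass
      exact (Ext.comp_assoc_of_second_deg_zero _ _ _ _).trans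
        ((congrArg (fun z => x''.comp z _) hz).trans (Ext.comp_zero _ _ _ _ _))
    · intro y
      obtain ⟨y', rfl⟩ := Ext.covariant_sequence_exact₁ b hS y (Ext.eq_zero_of_injective _) rfl
      obtain ⟨x', rfl⟩ := b3.2 y'
      exact ⟨x'.comp hRS.extClass rfl, Φ_δ adj θ hS hRS n x'⟩

end Groth.Agent.Lib.Lead.ExtAdj
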