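import Groth.Prelude.Def_CohCmp
import Groth.Agent.Lib.Helper83.ModCoh
import Groth.Agent.Lib.Lead.ExtAdj

/-!
# Tools for the comparison maps `CohCmp.SectCmp`

* restriction to an open followed by the underlying abelian sheaf (`CohCmp.toAbOn`) is exact;
* an epimorphism of `O`-modules is locally surjective on sections;
* `f_* F ⟶ R^0 f_* F` is bijective on sections.
-/

universe u

namespace Groth.Agent.Lib.Lead.SectCmp

open CategoryTheory Limits AlgebraicGeometry AlgebraicGeometry.Scheme.Modules TopologicalSpace Opposite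

noncomputable section

section RestrictExact

variable {X Y : Scheme.{u}} (f : X ⟶ Y) [IsOpenImmersion f]

set_option backward.isDefEq.respectTransparency false in
set_option backward.defeqAttrib.useBackward true in
instance restrictFunctor_isRightAdjoint : (Scheme.Modules.restrictFunctor f).IsRightAdjoint := by
  unfold Scheme.Modules.restrictFunctor
  apply SheafOfModules.instIsRightAdjointPushforward

instance : PreservesLimitsOfSize.{u, u} (Scheme.Modules.restrictFunctor f) := inferInstance
instance : PreservesFiniteLimits (Scheme.Modules.restrictFunctor f) := inferInstance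
instance : PreservesFiniteColimits (Scheme.Modules.restrictFunctor f) := inferInstance

end RestrictExact

section

variable {X : Scheme.{u}}

open Groth.Agent.Lib.Helper83.ModCoh in
lemma toAbOn_shortExact (U : X.Opens) {S : ShortComplex X.Modules} (hS : S.ShortExact) :
    (S.map (CohCmp.toAbOn X U)).ShortExact := by
  have h1 : PreservesFiniteLimits (SheafOfModules.toSheaf (U : Scheme.{u}).ringCatSheaf :
      (U : Scheme.{u}).Modules ⥤ _) := inferInstance
  have h2 : PreservesFiniteColimits (SheafOfModules.toSheaf (U : Scheme.{u}).ringCatSheaf :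
      (U : Scheme.{u}).Modules ⥤ _) := inferInstance
  have h3 : PreservesFiniteLimits (CohCmp.toAbOn X U) :=
    @comp_preservesFiniteLimits _ _ _ _ _ _ (Scheme.Modules.restrictFunctor U.ι) _ inferInstance h1
  have h4 : PreservesFiniteColimits (CohCmp.toAbOn X U) :=
    @comp_preservesFiniteColimits _ _ _ _ _ _ (Scheme.Modules.restrictFunctor U.ι) _ inferInstance h2
  exact hS.map_of_exact (CohCmp.toAbOn X U)

open Groth.Agent.Lib.Helper83.ModCoh in
/-- An epimorphism of `O`-modules is locally surjective on sections. -/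
lemma exists_local_lift {A B : X.Modules} (φ : A ⟶ B) [Epi φ] (V : X.Opens) (t : Γ(B, V))
    (y : X) (hy : y ∈ V) :
    ∃ (W : X.Opens) (hWV : W ≤ V), y ∈ W ∧ ∃ t' : Γ(A, W),
      φ.app W t' = B.presheaf.map (homOfLE hWV).op t := by
  have hpe : (SheafOfModules.toSheaf.{u} X.ringCatSheaf).PreservesEpimorphisms := inferInstance
  have hφ : Epi (C := SheafOfModules.{u} X.ringCatSheaf) φ := ‹Epi φ›
  have hepi : Epi ((SheafOfModules.toSheaf X.ringCatSheaf : X.Modules ⥤ _).map φ) :=
    @Functor.map_epi _ _ _ _ (SheafOfModules.toSheaf.{u} X.ringCatSheaf) hpe _ _ φ hφ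
  have hls := (Sheaf.isLocallySurjective_iff_epi'
    (φ := (SheafOfModules.toSheaf X.ringCatSheaf : X.Modules ⥤ _).map φ)).2 hepi
  have hmem := Presheaf.imageSieve_mem (Opens.grothendieckTopology X)
    ((SheafOfModules.toSheaf X.ringCatSheaf : X.Modules ⥤ _).map φ).hom (U := op V) t
  obtain ⟨W, i, ⟨t', ht'⟩, hyW⟩ := hmem y hy
  exact ⟨W, leOfHom i, hyW, t', ht'⟩

end

section Main

variable {X Y : Scheme.{u}} (f : X ⟶ Y) [HasInjectiveResolutions X.Modules]
  {Δ : RDer.DerivedLES (pushforward f)} (E : CohCmp.SectCmp f Δ)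

instance : EnoughInjectives X.Modules :=
  inferInstanceAs (EnoughInjectives (SheafOfModules.{u} X.ringCatSheaf))

instance : PreservesFiniteLimits (pushforward f) := by
  have := (pullbackPushforwardAdjunction f).rightAdjoint_preservesLimits
  infer_instance

omit [HasInjectiveResolutions X.Modules] in
lemma map_homOfLE_refl (M : Y.Modules) (V : Y.Opens) (t : M.presheaf.obj (op V)) :
    M.presheaf.map (homOfLE (le_refl V)).op t = t := by
  have h : (homOfLE (le_refl V)).op = 𝟙 (op V) := rfl
  rw [h, M.presheaf.map_id]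
  rfl

omit [HasInjectiveResolutions X.Modules] in
lemma map_homOfLE_trans (M : Y.Modules) {V W W' : Y.Opens} (h1 : W ≤ V) (h2 : W' ≤ W)
    (t : M.presheaf.obj (op V)) :
    M.presheaf.map (homOfLE h2).op (M.presheaf.map (homOfLE h1).op t) =
      M.presheaf.map (homOfLE (h2.trans h1)).op t := by
  have h : (homOfLE (h2.trans h1)).op = (homOfLE h1).op ≫ (homOfLE h2).op := rfl
  rw [h, M.presheaf.map_comp]
  rfl

omit [HasInjectiveResolutions X.Modules] in
lemma app_map {M N : Y.Modules} (φ : M ⟶ N) {V W : Y.Opens} (h : W ≤ V)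
    (t : M.presheaf.obj (op V)) :
    φ.app W (M.presheaf.map (homOfLE h).op t) = N.presheaf.map (homOfLE h).op (φ.app V t) := by
  have := φ.mapPresheaf.naturality (homOfLE h).op
  exact congrArg (fun g => g.hom t) this

/-- The comparison maps are locally surjective. -/
theorem locally_surjective (p : ℕ) : ∀ (F : X.Modules) (V : Y.Opens)
    (t : ((Coh.Rpush f p).obj F).presheaf.obj (op V)) (y : Y) (_ : y ∈ V),
    ∃ (W : Y.Opens) (hWV : W ≤ V), y ∈ W ∧ ∃ x : Coh.HHon X F (f ⁻¹ᵁ W) p,
      E.ε W F p x = ((Coh.Rpush f p).obj F).presheaf.map (homOfLE hWV).op t := by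
  induction p with
  | zero =>
    intro F V t y hy
    let φ := (pushforward f).toRightDerivedZero.app F
    have hφ : IsIso φ := inferInstance
    let s : F.presheaf.obj (op (f ⁻¹ᵁ V)) := (inv φ).app V t
    refine ⟨V, le_rfl, hy, CohPull.sectH0 F (f ⁻¹ᵁ V) s, ?_⟩
    rw [E.zero V F s, map_homOfLE_refl]
    have h : (inv φ ≫ φ).app V t = t := by
      rw [IsIso.inv_hom_id]
      rfl
    exact h
  | succ p ih =>
    intro F V t y hy
    let S := ExtAdj.sesInj F
    have hS : S.ShortExact := ExtAdj.sesInj_shortExact F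
    have hI : IsZero ((Coh.Rpush f (p + 1)).obj S.X₂) :=
      (pushforward f).isZero_rightDerived_obj_injective_succ p S.X₂
    have hepi : Epi (Δ.δ S hS p (p + 1) rfl) :=
      (Δ.exact₁ S hS p (p + 1) rfl).epi_f (hI.eq_of_tgt _ _)
    obtain ⟨W, hWV, hyW, t', ht'⟩ := exists_local_lift (Δ.δ S hS p (p + 1) rfl) V t y hy
    obtain ⟨W', hW'W, hyW', x', hx'⟩ := ih S.X₃ W t' y hyW
    have hA := toAbOn_shortExact (f ⁻¹ᵁ W') hS
    refine ⟨W', hW'W.trans hWV, hyW', CohCmp.extδ hA p x', ?_⟩
    have h1 := E.delta W' S hS hA p x'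
    rw [hx', app_map, ht', map_homOfLE_trans] at h1
    exact h1

end Main

end

end Groth.Agent.Lib.Lead.SectCmp
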