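import Groth.Agent.Lib.Helper83.AcyclicComp

/-!
# Degenerate composite-functor theorem

If `T : A ⥤ B` and `G : B ⥤ D` are left exact, `T` sends injectives to `G`-acyclic objects and
`R^q T (X) = 0` for all `q > 0`, then `R^n (T ⋙ G)(X) ≅ R^n G (T X)` for all `n`.
-/

universe v u v' u' v'' u''

namespace Groth.Agent.Lib.Lead.DegLeray

open CategoryTheory Limits Groth.Agent.Lib.Helper83 Groth.Agent.Lib.Helper5
  Groth.Agent.Lib.Helper83.AcyclicComp

variable {A : Type u} [Category.{v} A] [Abelian A] [HasInjectiveResolutions A]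
  {B : Type u'} [Category.{v'} B] [Abelian B] [HasInjectiveResolutions B]
  {D : Type u''} [Category.{v''} D] [Abelian D]
  (T : A ⥤ B) [T.Additive] [PreservesFiniteLimits T]
  (G : B ⥤ D) [G.Additive] [PreservesFiniteLimits G]

omit [HasInjectiveResolutions B] in
lemma shortExact_map [EnoughInjectives A] (X : A) (hX : IsZero ((T.rightDerived 1).obj X)) :
    ((sesInj X).map T).ShortExact := by
  have hS := sesInj_shortExact X
  have h := (Functor.preservesFiniteLimits_iff_forall_exact_map_and_mono T).1 inferInstance _ hS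
  exact ShortComplex.ShortExact.mk' h.1 h.2 (epi_map_g_of_isZero_rightDerived_one T hS hX)

/-- **Degenerate Leray**: objectwise isomorphism `R^n(T ⋙ G)(X) ≅ R^nG(T X)` when the higher
derived functors of `T` vanish on `X`. -/
theorem nonempty_iso
    (hT : ∀ I : A, Injective I → ∀ k : ℕ, IsZero ((G.rightDerived (k + 1)).obj (T.obj I)))
    (n : ℕ) : ∀ X : A, (∀ q : ℕ, IsZero ((T.rightDerived (q + 1)).obj X)) →
    Nonempty (((T ⋙ G).rightDerived n).obj X ≅ (G.rightDerived n).obj (T.obj X)) := by
  have : EnoughInjectives A := enoughInjectives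
  have : PreservesFiniteLimits (T ⋙ G) := comp_preservesFiniteLimits T G
  have hQ : ∀ X : A, (∀ q : ℕ, IsZero ((T.rightDerived (q + 1)).obj X)) →
      ∀ q : ℕ, IsZero ((T.rightDerived (q + 1)).obj (sesInj X).X₃) := fun X hX q =>
    isZero_rightDerived_succ_X₃ T (sesInj_shortExact X) q (hX (q + 1))
  induction n using Nat.twoStepInduction with
  | zero =>
    intro X _
    exact ⟨(T ⋙ G).rightDerivedZeroIsoSelf.app X ≪≫ (G.rightDerivedZeroIsoSelf.app (T.obj X)).symm⟩
  | one =>
    intro X hX
    have hS := sesInj_shortExact X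
    have hST := shortExact_map T X (hX 0)
    obtain ⟨π₁, w₁, hex₁, hπ₁⟩ := exact_and_epi_of_isZero (T ⋙ G) hS
      ((T ⋙ G).isZero_rightDerived_obj_injective_succ 0 _)
    obtain ⟨π₂, w₂, hex₂, hπ₂⟩ := exact_and_epi_of_isZero G hST
      (hT _ inferInstance 0)
    have c₁ := hex₁.gIsCokernel
    have c₂ := hex₂.gIsCokernel
    exact ⟨IsColimit.coconePointUniqueUpToIso c₁ c₂⟩
  | more n _ ih =>
    intro X hX
    have hS := sesInj_shortExact X
    have hST := shortExact_map T X (hX 0)
    obtain ⟨e⟩ := ih (sesInj X).X₃ (hQ X hX)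
    have i₁ := isIso_δ_of_isZero (T ⋙ G) hS n
      ((T ⋙ G).isZero_rightDerived_obj_injective_succ n _)
      ((T ⋙ G).isZero_rightDerived_obj_injective_succ (n + 1) _)
    have i₂ : IsIso ((derivedLES G).δ _ hST (n + 1) (n + 2) rfl) :=
      isIso_δ_of_isZero G hST n (hT _ inferInstance n) (hT _ inferInstance (n + 1))
    exact ⟨(asIso ((derivedLES (T ⋙ G)).δ _ hS (n + 1) (n + 2) rfl)).symm ≪≫ e ≪≫
      @asIso _ _ _ _ ((derivedLES G).δ _ hST (n + 1) (n + 2) rfl) i₂⟩

/-- isomorphic functors have isomorphic right derived functors -/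
noncomputable def rightDerivedIso {F F' : A ⥤ B} [F.Additive] [F'.Additive] (e : F ≅ F') (n : ℕ) :
    F.rightDerived n ≅ F'.rightDerived n where
  hom := NatTrans.rightDerived e.hom n
  inv := NatTrans.rightDerived e.inv n
  hom_inv_id := by rw [← NatTrans.rightDerived_comp, e.hom_inv_id, NatTrans.rightDerived_id]
  inv_hom_id := by rw [← NatTrans.rightDerived_comp, e.inv_hom_id, NatTrans.rightDerived_id]

end Groth.Agent.Lib.Lead.DegLeray
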