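import Groth.Prelude.Def_SpSeq
import Groth.Agent.Lib.Helper33.Subquot

/-!
# Transport of abutment data of a spectral sequence along isomorphisms of the abutment

`SpSeq.Abutment E H` and a family of isomorphisms `φ n : H n ≅ H' n` give `SpSeq.Abutment E H'`,
with finite filtrations if the original ones are.  Also `ifIso` for the `if 0 ≤ n then _ else _`
shape of abutments in the statements.
-/

set_option autoImplicit false
open CategoryTheory CategoryTheory.Limits
universe v u

namespace Groth.Agent.Lib.Lead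

open SpSeq Groth.Agent.Lib.Helper33

variable {A : Type u} [Category.{v} A] [Abelian A]

section Image

variable {X X' : A} (φ : X ≅ X')

/-- The image of a subobject under an isomorphism. -/
noncomputable def subIm (S : Subobject X) : Subobject X' := Subobject.mk (S.arrow ≫ φ.hom)

lemma subIm_mono {S S' : Subobject X} (h : S ≤ S') : subIm φ S ≤ subIm φ S' :=
  Subobject.mk_le_mk_of_comm (S.ofLE S' h) (by rw [← Category.assoc, Subobject.ofLE_arrow])

lemma subIm_top : subIm φ (⊤ : Subobject X) = ⊤ := by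
  unfold subIm
  exact Subobject.mk_eq_top_of_isIso _

lemma subIm_bot : subIm φ (⊥ : Subobject X) = ⊥ := by
  unfold subIm
  rw [Subobject.mk_eq_bot_iff_zero, Subobject.bot_arrow, zero_comp]

lemma subIm_factors_iff (S : Subobject X) {T : A} (x : T ⟶ X) :
    (subIm φ S).Factors (x ≫ φ.hom) ↔ S.Factors x := by
  unfold subIm
  rw [Subobject.mk_factors_iff]
  constructor
  · rintro ⟨u, hu⟩
    let u' : T ⟶ (S : A) := u
    have hu' : (u' ≫ S.arrow) ≫ φ.hom = x ≫ φ.hom := (Category.assoc _ _ _).trans hu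
    have hu'' : u' ≫ S.arrow = x := (cancel_mono φ.hom).1 hu'
    rw [← hu'']
    exact Subobject.factors_comp_arrow u'
  · intro h
    refine ⟨S.factorThru x h, ?_⟩
    change S.factorThru x h ≫ S.arrow ≫ φ.hom = x ≫ φ.hom
    rw [← Category.assoc, Subobject.factorThru_arrow]

lemma subIm_factors (S : Subobject X) {T : A} (y : T ⟶ X') :
    (subIm φ S).Factors y ↔ S.Factors (y ≫ φ.inv) := by
  rw [← subIm_factors_iff φ S (y ≫ φ.inv), Category.assoc, φ.inv_hom_id, Category.comp_id]

/-- The subquotient of the images is isomorphic to the subquotient. -/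
noncomputable def subquotImIso (Z B : Subobject X) (h : B ≤ Z) :
    subquot Z B h ≅ subquot (subIm φ Z) (subIm φ B) (subIm_mono φ h) := by
  let f := sqMap φ.hom Z B h (subIm φ Z) (subIm φ B) (subIm_mono φ h)
    (fun T x hx => (subIm_factors_iff φ Z x).2 hx) (fun T x hx => (subIm_factors_iff φ B x).2 hx)
  have hm : Mono f := sqMap_mono φ.hom Z B h (subIm φ Z) (subIm φ B) (subIm_mono φ h) _ _
    (fun T x _ hx => (subIm_factors_iff φ B x).1 hx)
  have he : Epi f := sqMap_epi φ.hom Z B h (subIm φ Z) (subIm φ B) (subIm_mono φ h) _ _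
    (fun T y hy => ⟨T, 𝟙 T, inferInstance, y ≫ φ.inv, (subIm_factors φ Z y).1 hy, by
      rw [Category.id_comp, Category.assoc, φ.inv_hom_id, Category.comp_id, sub_self]
      exact Subobject.factors_zero⟩)
  haveI := isIso_of_mono_of_epi f
  exact asIso f

end Image

section Abutment

variable {r₀ : ℤ} {E : CohomologicalSpectralSequence A r₀} {H H' : ℤ → A}

/-- Transport of abutment data along isomorphisms of the abutment. -/
noncomputable def abutmentTransport (a : Abutment E H) (φ : ∀ n, H n ≅ H' n) : Abutment E H' where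
  fil n p := subIm (φ n) (a.fil n p)
  anti n := fun _ _ hpq => subIm_mono (φ n) (a.anti n hpq)
  rk := a.rk
  stat := a.stat
  β pq := a.β pq ≪≫ subquotImIso (φ (pq.1 + pq.2)) _ _ _

lemma abutmentTransport_isFinite (a : Abutment E H) (φ : ∀ n, H n ≅ H' n) (n : ℤ)
    (h : a.IsFinite n) : (abutmentTransport a φ).IsFinite n := by
  obtain ⟨⟨p, hp⟩, ⟨q, hq⟩⟩ := h
  refine ⟨⟨p, ?_⟩, ⟨q, ?_⟩⟩
  · change subIm (φ n) (a.fil n p) = ⊤
    have hp' : a.fil n p = ⊤ := hp
    rw [hp', subIm_top]
  · change subIm (φ n) (a.fil n q) = ⊥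
    have hq' : a.fil n q = ⊥ := hq
    rw [hq', subIm_bot]

end Abutment

/-- Isomorphism between two `if`-expressions with isomorphic branches. -/
noncomputable def ifIso (c : Prop) [Decidable c] {X₁ X₂ Y₁ Y₂ : A} (e₁ : X₁ ≅ Y₁) (e₂ : X₂ ≅ Y₂) :
    (if c then X₁ else X₂) ≅ (if c then Y₁ else Y₂) := by
  by_cases h : c
  · exact eqToIso (if_pos h) ≪≫ e₁ ≪≫ eqToIso (if_pos h).symm
  · exact eqToIso (if_neg h) ≪≫ e₂ ≪≫ eqToIso (if_neg h).symm

end Groth.Agent.Lib.Lead
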