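import Groth.Prelude.Def_DeltaF
import Mathlib.Algebra.Homology.DerivedCategory.Ext.ExactSequences

/-!
# `Ext(X, –)` as a cohomological δ-functor, and precomposition of δ-functors with exact functors
-/

set_option autoImplicit false
universe w v u v' u' v'' u''
open CategoryTheory CategoryTheory.Limits Opposite

namespace Groth.Agent.Lib.Lead.ExtDelta

open Abelian

section Ext

variable {A : Type u} [Category.{v} A] [Abelian A] [HasExt.{w} A] (X : A)

/-- `Y ↦ Extⁿ(X, Y)` with the connecting maps given by composition with the extension class. -/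
noncomputable def extDeltaFunctor : DeltaF.CohDeltaFunctor A AddCommGrpCat.{w} ℕ where
  F n := extFunctorObj X n
  additive n := inferInstance
  δ S hS n₀ n₁ h := AddCommGrpCat.ofHom (hS.extClass.postcomp X h)
  δ_natural {S S'} hS hS' φ n₀ n₁ h := by
    ext x
    change ((x.comp (Ext.mk₀ φ.τ₃) (add_zero n₀)).comp hS'.extClass h) =
      ((x.comp hS.extClass h).comp (Ext.mk₀ φ.τ₁) (add_zero n₁))
    rw [Ext.comp_assoc_of_second_deg_zero, Ext.comp_assoc_of_third_deg_zero,
      ShortComplex.ShortExact.extClass_naturality hS hS' φ]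
  exact₂ S hS n := Ext.covariant_sequence_exact₂' X hS n
  comp_δ S hS n₀ n₁ h := by
    ext x
    change ((x.comp (Ext.mk₀ S.g) (add_zero n₀)).comp hS.extClass h) = 0
    rw [Ext.comp_assoc_of_second_deg_zero, ShortComplex.ShortExact.comp_extClass, Ext.comp_zero]
  exact₃ S hS n₀ n₁ h := Ext.covariant_sequence_exact₃' X hS n₀ n₁ h
  δ_comp S hS n₀ n₁ h := by
    ext x
    change ((x.comp hS.extClass h).comp (Ext.mk₀ S.f) (add_zero n₁)) = 0
    rw [Ext.comp_assoc_of_third_deg_zero, ShortComplex.ShortExact.extClass_comp, Ext.comp_zero]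
  exact₁ S hS n₀ n₁ h := Ext.covariant_sequence_exact₁' X hS n₀ n₁ h

end Ext

section Precomp

variable {A' : Type u'} [Category.{v'} A'] [Abelian A'] {A : Type u} [Category.{v} A] [Abelian A]
  {B : Type u''} [Category.{v''} B] [Abelian B]

/-- Precomposition of a δ-functor with an exact functor. -/
noncomputable def precompExact (G : A' ⥤ A) [G.Additive] [PreservesFiniteLimits G]
    [PreservesFiniteColimits G] (T : DeltaF.CohDeltaFunctor A B ℕ) :
    DeltaF.CohDeltaFunctor A' B ℕ where
  F n := G ⋙ T.F n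
  additive n := inferInstance
  δ S hS n₀ n₁ h := T.δ (S.map G) (hS.map_of_exact G) n₀ n₁ h
  δ_natural {S S'} hS hS' φ n₀ n₁ h :=
    T.δ_natural (hS.map_of_exact G) (hS'.map_of_exact G) (G.mapShortComplex.map φ) n₀ n₁ h
  exact₂ S hS n := T.exact₂ (S.map G) (hS.map_of_exact G) n
  comp_δ S hS n₀ n₁ h := T.comp_δ (S.map G) (hS.map_of_exact G) n₀ n₁ h
  exact₃ S hS n₀ n₁ h := T.exact₃ (S.map G) (hS.map_of_exact G) n₀ n₁ h
  δ_comp S hS n₀ n₁ h := T.δ_comp (S.map G) (hS.map_of_exact G) n₀ n₁ h
  exact₁ S hS n₀ n₁ h := T.exact₁ (S.map G) (hS.map_of_exact G) n₀ n₁ h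

end Precomp

end Groth.Agent.Lib.Lead.ExtDelta
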