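import Groth.Prelude.Def_CohPull
import Groth.Agent.Lib.Lead.ExtAdj

/-!
# The edge map `H^p(Y, f_* G) → H^p(X, G)` as the `Ext` comparison along `f⁻¹ ⊣ f_*`

* `oneTo_isIso`: the canonical map `ℤ_X ⟶ f⁻¹ ℤ_Y` of the prelude is an isomorphism.
* `pushEdgeAb_bijective`: the abelian-sheaf edge map is bijective when the higher direct images vanish.
-/

universe u

namespace Groth.Agent.Lib.Lead.PushEdge

open CategoryTheory Limits Abelian CohPull TopologicalSpace Opposite

noncomputable section

section Top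

variable {X Y : TopCat.{u}} (f : X ⟶ Y)

include f in
lemma adjZ_homEquiv (M : CohTop.Ab Y) (φ : CohTop.const Y (ULift.{u} ℤ) ⟶ M) :
    (adjZ Y).homEquiv _ _ φ = oneSec Y ≫ φ.hom.app (op ⊤) := by
  have h : (adjZ Y).homEquiv _ _ φ = oneSec Y ≫
      ((sheafSections (Opens.grothendieckTopology ↑Y) AddCommGrpCat).obj (op ⊤)).map φ := by
    rw [oneSec, ← Adjunction.homEquiv_naturality_right, Category.id_comp]
  exact h

lemma adjZ_oneTo_comp (A : CohTop.Ab X) (ψ : (inv f).obj (CohTop.const Y (ULift.{u} ℤ)) ⟶ A) :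
    (adjZ X).homEquiv _ _ (oneTo f ≫ ψ) =
      (adjZ Y).homEquiv _ ((CohTop.push f).obj A) ((invPushAdj f).homEquiv _ _ ψ) := by
  have h1 : (adjZ X).homEquiv _ _ (oneTo f ≫ ψ) =
      (oneSec Y ≫ ((invPushAdj f).unit.app (CohTop.const Y (ULift.{u} ℤ))).hom.app (op ⊤)) ≫
        ((sheafSections (Opens.grothendieckTopology ↑X) AddCommGrpCat).obj (op ⊤)).map ψ := by
    rw [Adjunction.homEquiv_naturality_right, oneTo, Equiv.apply_symm_apply]
    rfl
  have h2 : (adjZ Y).homEquiv _ ((CohTop.push f).obj A) ((invPushAdj f).homEquiv _ _ ψ) =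
      oneSec Y ≫ ((invPushAdj f).unit.app (CohTop.const Y (ULift.{u} ℤ)) ≫
        (CohTop.push f).map ψ).hom.app (op ⊤) := by
    rw [adjZ_homEquiv f, Adjunction.homEquiv_unit]
  rw [h1, h2, Category.assoc]
  rfl

instance oneTo_isIso : IsIso (oneTo f) := by
  apply isIso_of_coyoneda_map_bijective
  intro A
  have h : (fun ψ : (inv f).obj (CohTop.const Y (ULift.{u} ℤ)) ⟶ A => oneTo f ≫ ψ) =
      ((adjZ X).homEquiv _ _).symm ∘ ((adjZ Y).homEquiv _ ((CohTop.push f).obj A)) ∘
        ((invPushAdj f).homEquiv _ _) := by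
    funext ψ
    simp only [Function.comp_apply]
    rw [← adjZ_oneTo_comp, Equiv.symm_apply_apply]
  rw [h]
  exact ((adjZ X).homEquiv _ _).symm.bijective.comp
    (((adjZ Y).homEquiv _ _).bijective.comp ((invPushAdj f).homEquiv _ _).bijective)

end Top

section Sch

open AlgebraicGeometry

variable {X Y : Scheme.{u}} (f : X ⟶ Y) (G : X.Modules)

lemma theta_counit :
    theta f ((Scheme.Modules.pushforward f).obj G) ≫
      (SheafOfModules.toSheaf X.ringCatSheaf).map
        ((Scheme.Modules.pullbackPushforwardAdjunction f).counit.app G) =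
    (invPushAdj f.base).counit.app (Coh.toAb G) := by
  let u : Coh.toAb ((Scheme.Modules.pushforward f).obj G) ⟶
      (CohTop.push f.base).obj (Coh.toAb ((Scheme.Modules.pullback f).obj
        ((Scheme.Modules.pushforward f).obj G))) :=
    (SheafOfModules.toSheaf Y.ringCatSheaf).map
      ((Scheme.Modules.pullbackPushforwardAdjunction f).unit.app
        ((Scheme.Modules.pushforward f).obj G))
  let c : Coh.toAb ((Scheme.Modules.pullback f).obj ((Scheme.Modules.pushforward f).obj G)) ⟶
      Coh.toAb G :=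
    (SheafOfModules.toSheaf X.ringCatSheaf).map
      ((Scheme.Modules.pullbackPushforwardAdjunction f).counit.app G)
  have h : u ≫ (CohTop.push f.base).map c = 𝟙 ((CohTop.push f.base).obj (Coh.toAb G)) := by
    have h := (Scheme.Modules.pullbackPushforwardAdjunction f).right_triangle_components G
    exact ((SheafOfModules.toSheaf Y.ringCatSheaf).map_comp _ _).symm.trans
      ((congrArg (SheafOfModules.toSheaf Y.ringCatSheaf).map h).trans
        ((SheafOfModules.toSheaf Y.ringCatSheaf).map_id _))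
  have e1 := (invPushAdj f.base).homEquiv_naturality_right_symm u c
  have e2 : ((invPushAdj f.base).homEquiv _ _).symm (𝟙 ((CohTop.push f.base).obj (Coh.toAb G))) =
      (invPushAdj f.base).counit.app (Coh.toAb G) := by
    rw [Adjunction.homEquiv_counit, CategoryTheory.Functor.map_id, Category.id_comp]
  exact e1.symm.trans ((congrArg _ h).trans e2)

lemma pushEdge_eq_Φ (p : ℕ) (e : Coh.HH Y ((Scheme.Modules.pushforward f).obj G) p) :
    pushEdge f G p e = ExtAdj.Φ (invPushAdj f.base) (oneTo f.base) (Coh.toAb G) p e := by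
  rw [ExtAdj.Φ_apply, ← theta_counit]
  simp only [pushEdge, pullMod, pullAb, AddMonoidHom.coe_comp, Function.comp_apply,
    Sheaf.H.map_apply, Functor.mapExtAddHom_apply]
  rw [Ext.comp_assoc_of_third_deg_zero, Ext.mk₀_comp_mk₀]
  rfl

end Sch

end

end Groth.Agent.Lib.Lead.PushEdge
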