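import Groth.Agent.S0665
import Groth.Agent.S6773
import Groth.Agent.S16465
import Groth.Agent.Lib.Helper5.CechGenSES
import Groth.Agent.Lib.Helper83.DerivedLES
import Groth.Prelude.Def_EtCech

/-!
# Čech cohomology of presheaves as a universal δ-functor (universe-general)

For a family `Uf : ι → Over U` in a category `C` (hom-sets small relative to the coefficient
universe), the functors `P ↦ Ȟ^p(Uf, P)` on abelian presheaves form a cohomological δ-functor,
effaceable (they vanish on injective presheaves, S0665), hence universal (S6773); so they agree,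
as functors, with the right derived functors of `Ȟ⁰`.
-/

set_option autoImplicit false
universe w v u
open CategoryTheory CategoryTheory.Limits Opposite

namespace Groth.Agent.Lib.Lead.CechDelta

variable {C : Type u} [Category.{v} C] {U : C} [HasFiniteProducts (Over U)] {ι : Type w}
  (Uf : ι → Over U)

/-- The Čech complex functor on presheaves on `C`, for a family over `U`. -/
noncomputable abbrev cxFunctor :
    (Cᵒᵖ ⥤ AddCommGrpCat.{w}) ⥤ CochainComplex AddCommGrpCat.{w} ℕ :=
  (Functor.whiskeringLeft (Over U)ᵒᵖ Cᵒᵖ AddCommGrpCat.{w}).obj (Over.forget U).op ⋙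
    cechComplexFunctor Uf

open Groth.Agent.Lib.Lead Groth.Agent.Lib.Helper5 in
instance cechComplexFunctor_additive' {D : Type*} [Category D] [HasFiniteProducts D] {κ : Type w}
    (Z : κ → D) :
    (cechComplexFunctor Z :
      (Dᵒᵖ ⥤ AddCommGrpCat.{w}) ⥤ CochainComplex AddCommGrpCat.{w} ℕ).Additive where
  map_add {P Q} {φ ψ} := by
    ext n : 1
    change Limits.Pi.map (fun x : Fin (n + 1) → κ => (φ + ψ).app (op (gObj Z x))) =
      Limits.Pi.map (fun x : Fin (n + 1) → κ => φ.app (op (gObj Z x))) +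
        Limits.Pi.map (fun x : Fin (n + 1) → κ => ψ.app (op (gObj Z x)))
    apply Limits.Pi.hom_ext
    intro x
    rw [Limits.Pi.map_π, Preadditive.add_comp, Limits.Pi.map_π, Limits.Pi.map_π, NatTrans.app_add,
      Preadditive.comp_add]

instance cxFunctor_additive : (cxFunctor Uf).Additive := by
  unfold cxFunctor
  infer_instance

instance cechHFunctor_additive (p : ℕ) : (EtCech.cechHFunctor Uf p).Additive := by
  change (cxFunctor Uf ⋙ HomologicalComplex.homologyFunctor _ _ p).Additive
  infer_instance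

open Groth.Agent.Lib.Lead in
/-- A short exact sequence of presheaves gives a short exact sequence of Čech complexes. -/
theorem cx_shortExact (S : ShortComplex (Cᵒᵖ ⥤ AddCommGrpCat.{w})) (hS : S.ShortExact) :
    (S.map (cxFunctor Uf)).ShortExact := by
  have h := Groth.Agent.Lib.Helper5.gCech_shortExact Uf
    (S.map ((Functor.whiskeringLeft (Over U)ᵒᵖ Cᵒᵖ AddCommGrpCat.{w}).obj (Over.forget U).op))
    (fun n x => by
      have h1 := hS.map_of_exact ((evaluation Cᵒᵖ AddCommGrpCat.{w}).obj (op (gObj Uf x).left))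
      exact h1)
  exact h


/-- Čech cohomology of presheaves as a cohomological δ-functor. -/
noncomputable def cechDeltaFunctor :
    DeltaF.CohDeltaFunctor (Cᵒᵖ ⥤ AddCommGrpCat.{w}) AddCommGrpCat.{w} ℕ where
  F n := EtCech.cechHFunctor Uf n
  additive n := cechHFunctor_additive Uf n
  δ S hS n₀ n₁ h := (cx_shortExact Uf S hS).δ n₀ n₁ h
  δ_natural {S S'} hS hS' φ n₀ n₁ h :=
    (HomologicalComplex.HomologySequence.δ_naturality ((cxFunctor Uf).mapShortComplex.map φ)
      (cx_shortExact Uf S hS) (cx_shortExact Uf S' hS') n₀ n₁ h).symm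
  exact₂ S hS n := (cx_shortExact Uf S hS).homology_exact₂ n
  comp_δ S hS n₀ n₁ h := (cx_shortExact Uf S hS).comp_δ n₀ n₁ h
  exact₃ S hS n₀ n₁ h := (cx_shortExact Uf S hS).homology_exact₃ n₀ n₁ h
  δ_comp S hS n₀ n₁ h := (cx_shortExact Uf S hS).δ_comp n₀ n₁ h
  exact₁ S hS n₀ n₁ h := (cx_shortExact Uf S hS).homology_exact₁ n₀ n₁ h


@[simp] lemma cechDeltaFunctor_F (n : ℕ) : (cechDeltaFunctor Uf).F n = EtCech.cechHFunctor Uf n := rfl

/-- Čech cohomology is effaceable: it vanishes in positive degrees on injective presheaves. -/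
theorem cechDeltaFunctor_isEffaceable [LocallySmall.{w} C]
    [EnoughInjectives (Cᵒᵖ ⥤ AddCommGrpCat.{w})] : (cechDeltaFunctor Uf).IsEffaceable := by
  intro n X
  refine ⟨Injective.under X, Injective.ι X, inferInstance, ?_⟩
  have hz : IsZero ((EtCech.cechHFunctor Uf (n + 1)).obj (Injective.under X)) :=
    Groth.Agent.S0665.result Uf (Injective.under X) n
  exact hz.eq_of_tgt _ _

/-- Čech cohomology of presheaves is a universal δ-functor. -/
theorem cechDeltaFunctor_isUniversal [LocallySmall.{w} C]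
    [EnoughInjectives (Cᵒᵖ ⥤ AddCommGrpCat.{w})] : (cechDeltaFunctor Uf).IsUniversal :=
  Groth.Agent.S6773.result _ (cechDeltaFunctor_isEffaceable Uf)

/-- `Ȟ⁰` is left exact on presheaves. -/
instance cechH0_preservesFiniteLimits : PreservesFiniteLimits (EtCech.cechHFunctor Uf 0) := by
  refine ((Functor.preservesFiniteLimits_tfae (EtCech.cechHFunctor Uf 0)).out 0 3).1 ?_
  intro S hS
  have hT := cx_shortExact Uf S hS
  haveI := hT.mono_f
  refine ⟨hT.homology_exact₂ 0, ?_⟩
  exact HomologicalComplex.mono_homologyMap_of_mono_of_not_rel (S.map (cxFunctor Uf)).f 0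
    (by simp)


section Generic

variable {A : Type*} [Category A] [Abelian A] {B : Type*} [Category B] [Abelian B]

/-- Two universal δ-functors which agree in degree `0` agree (as functors) in all degrees. -/
theorem nonempty_iso_of_isUniversal (T T' : DeltaF.CohDeltaFunctor A B ℕ) (hT : T.IsUniversal)
    (hT' : T'.IsUniversal) (e : T.F 0 ≅ T'.F 0) (n : ℕ) : Nonempty (T.F n ≅ T'.F n) := by
  obtain ⟨τ, hτ, -⟩ := hT T' e.hom
  obtain ⟨τ', hτ', -⟩ := hT' T e.inv
  obtain ⟨σ, -, hσ⟩ := hT T (𝟙 _)
  obtain ⟨σ', -, hσ'⟩ := hT' T' (𝟙 _)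
  have h1 : τ ≫ τ' = 𝟙 T := by
    rw [hσ (τ ≫ τ') (by
        change (τ ≫ τ').app 0 = 𝟙 _
        rw [DeltaF.CohDeltaFunctor.comp_app, hτ, hτ', e.hom_inv_id]),
      hσ (𝟙 T) (DeltaF.CohDeltaFunctor.id_app T 0)]
  have h2 : τ' ≫ τ = 𝟙 T' := by
    rw [hσ' (τ' ≫ τ) (by
        change (τ' ≫ τ).app 0 = 𝟙 _
        rw [DeltaF.CohDeltaFunctor.comp_app, hτ, hτ', e.inv_hom_id]),
      hσ' (𝟙 T') (DeltaF.CohDeltaFunctor.id_app T' 0)]
  refine ⟨⟨τ.app n, τ'.app n, ?_, ?_⟩⟩
  · rw [← DeltaF.CohDeltaFunctor.comp_app, h1, DeltaF.CohDeltaFunctor.id_app]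
  · rw [← DeltaF.CohDeltaFunctor.comp_app, h2, DeltaF.CohDeltaFunctor.id_app]

/-- An abelian category with injective resolutions has enough injectives. -/
theorem enoughInjectives_of_hasInjectiveResolutions [HasInjectiveResolutions A] :
    EnoughInjectives A where
  presentation X := by
    obtain ⟨⟨I⟩⟩ := (HasInjectiveResolutions.out X : HasInjectiveResolution X)
    exact ⟨{ J := I.cocomplex.X 0
             injective := I.injective 0
             f := (HomologicalComplex.singleObjXSelf (ComplexShape.up ℕ) 0 X).inv ≫ I.ι.f 0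
             mono := mono_comp _ _ }⟩

end Generic

/-- **Čech cohomology of presheaves is the right derived functor of `Ȟ⁰`**, as functors. -/
theorem nonempty_cechHFunctor_iso_rightDerived [LocallySmall.{w} C]
    [HasInjectiveResolutions (Cᵒᵖ ⥤ AddCommGrpCat.{w})] (p : ℕ) :
    Nonempty (EtCech.cechHFunctor Uf p ≅ (EtCech.cechHFunctor Uf 0).rightDerived p) := by
  haveI : EnoughInjectives (Cᵒᵖ ⥤ AddCommGrpCat.{w}) := enoughInjectives_of_hasInjectiveResolutions
  exact nonempty_iso_of_isUniversal (cechDeltaFunctor Uf)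
    (Groth.Agent.Lib.Helper83.derivedLES (EtCech.cechHFunctor Uf 0)).toCohDeltaFunctor
    (cechDeltaFunctor_isUniversal Uf) (Groth.Agent.S16465.result _ _)
    (Functor.rightDerivedZeroIsoSelf (EtCech.cechHFunctor Uf 0)).symm p

end Groth.Agent.Lib.Lead.CechDelta
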