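import Groth.Agent.Lib.Lead.CechSite3
import Groth.Agent.Lib.Helper5.CechGenSES
import Groth.Agent.Lib.Helper5.RDerShift
import Mathlib.CategoryTheory.Abelian.GrothendieckCategory.EnoughInjectives
import Mathlib.CategoryTheory.Abelian.GrothendieckAxioms.FunctorCategory
import Mathlib.CategoryTheory.Generator.Presheaf
import Mathlib.Algebra.Category.Grp.AB
set_option autoImplicit false
universe u
open CategoryTheory CategoryTheory.Limits Opposite
namespace Groth.Agent.Lib.Lead

/-- Presheaves of abelian groups on a small category form a Grothendieck abelian category. -/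
instance isGrothendieckAbelian_presheafAb {C : Type u} [SmallCategory C] :
    IsGrothendieckAbelian.{u} (Cᵒᵖ ⥤ AddCommGrpCat.{u}) where
  ab5OfSize := ⟨fun J _ _ => inferInstance⟩

variable {C : Type u} [SmallCategory C] [HasPullbacks C] {U : C} {ι : Type u} (Y : ι → Over U)



/-- The Čech complex functor on presheaves on `C`, for a family over `U`. -/
noncomputable abbrev sCechCxFunctor :
    (Cᵒᵖ ⥤ AddCommGrpCat.{u}) ⥤ CochainComplex AddCommGrpCat.{u} ℕ :=
  (Functor.whiskeringLeft (Over U)ᵒᵖ Cᵒᵖ AddCommGrpCat.{u}).obj (Over.forget U).op ⋙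
    cechComplexFunctor Y

/-- The `p`-th Čech cohomology functor on presheaves. -/
noncomputable abbrev sCechHFunctor (p : ℕ) : (Cᵒᵖ ⥤ AddCommGrpCat.{u}) ⥤ AddCommGrpCat.{u} :=
  sCechCxFunctor Y ⋙ HomologicalComplex.homologyFunctor _ _ p

lemma sCechHFunctor_obj (p : ℕ) (P : Cᵒᵖ ⥤ AddCommGrpCat.{u}) :
    (sCechHFunctor Y p).obj P = CohCx.cechH P Y p := rfl



open Groth.Agent.Lib.Helper5 in
instance cechComplexFunctor_additive {D : Type*} [Category D] [HasFiniteProducts D] {κ : Type u}
    (Z : κ → D) :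
    (cechComplexFunctor Z :
      (Dᵒᵖ ⥤ AddCommGrpCat.{u}) ⥤ CochainComplex AddCommGrpCat.{u} ℕ).Additive where
  map_add {P Q} {φ ψ} := by
    ext n : 1
    change Limits.Pi.map (fun x : Fin (n + 1) → κ => (φ + ψ).app (op (gObj Z x))) =
      Limits.Pi.map (fun x : Fin (n + 1) → κ => φ.app (op (gObj Z x))) +
        Limits.Pi.map (fun x : Fin (n + 1) → κ => ψ.app (op (gObj Z x)))
    apply Limits.Pi.hom_ext
    intro x
    rw [Limits.Pi.map_π, Preadditive.add_comp, Limits.Pi.map_π, Limits.Pi.map_π, NatTrans.app_add,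
      Preadditive.comp_add]



/-- A short exact sequence of presheaves gives a short exact sequence of Čech complexes. -/
theorem sCechCx_shortExact (S : ShortComplex (Cᵒᵖ ⥤ AddCommGrpCat.{u})) (hS : S.ShortExact) :
    (S.map (sCechCxFunctor Y)).ShortExact := by
  have h := Groth.Agent.Lib.Helper5.gCech_shortExact Y
    (S.map ((Functor.whiskeringLeft (Over U)ᵒᵖ Cᵒᵖ AddCommGrpCat.{u}).obj (Over.forget U).op))
    (fun n x => by
      have h1 := hS.map_of_exact ((evaluation Cᵒᵖ AddCommGrpCat.{u}).obj (op (gObj Y x).left))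
      exact h1)
  exact h

/-- `Ȟ⁰` is left exact on presheaves. -/
instance sCechH0_preservesFiniteLimits : PreservesFiniteLimits (sCechHFunctor Y 0) := by
  refine ((Functor.preservesFiniteLimits_tfae (sCechHFunctor Y 0)).out 0 3).1 ?_
  intro S hS
  have hT := sCechCx_shortExact Y S hS
  haveI := hT.mono_f
  refine ⟨hT.homology_exact₂ 0, ?_⟩
  exact HomologicalComplex.mono_homologyMap_of_mono_of_not_rel (S.map (sCechCxFunctor Y)).f 0
    (by simp)

/-- Injective presheaves are Čech-acyclic. -/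
theorem isZero_sCechH_of_injective_presheaf (I : Cᵒᵖ ⥤ AddCommGrpCat.{u}) [Injective I] (n : ℕ) :
    IsZero ((sCechHFunctor Y (n + 1)).obj I) := by
  change IsZero ((gCx Y (sPU I)).homology (n + 1))
  rw [isZero_gH_succ_iff]
  intro c hc
  exact sCech_exact_of_injective_presheaf Y I n c hc

section Shift

variable (P : Cᵒᵖ ⥤ AddCommGrpCat.{u})

/-- The canonical short exact sequence `0 ⟶ P ⟶ I ⟶ Q ⟶ 0` of presheaves with `I` injective. -/
noncomputable def pSES : ShortComplex (Cᵒᵖ ⥤ AddCommGrpCat.{u}) :=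
  ShortComplex.mk (Injective.ι P) (cokernel.π (Injective.ι P)) (cokernel.condition _)

lemma pSES_shortExact : (pSES P).ShortExact :=
  { exact := ShortComplex.exact_of_g_is_cokernel _ (cokernelIsCokernel (pSES P).f)
    mono_f := inferInstanceAs (Mono (Injective.ι P))
    epi_g := inferInstanceAs (Epi (cokernel.π (Injective.ι P))) }

instance : Injective (pSES P).X₂ := inferInstanceAs (Injective (Injective.under P))

end Shift

open Groth.Agent.Lib.Helper5 Groth.Agent.Lib.Helper83 in
/-- **Čech cohomology of presheaves is the right derived functor of `Ȟ⁰`** (objectwise). -/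
theorem nonempty_rightDerived_sCechH0_iso : ∀ (p : ℕ) (P : Cᵒᵖ ⥤ AddCommGrpCat.{u}),
    Nonempty (((sCechHFunctor Y 0).rightDerived p).obj P ≅ (sCechHFunctor Y p).obj P)
  | 0, P => ⟨(Functor.rightDerivedZeroIsoSelf (sCechHFunctor Y 0)).app P⟩
  | 1, P => by
    have hS := pSES_shortExact P
    have hT := sCechCx_shortExact Y (pSES P) hS
    obtain ⟨π, w, hex, hepi⟩ := exact_and_epi_toRightDerivedOne (sCechHFunctor Y 0) hS
    have hex' := hT.homology_exact₃ 0 1 rfl
    have hepi' : Epi (hT.δ 0 1 rfl) :=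
      hT.epi_δ 0 1 rfl (isZero_sCechH_of_injective_presheaf Y (pSES P).X₂ 0)
    exact ⟨IsColimit.coconePointUniqueUpToIso hex.gIsCokernel hex'.gIsCokernel⟩
  | (p + 2), P => by
    have hS := pSES_shortExact P
    have hT := sCechCx_shortExact Y (pSES P) hS
    obtain ⟨e⟩ := nonempty_rightDerived_sCechH0_iso (p + 1) (pSES P).X₃
    haveI := isIso_δ_of_injective (sCechHFunctor Y 0) hS p
    have hrel : (ComplexShape.up ℕ).Rel (p + 1) (p + 2) := rfl
    have h3 : IsIso (hT.δ (p + 1) (p + 2) hrel) :=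
      hT.isIso_δ (p + 1) (p + 2) hrel (isZero_sCechH_of_injective_presheaf Y (pSES P).X₂ p)
        (isZero_sCechH_of_injective_presheaf Y (pSES P).X₂ (p + 1))
    exact ⟨(asIso ((derivedLES (sCechHFunctor Y 0)).δ (pSES P) hS (p + 1) (p + 2) rfl)).symm ≪≫ e ≪≫
      @asIso _ _ _ _ (hT.δ (p + 1) (p + 2) hrel) h3⟩

end Groth.Agent.Lib.Lead
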