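import Groth.Prelude.Def_CechEdge
import Groth.Agent.Lib.Lead.CechDelta
import Groth.Agent.Lib.Lead.ExtDelta
import Groth.Agent.Lib.Lead.CechDerived
import Groth.Agent.Lib.Helper5.CechSiteZero

/-!
# Edge maps from Čech cohomology to sheaf cohomology via universal δ-functors
-/

set_option autoImplicit false
universe u
open CategoryTheory CategoryTheory.Limits Opposite

namespace Groth.Agent.Lib.Lead.Edge

open Groth.Agent.Lib.Lead Groth.Agent.Lib.Helper5

variable {C : Type u} [SmallCategory C] [HasPullbacks C] (J : GrothendieckTopology C)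
  {U : C} {ι : Type u} (Y : ι → Over U)

/-- The target δ-functor `P ↦ Hⁿ(U, P^#)` on presheaves. -/
noncomputable def tgt (U : C) :
    DeltaF.CohDeltaFunctor (Cᵒᵖ ⥤ AddCommGrpCat.{u}) AddCommGrpCat.{u} ℕ :=
  ExtDelta.precompExact (presheafToSheaf J AddCommGrpCat.{u})
    (ExtDelta.extDeltaFunctor (CohCx.freeSheaf J U))

lemma tgt_F_obj (n : ℕ) (P : Cᵒᵖ ⥤ AddCommGrpCat.{u}) :
    ((tgt J U).F n).obj P = AddCommGrpCat.of (CohSite.HU (CechEdge.shf J P) n U) := rfl

/-- `toCech` is helper5's `sCechEta`. -/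
lemma toCech_eq (P : Cᵒᵖ ⥤ AddCommGrpCat.{u}) :
    CechEdge.toCech Y P = (sCechEta Y P).hom := rfl


section SectH0

variable {J}

/-- sections ↦ `H⁰` class, as a morphism of abelian groups. -/
noncomputable def sectH0Hom (U : C) (F : Sheaf J AddCommGrpCat.{u}) :
    F.obj.obj (op U) ⟶ (Abelian.extFunctorObj (CohCx.freeSheaf J U) 0).obj F :=
  AddCommGrpCat.ofHom (CechEdge.sectH0 J U F).toAddMonoidHom

lemma sectH0_apply (U : C) (F : Sheaf J AddCommGrpCat.{u}) (s : F.obj.obj (op U)) :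
    CechEdge.sectH0 J U F s = Abelian.Ext.mk₀ (CohFree.ofSect J U F s) := rfl

lemma ofSect_comp (U : C) {F G : Sheaf J AddCommGrpCat.{u}} (ψ : F ⟶ G) (s : F.obj.obj (op U)) :
    CohFree.ofSect J U F s ≫ ψ = CohFree.ofSect J U G ((ψ.hom.app (op U)).hom s) := by
  apply (CohFree.homEquivSect J U G).injective
  rw [CohFree.homEquivSect_apply, CohFree.homEquivSect_apply, CohFree.evalGen_ofSect]
  change (ψ.hom.app (op U)).hom (CohFree.evalGen J U F (CohFree.ofSect J U F s)) = _
  rw [CohFree.evalGen_ofSect]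

lemma sectH0_naturality (U : C) {F G : Sheaf J AddCommGrpCat.{u}} (ψ : F ⟶ G) :
    sectH0Hom U F ≫ (Abelian.extFunctorObj (CohCx.freeSheaf J U) 0).map ψ =
      ψ.hom.app (op U) ≫ sectH0Hom U G := by
  ext s
  change (CechEdge.sectH0 J U F s).comp (Abelian.Ext.mk₀ ψ) (add_zero 0) =
    CechEdge.sectH0 J U G ((ψ.hom.app (op U)).hom s)
  rw [sectH0_apply, sectH0_apply, Abelian.Ext.mk₀_comp_mk₀, ofSect_comp]

end SectH0


section T0

variable {J}
variable (hY : Sieve.ofArrows (fun i => (Y i).left) (fun i => (Y i).hom) ∈ J U)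

/-- `sCechEta` as a morphism to `Ȟ⁰` written with the Čech cohomology functor. -/
noncomputable def eta (P : Cᵒᵖ ⥤ AddCommGrpCat.{u}) :
    P.obj (op U) ⟶ (EtCech.cechHFunctor Y 0).obj P := sCechEta Y P

lemma eta_naturality {P Q : Cᵒᵖ ⥤ AddCommGrpCat.{u}} (φ : P ⟶ Q) :
    eta Y P ≫ (EtCech.cechHFunctor Y 0).map φ = φ.app (op U) ≫ eta Y Q :=
  sCechEta_naturality Y φ

include hY in
lemma isIso_eta (F : Sheaf J AddCommGrpCat.{u}) : IsIso (eta Y F.obj) :=
  isIso_sCechEta Y F hY

/-- the inverse of `eta` on a sheaf -/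
noncomputable def etaInv (F : Sheaf J AddCommGrpCat.{u}) :
    (EtCech.cechHFunctor Y 0).obj F.obj ⟶ F.obj.obj (op U) :=
  @inv _ _ _ _ (eta Y F.obj) (isIso_eta Y hY F)

lemma eta_etaInv (F : Sheaf J AddCommGrpCat.{u}) : eta Y F.obj ≫ etaInv Y hY F = 𝟙 _ :=
  @IsIso.hom_inv_id _ _ _ _ (eta Y F.obj) (isIso_eta Y hY F)

lemma etaInv_eta (F : Sheaf J AddCommGrpCat.{u}) : etaInv Y hY F ≫ eta Y F.obj = 𝟙 _ :=
  @IsIso.inv_hom_id _ _ _ _ (eta Y F.obj) (isIso_eta Y hY F)

@[reassoc]
lemma etaInv_naturality {F G : Sheaf J AddCommGrpCat.{u}} (ψ : F ⟶ G) :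
    (EtCech.cechHFunctor Y 0).map ψ.hom ≫ etaInv Y hY G = etaInv Y hY F ≫ ψ.hom.app (op U) := by
  haveI := isIso_eta Y hY F
  rw [← cancel_epi (eta Y F.obj), ← Category.assoc, eta_naturality, Category.assoc, eta_etaInv,
    Category.comp_id, ← Category.assoc, eta_etaInv, Category.id_comp]

/-- The degree-zero comparison `Ȟ⁰(Y, P) ⟶ H⁰(U, P^#)`. -/
noncomputable def t0 : (CechDelta.cechDeltaFunctor Y).F 0 ⟶ (tgt J U).F 0 where
  app P := (EtCech.cechHFunctor Y 0).map (toSheafify J P) ≫ etaInv Y hY (CechEdge.shf J P) ≫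
    sectH0Hom U (CechEdge.shf J P)
  naturality P Q φ := by
    change (EtCech.cechHFunctor Y 0).map φ ≫ (EtCech.cechHFunctor Y 0).map (toSheafify J Q) ≫
        etaInv Y hY (CechEdge.shf J Q) ≫ sectH0Hom U (CechEdge.shf J Q) =
      ((EtCech.cechHFunctor Y 0).map (toSheafify J P) ≫ etaInv Y hY (CechEdge.shf J P) ≫
        sectH0Hom U (CechEdge.shf J P)) ≫
        (Abelian.extFunctorObj (CohCx.freeSheaf J U) 0).map (CechEdge.shfMap J φ)
    have h1 : φ ≫ toSheafify J Q = toSheafify J P ≫ (CechEdge.shfMap J φ).hom :=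
      ((sheafificationAdjunction J AddCommGrpCat.{u}).unit.naturality φ)
    rw [← Functor.map_comp_assoc, h1, Functor.map_comp_assoc, Category.assoc, Category.assoc,
      sectH0_naturality]
    refine congrArg (fun k => (EtCech.cechHFunctor Y 0).map (toSheafify J P) ≫ k) ?_
    exact (Category.assoc _ _ _).symm.trans ((congrArg (· ≫ sectH0Hom U (CechEdge.shf J Q))
      (etaInv_naturality Y hY (CechEdge.shfMap J φ))).trans (Category.assoc _ _ _))

end T0


section Exists

variable {J}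
variable (hY : Sieve.ofArrows (fun i => (Y i).left) (fun i => (Y i).hom) ∈ J U)

lemma t0_app_toCech (P : Cᵒᵖ ⥤ AddCommGrpCat.{u}) (s : P.obj (op U)) :
    ((t0 Y hY).app P).hom (CechEdge.toCech Y P s) =
      CechEdge.sectH0 J U (CechEdge.shf J P) (((toSheafify J P).app (op U)).hom s) := by
  have h1 : eta Y P ≫ (t0 Y hY).app P =
      (toSheafify J P).app (op U) ≫ sectH0Hom U (CechEdge.shf J P) := by
    change eta Y P ≫ (EtCech.cechHFunctor Y 0).map (toSheafify J P) ≫
      etaInv Y hY (CechEdge.shf J P) ≫ sectH0Hom U (CechEdge.shf J P) = _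
    rw [← Category.assoc, eta_naturality, Category.assoc, ← Category.assoc (eta Y _),
      eta_etaInv, Category.id_comp]
  exact ConcreteCategory.congr_hom h1 s

include hY in
/-- **Existence of the edge family** from Čech cohomology to cohomology of the associated sheaf. -/
theorem exists_isEdge :
    ∃ e : ∀ (P : Cᵒᵖ ⥤ AddCommGrpCat.{u}) (p : ℕ),
      CohCx.cechH P Y p →+ CohSite.HU (CechEdge.shf J P) p U, CechEdge.IsEdge J Y e := by
  obtain ⟨τ, hτ, -⟩ := CechDelta.cechDeltaFunctor_isUniversal Y (tgt J U) (t0 Y hY)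
  refine ⟨fun P p => ((τ.app p).app P).hom, ?_⟩
  constructor
  · exact hY
  · intro P s
    have h0 : (τ.app 0).app P = (t0 Y hY).app P := by rw [hτ]
    change ((τ.app 0).app P).hom (CechEdge.toCech Y P s) = _
    rw [h0]
    exact t0_app_toCech Y hY P s
  · intro P Q φ p x
    exact ConcreteCategory.congr_hom ((τ.app p).naturality φ) x
  · intro S hS hC p x
    exact ConcreteCategory.congr_hom (τ.comm S hS p (p + 1) rfl) x

end Exists


section Unique

variable {J}

/-- An edge family as a morphism of δ-functors. -/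
noncomputable def homOfIsEdge
    (e : ∀ (P : Cᵒᵖ ⥤ AddCommGrpCat.{u}) (p : ℕ),
      CohCx.cechH P Y p →+ CohSite.HU (CechEdge.shf J P) p U)
    (he : CechEdge.IsEdge J Y e) : CechDelta.cechDeltaFunctor Y ⟶ tgt J U where
  app p :=
    { app := fun P => AddCommGrpCat.ofHom (e P p)
      naturality := fun P Q φ => by
        ext x
        exact he.natural P Q φ p x }
  comm S hS n₀ n₁ h := by
    subst h
    ext x
    exact he.delta S hS (CechDelta.cx_shortExact Y S hS) n₀ x

lemma isIso_shfMap_toSheafify (P : Cᵒᵖ ⥤ AddCommGrpCat.{u}) :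
    IsIso (CechEdge.shfMap J (toSheafify J P)) := by
  have h := (sheafificationAdjunction J AddCommGrpCat.{u}).left_triangle_components P
  haveI : IsIso ((sheafificationAdjunction J AddCommGrpCat.{u}).counit.app (CechEdge.shf J P)) :=
    inferInstance
  exact IsIso.of_isIso_fac_right h

/-- Two edge families agree in degree `0`. -/
lemma isEdge_zero_unique
    (e e' : ∀ (P : Cᵒᵖ ⥤ AddCommGrpCat.{u}) (p : ℕ),
      CohCx.cechH P Y p →+ CohSite.HU (CechEdge.shf J P) p U)
    (he : CechEdge.IsEdge J Y e) (he' : CechEdge.IsEdge J Y e')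
    (P : Cᵒᵖ ⥤ AddCommGrpCat.{u}) (x : CohCx.cechH P Y 0) : e P 0 x = e' P 0 x := by
  haveI := isIso_shfMap_toSheafify (J := J) P
  have hinj : Function.Injective (CechEdge.HUmap (CechEdge.shfMap J (toSheafify J P)) 0 U) := by
    haveI : IsIso (((Sheaf.cohomologyPresheafFunctor J 0).map
        (CechEdge.shfMap J (toSheafify J P))).app (op U)) := inferInstance
    exact ((ConcreteCategory.isIso_iff_bijective _).1 this).1
  apply hinj
  rw [← he.natural, ← he'.natural]
  haveI := isIso_eta Y he.cover (CechEdge.shf J P)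
  obtain ⟨s, hs⟩ := ((ConcreteCategory.isIso_iff_bijective (eta Y (CechEdge.shf J P).obj)).1
    inferInstance).2 (CechEdge.cechHMap Y (toSheafify J P) 0 x)
  have hs' : CechEdge.toCech Y (CechEdge.shf J P).obj s =
      CechEdge.cechHMap Y (toSheafify J P) 0 x := hs
  rw [← hs', he.zero, he'.zero]

end Unique

end Groth.Agent.Lib.Lead.Edge
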