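import Groth.Agent.Lib.Lead.CechEdgeLib

/-!
# Uniqueness of the edge family
-/

set_option autoImplicit false
universe u
open CategoryTheory CategoryTheory.Limits Opposite

namespace Groth.Agent.Lib.Lead.Edge

open Groth.Agent.Lib.Lead Groth.Agent.Lib.Helper5

variable {C : Type u} [SmallCategory C] [HasPullbacks C] {J : GrothendieckTopology C}
  {U : C} {ι : Type u} (Y : ι → Over U)

/-- **Uniqueness of the edge family.** -/
theorem isEdge_unique
    (e e' : ∀ (P : Cᵒᵖ ⥤ AddCommGrpCat.{u}) (p : ℕ),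
      CohCx.cechH P Y p →+ CohSite.HU (CechEdge.shf J P) p U)
    (he : CechEdge.IsEdge J Y e) (he' : CechEdge.IsEdge J Y e') : e = e' := by
  obtain ⟨σ, -, hσ⟩ := CechDelta.cechDeltaFunctor_isUniversal Y (tgt J U)
    ((homOfIsEdge Y e he).app 0)
  have h0 : (homOfIsEdge Y e' he').app 0 = (homOfIsEdge Y e he).app 0 := by
    ext P x
    exact (isEdge_zero_unique Y e e' he he' P x).symm
  have h : homOfIsEdge Y e he = homOfIsEdge Y e' he' := (hσ _ rfl).trans (hσ _ h0).symm
  funext P p
  ext x
  have h1 := congrArg (fun τ : CechDelta.cechDeltaFunctor Y ⟶ tgt J U => (τ.app p).app P) h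
  exact ConcreteCategory.congr_hom h1 x

end Groth.Agent.Lib.Lead.Edge
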