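import Groth.Agent.Lib.Lead.CechEdgeLib2

/-!
# The edge map in degree one is injective
-/

set_option autoImplicit false
universe u
open CategoryTheory CategoryTheory.Limits Opposite

namespace Groth.Agent.Lib.Lead.Edge

open Groth.Agent.Lib.Lead Groth.Agent.Lib.Helper5

section Generic

variable {A : Type*} [Category A] [Abelian A]

/-- Four-lemma style dimension shifting for a morphism of δ-functors. -/
theorem injective_succ_of_effacing (T T' : DeltaF.CohDeltaFunctor A AddCommGrpCat.{u} ℕ)
    (τ : T ⟶ T') (S : ShortComplex A) (hS : S.ShortExact) (n : ℕ)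
    (hI : IsZero ((T.F (n + 1)).obj S.X₂))
    (ha : Function.Surjective ((τ.app n).app S.X₂).hom)
    (hb : Function.Injective ((τ.app n).app S.X₃).hom) :
    Function.Injective ((τ.app (n + 1)).app S.X₁).hom := by
  rw [injective_iff_map_eq_zero]
  intro x hx
  -- x comes from y
  have hx0 : ((T.F (n + 1)).map S.f).hom x = 0 := by
    have h0 : (T.F (n + 1)).map S.f = 0 := hI.eq_of_tgt _ _
    rw [h0]
    rfl
  obtain ⟨y, rfl⟩ := (ShortComplex.ab_exact_iff _).1 (T.exact₁ S hS n (n + 1) rfl) x hx0
  have h1 : (T'.δ S hS n (n + 1) rfl).hom (((τ.app n).app S.X₃).hom y) = 0 := by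
    have := ConcreteCategory.congr_hom (τ.comm S hS n (n + 1) rfl) y
    exact this.symm.trans hx
  obtain ⟨z', hz'⟩ := (ShortComplex.ab_exact_iff _).1 (T'.exact₃ S hS n (n + 1) rfl) _ h1
  obtain ⟨z, rfl⟩ := ha z'
  have h2 : ((τ.app n).app S.X₃).hom (((T.F n).map S.g).hom z) = ((τ.app n).app S.X₃).hom y := by
    have := ConcreteCategory.congr_hom ((τ.app n).naturality S.g) z
    exact this.trans hz'
  have h3 := hb h2
  rw [← h3]
  exact ConcreteCategory.congr_hom (T.comp_δ S hS n (n + 1) rfl) z

end Generic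


variable {C : Type u} [SmallCategory C] [HasPullbacks C] {J : GrothendieckTopology C}
  {U : C} {ι : Type u} (Y : ι → Over U)
  (e : ∀ (P : Cᵒᵖ ⥤ AddCommGrpCat.{u}) (p : ℕ),
      CohCx.cechH P Y p →+ CohSite.HU (CechEdge.shf J P) p U)
  (he : CechEdge.IsEdge J Y e)

include he in
/-- On (the underlying presheaf of) a sheaf the degree-zero edge map is bijective. -/
lemma isEdge_zero_bijective_of_sheaf (G : Sheaf J AddCommGrpCat.{u}) :
    Function.Bijective (e G.obj 0) := by
  haveI := isIso_eta Y he.cover G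
  have h1 : Function.Bijective (CechEdge.toCech Y G.obj) :=
    (ConcreteCategory.isIso_iff_bijective (eta Y G.obj)).1 inferInstance
  haveI : IsIso (toSheafify J G.obj) := isIso_toSheafify J G.cond
  have h2 : Function.Bijective ((toSheafify J G.obj).app (op U)).hom :=
    (ConcreteCategory.isIso_iff_bijective ((toSheafify J G.obj).app (op U))).1 inferInstance
  have h3 : (e G.obj 0) ∘ (CechEdge.toCech Y G.obj) =
      (CechEdge.sectH0 J U (CechEdge.shf J G.obj)) ∘ ((toSheafify J G.obj).app (op U)).hom := by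
    funext s
    exact he.zero G.obj s
  have h4 : Function.Bijective ((e G.obj 0) ∘ (CechEdge.toCech Y G.obj)) := by
    rw [h3]
    exact (CechEdge.sectH0 J U (CechEdge.shf J G.obj)).bijective.comp h2
  exact (Function.Bijective.of_comp_iff _ h1).1 h4


section PSES

variable (F : Sheaf J AddCommGrpCat.{u})

/-- The sheaf short exact sequence `0 ⟶ F ⟶ I ⟶ Q ⟶ 0` with `I` injective. -/
noncomputable def shSES : ShortComplex (Sheaf J AddCommGrpCat.{u}) :=
  ShortComplex.mk (Injective.ι F) (cokernel.π (Injective.ι F)) (cokernel.condition _)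

lemma shSES_shortExact : (shSES F).ShortExact :=
  { exact := ShortComplex.exact_of_g_is_cokernel _ (cokernelIsCokernel (shSES F).f)
    mono_f := inferInstanceAs (Mono (Injective.ι F))
    epi_g := inferInstanceAs (Epi (cokernel.π (Injective.ι F))) }

/-- the presheaf map `I ⟶ Q` -/
noncomputable abbrev pg₀ : (Injective.under F).obj ⟶ (cokernel (Injective.ι F)).obj :=
  (cokernel.π (Injective.ι F)).hom

/-- The presheaf short exact sequence `0 ⟶ F ⟶ I ⟶ Q' ⟶ 0`, `Q'` the presheaf image of `I ⟶ Q`. -/
noncomputable def pshSES : ShortComplex (Cᵒᵖ ⥤ AddCommGrpCat.{u}) :=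
  ShortComplex.mk (Injective.ι F).hom (Abelian.factorThruImage (pg₀ F)) (by
    rw [← cancel_mono (Abelian.image.ι (pg₀ F)), Category.assoc, Abelian.image.fac, zero_comp]
    have h := congrArg (sheafToPresheaf J AddCommGrpCat.{u}).map (cokernel.condition (Injective.ι F))
    rw [Functor.map_comp, Functor.map_zero] at h
    exact h)

/-- comparison with the image of the sheaf sequence under the forgetful functor -/
noncomputable def pshSESHom : pshSES F ⟶ (shSES F).map (sheafToPresheaf J AddCommGrpCat.{u}) where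
  τ₁ := 𝟙 _
  τ₂ := 𝟙 _
  τ₃ := Abelian.image.ι (pg₀ F)
  comm₁₂ := by
    change 𝟙 _ ≫ (Injective.ι F).hom = (Injective.ι F).hom ≫ 𝟙 _
    rw [Category.comp_id, Category.id_comp]
  comm₂₃ := by
    change 𝟙 _ ≫ pg₀ F = Abelian.factorThruImage (pg₀ F) ≫ Abelian.image.ι (pg₀ F)
    rw [Abelian.image.fac, Category.id_comp]

lemma pshSES_shortExact : (pshSES F).ShortExact := by
  have hS := shSES_shortExact F
  haveI : Mono (shSES F).f := hS.mono_f
  have h1 : ((shSES F).map (sheafToPresheaf J AddCommGrpCat.{u})).Exact :=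
    hS.exact.map_of_mono_of_preservesKernel _ hS.mono_f inferInstance
  haveI : Epi (pshSESHom F).τ₁ := inferInstanceAs (Epi (𝟙 _))
  haveI : IsIso (pshSESHom F).τ₂ := inferInstanceAs (IsIso (𝟙 _))
  haveI : Mono (pshSESHom F).τ₃ := inferInstanceAs (Mono (Abelian.image.ι (pg₀ F)))
  exact
    { exact := (ShortComplex.exact_iff_of_epi_of_isIso_of_mono (pshSESHom F)).2 h1
      mono_f := inferInstanceAs (Mono ((sheafToPresheaf J AddCommGrpCat.{u}).map (Injective.ι F)))
      epi_g := inferInstanceAs (Epi (Abelian.factorThruImage (pg₀ F))) }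

end PSES


end Groth.Agent.Lib.Lead.Edge
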