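import Groth.Agent.Lib.Lead.CechEdgeLib3

/-!
# The edge map in degree one is injective (main statements)
-/

set_option autoImplicit false
universe u
open CategoryTheory CategoryTheory.Limits Opposite

namespace Groth.Agent.Lib.Lead.Edge

open Groth.Agent.Lib.Lead Groth.Agent.Lib.Helper5

variable {C : Type u} [SmallCategory C] [HasPullbacks C] {J : GrothendieckTopology C}
  {U : C} {ι : Type u} (Y : ι → Over U)
  (e : ∀ (P : Cᵒᵖ ⥤ AddCommGrpCat.{u}) (p : ℕ),
      CohCx.cechH P Y p →+ CohSite.HU (CechEdge.shf J P) p U)
  (he : CechEdge.IsEdge J Y e)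

section Main

include he in
/-- injectivity of the degree-zero edge map on a subpresheaf of a sheaf -/
lemma isEdge_zero_injective_of_mono {Q' : Cᵒᵖ ⥤ AddCommGrpCat.{u}} (G : Sheaf J AddCommGrpCat.{u})
    (j : Q' ⟶ G.obj) [Mono j] : Function.Injective (e Q' 0) := by
  intro x x' hxx
  have h1 : e G.obj 0 (CechEdge.cechHMap Y j 0 x) = e G.obj 0 (CechEdge.cechHMap Y j 0 x') := by
    rw [he.natural, he.natural, hxx]
  have h2 := (isEdge_zero_bijective_of_sheaf Y e he G).1 h1
  haveI : Mono ((EtCech.cechHFunctor Y 0).map j) := inferInstance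
  exact (AddCommGrpCat.mono_iff_injective ((EtCech.cechHFunctor Y 0).map j)).1 inferInstance h2

include he in
/-- **The edge map `Ȟ¹(Y, F) ⟶ H¹(U, F^#)` is injective** for a sheaf `F`. -/
theorem isEdge_one_injective (F : Sheaf J AddCommGrpCat.{u}) :
    Function.Injective (e F.obj 1) := by
  haveI : Injective (Injective.under F).obj :=
    injective_presheaf_of_injective_sheaf_site J (Injective.under F)
  have hb : Function.Injective (e (Abelian.image (pg₀ F)) 0) :=
    @isEdge_zero_injective_of_mono _ _ _ _ _ _ Y e he _ (cokernel (Injective.ι F))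
      (Abelian.image.ι (pg₀ F)) (inferInstanceAs (Mono (Abelian.image.ι (pg₀ F))))
  have ha : Function.Surjective (e (Injective.under F).obj 0) :=
    (isEdge_zero_bijective_of_sheaf Y e he (Injective.under F)).2
  have hI : IsZero (((CechDelta.cechDeltaFunctor Y).F (0 + 1)).obj (pshSES F).X₂) :=
    isZero_sCechH_of_injective_presheaf Y (Injective.under F).obj 0
  exact injective_succ_of_effacing (CechDelta.cechDeltaFunctor Y) (tgt J U) (homOfIsEdge Y e he)
    (pshSES F) (pshSES_shortExact F) 0 hI ha hb

include he in
/-- The sheaf-level edge map in degree one is injective. -/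
theorem edgeSh_one_injective (F : Sheaf J AddCommGrpCat.{u}) :
    Function.Injective (CechEdge.edgeSh e F 1) := by
  haveI : IsIso (((Sheaf.cohomologyPresheafFunctor J 1).map
      ((sheafificationAdjunction J AddCommGrpCat.{u}).counit.app F)).app (op U)) := inferInstance
  have h : Function.Injective
      (CechEdge.HUmap ((sheafificationAdjunction J AddCommGrpCat.{u}).counit.app F) 1 U) :=
    ((ConcreteCategory.isIso_iff_bijective (((Sheaf.cohomologyPresheafFunctor J 1).map
      ((sheafificationAdjunction J AddCommGrpCat.{u}).counit.app F)).app (op U))).1 inferInstance).1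
  exact h.comp (isEdge_one_injective Y e he F)

end Main

end Groth.Agent.Lib.Lead.Edge
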