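import Groth.Agent.Lib.Lead.CechEdgeLib4
import Mathlib.Algebra.Homology.DerivedCategory.Ext.EnoughInjectives

/-!
# The edge maps are bijective for acyclic families (Leray, with the canonical maps)
-/

set_option autoImplicit false
universe u
open CategoryTheory CategoryTheory.Limits Opposite

namespace Groth.Agent.Lib.Lead.Edge

open Groth.Agent.Lib.Lead Groth.Agent.Lib.Helper5

section Generic

variable {A : Type*} [Category A] [Abelian A]

/-- Surjectivity half of dimension shifting for a morphism of δ-functors. -/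
theorem surjective_succ_of_effacing (T T' : DeltaF.CohDeltaFunctor A AddCommGrpCat.{u} ℕ)
    (τ : T ⟶ T') (S : ShortComplex A) (hS : S.ShortExact) (n : ℕ)
    (hI : IsZero ((T'.F (n + 1)).obj S.X₂))
    (hb : Function.Surjective ((τ.app n).app S.X₃).hom) :
    Function.Surjective ((τ.app (n + 1)).app S.X₁).hom := by
  intro w
  have hw0 : ((T'.F (n + 1)).map S.f).hom w = 0 := by
    have h0 : (T'.F (n + 1)).map S.f = 0 := hI.eq_of_tgt _ _
    rw [h0]
    rfl
  obtain ⟨v, rfl⟩ := (ShortComplex.ab_exact_iff _).1 (T'.exact₁ S hS n (n + 1) rfl) w hw0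
  obtain ⟨y, rfl⟩ := hb v
  exact ⟨(T.δ S hS n (n + 1) rfl).hom y, ConcreteCategory.congr_hom (τ.comm S hS n (n + 1) rfl) y⟩

end Generic

variable {C : Type u} [SmallCategory C] [HasPullbacks C] {J : GrothendieckTopology C}
  {U : C} {ι : Type u} (Y : ι → Over U)

/-- The acyclicity hypothesis of Leray's theorem. -/
def Acyc (F : Sheaf J AddCommGrpCat.{u}) : Prop :=
  ∀ (p : ℕ) (a : Fin (p + 1) → ι) (q : ℕ),
    Subsingleton (CohSite.HU F (q + 1) (∏ᶜ fun k => Y (a k)).left)

section Sections

variable (F : Sheaf J AddCommGrpCat.{u})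

/-- `H^{q+1}(V, I/F) = 0` if `H^{q+2}(V, F) = 0` (`I` injective). -/
lemma subsingleton_HU_cokernel (V : C) (q : ℕ) (h : Subsingleton (CohSite.HU F (q + 2) V)) :
    Subsingleton (CohSite.HU (cokernel (Injective.ι F)) (q + 1) V) := by
  refine subsingleton_of_forall_eq 0 (fun x => ?_)
  have hS := shSES_shortExact F
  haveI h' : Subsingleton (Abelian.Ext (CohCx.freeSheaf J V) (shSES F).X₁ (q + 2)) := h
  obtain ⟨x₂, hx₂⟩ := Abelian.Ext.covariant_sequence_exact₃ (CohCx.freeSheaf J V) hS
    (x : Abelian.Ext (CohCx.freeSheaf J V) (shSES F).X₃ (q + 1)) (n₁ := q + 2) rfl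
    (Subsingleton.elim _ _)
  haveI : Subsingleton (Abelian.Ext (CohCx.freeSheaf J V) (shSES F).X₂ (q + 1)) :=
    Abelian.Ext.subsingleton_of_injective (CohCx.freeSheaf J V) (Injective.under F) q
  rw [← hx₂, Subsingleton.elim x₂ 0, Abelian.Ext.zero_comp]
  rfl

lemma acyc_cokernel (h : Acyc Y F) : Acyc Y (cokernel (Injective.ι F)) :=
  fun p a q => subsingleton_HU_cokernel F _ q (h p a (q + 1))

/-- Sections of `I ⟶ I/F` over `V` are surjective when `H¹(V, F) = 0`. -/
lemma sections_surjective (V : C) (h : Subsingleton (CohSite.HU F 1 V)) :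
    Function.Surjective ((cokernel.π (Injective.ι F)).hom.app (op V)).hom := by
  intro t
  have hS := shSES_shortExact F
  haveI h' : Subsingleton (Abelian.Ext (CohCx.freeSheaf J V) (shSES F).X₁ 1) := h
  obtain ⟨x₂, hx₂⟩ := Abelian.Ext.covariant_sequence_exact₃ (CohCx.freeSheaf J V) hS
    (CechEdge.sectH0 J V (shSES F).X₃ t) (n₁ := 1) rfl (Subsingleton.elim _ _)
  obtain ⟨s, rfl⟩ := (CechEdge.sectH0 J V (shSES F).X₂).surjective x₂
  refine ⟨s, ?_⟩
  apply (CechEdge.sectH0 J V (shSES F).X₃).injective
  rw [← hx₂]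
  exact (ConcreteCategory.congr_hom (sectH0_naturality V (shSES F).g) s).symm

end Sections


section Compare

variable (F : Sheaf J AddCommGrpCat.{u})

/-- The inclusion of the presheaf image `Q'` into the sheaf quotient `Q = I/F`. -/
noncomputable abbrev pj : Abelian.image (pg₀ F) ⟶ (cokernel (Injective.ι F)).obj :=
  Abelian.image.ι (pg₀ F)

lemma pj_app_bijective (V : C) (h : Subsingleton (CohSite.HU F 1 V)) :
    Function.Bijective ((pj F).app (op V)).hom := by
  constructor
  · haveI : Mono (pj F) := inferInstanceAs (Mono (Abelian.image.ι (pg₀ F)))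
    haveI : Mono ((pj F).app (op V)) := ((NatTrans.mono_iff_mono_app (pj F)).1 inferInstance) (op V)
    exact (AddCommGrpCat.mono_iff_injective _).1 inferInstance
  · intro t
    obtain ⟨s, hs⟩ := sections_surjective F V h t
    refine ⟨((Abelian.factorThruImage (pg₀ F)).app (op V)).hom s, ?_⟩
    have := congrArg (fun k => (k.app (op V)).hom s) (Abelian.image.fac (pg₀ F))
    exact this.trans hs

lemma isIso_pj_app (V : C) (h : Subsingleton (CohSite.HU F 1 V)) : IsIso ((pj F).app (op V)) :=
  (ConcreteCategory.isIso_iff_bijective _).2 (pj_app_bijective F V h)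

/-- Under the acyclicity hypothesis, `Q' ⟶ Q` induces an isomorphism of Čech complexes. -/
lemma isIso_cx_map_pj (h : Acyc Y F) : IsIso ((CechDelta.cxFunctor Y).map (pj F)) := by
  haveI : ∀ n : ℕ, IsIso (((CechDelta.cxFunctor Y).map (pj F)).f n) := by
    intro n
    haveI : ∀ x : Fin (n + 1) → ι, IsIso ((pj F).app (op (gObj Y x).left)) :=
      fun x => isIso_pj_app F _ (h n x 0)
    change IsIso (Limits.Pi.map (fun x : Fin (n + 1) → ι => (pj F).app (op (gObj Y x).left)))
    infer_instance
  exact HomologicalComplex.Hom.isIso_of_components _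

lemma cechHMap_pj_bijective (h : Acyc Y F) (n : ℕ) :
    Function.Bijective (CechEdge.cechHMap Y (pj F) n) := by
  haveI := isIso_cx_map_pj Y F h
  haveI : IsIso (HomologicalComplex.homologyMap ((CechDelta.cxFunctor Y).map (pj F)) n) :=
    inferInstance
  exact (ConcreteCategory.isIso_iff_bijective
    (HomologicalComplex.homologyMap ((CechDelta.cxFunctor Y).map (pj F)) n)).1 inferInstance

/-- `Q' ⟶ Q` becomes an isomorphism after sheafification. -/
lemma isIso_shfMap_pj : IsIso (CechEdge.shfMap J (pj F)) := by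
  haveI : Mono (pj F) := inferInstanceAs (Mono (Abelian.image.ι (pg₀ F)))
  haveI hm : Mono (CechEdge.shfMap J (pj F)) :=
    inferInstanceAs (Mono ((presheafToSheaf J AddCommGrpCat.{u}).map (pj F)))
  have hfac : CechEdge.shfMap J (Abelian.factorThruImage (pg₀ F)) ≫ CechEdge.shfMap J (pj F) =
      CechEdge.shfMap J (pg₀ F) := by
    rw [← Functor.map_comp, Abelian.image.fac]
  have hnat := (sheafificationAdjunction J AddCommGrpCat.{u}).counit.naturality
    (cokernel.π (Injective.ι F))
  haveI : IsIso ((sheafificationAdjunction J AddCommGrpCat.{u}).counit.app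
      (cokernel (Injective.ι F))) := inferInstance
  have h1 : CechEdge.shfMap J (pg₀ F) =
      (sheafificationAdjunction J AddCommGrpCat.{u}).counit.app (Injective.under F) ≫
        cokernel.π (Injective.ι F) ≫
        inv ((sheafificationAdjunction J AddCommGrpCat.{u}).counit.app
          (cokernel (Injective.ι F))) := by
    rw [← Category.assoc, IsIso.eq_comp_inv]
    exact hnat
  haveI : Epi (CechEdge.shfMap J (pg₀ F)) := by
    rw [h1]
    infer_instance
  haveI : Epi (CechEdge.shfMap J (pj F)) := epi_of_epi_fac hfac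
  exact isIso_of_mono_of_epi _

end Compare

end Groth.Agent.Lib.Lead.Edge
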