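import Groth.Agent.Lib.Lead.CechEdgeLib5

/-!
# Leray's theorem with the canonical edge maps: assembly
-/

set_option autoImplicit false
universe u
open CategoryTheory CategoryTheory.Limits Opposite

namespace Groth.Agent.Lib.Lead.Edge

open Groth.Agent.Lib.Lead Groth.Agent.Lib.Helper5

variable {C : Type u} [SmallCategory C] [HasPullbacks C] {J : GrothendieckTopology C}
  {U : C} {ι : Type u} (Y : ι → Over U)
  (e : ∀ (P : Cᵒᵖ ⥤ AddCommGrpCat.{u}) (p : ℕ),
      CohCx.cechH P Y p →+ CohSite.HU (CechEdge.shf J P) p U)
  (he : CechEdge.IsEdge J Y e)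

lemma HUmap_bijective_of_isIso {F G : Sheaf J AddCommGrpCat.{u}} (ψ : F ⟶ G) [IsIso ψ] (n : ℕ)
    (V : C) : Function.Bijective (CechEdge.HUmap ψ n V) := by
  haveI : IsIso (((Sheaf.cohomologyPresheafFunctor J n).map ψ).app (op V)) := inferInstance
  exact (ConcreteCategory.isIso_iff_bijective
    (((Sheaf.cohomologyPresheafFunctor J n).map ψ).app (op V))).1 inferInstance

include he in
lemma bijective_image_of_bijective (F : Sheaf J AddCommGrpCat.{u}) (h : Acyc Y F) (n : ℕ)
    (hQ : Function.Bijective (e (cokernel (Injective.ι F)).obj n)) :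
    Function.Bijective (e (Abelian.image (pg₀ F)) n) := by
  have hnat : (e (cokernel (Injective.ι F)).obj n) ∘ (CechEdge.cechHMap Y (pj F) n) =
      (CechEdge.HUmap (CechEdge.shfMap J (pj F)) n U) ∘ (e (Abelian.image (pg₀ F)) n) :=
    funext (he.natural _ _ (pj F) n)
  have h1 := cechHMap_pj_bijective Y F h n
  haveI := isIso_shfMap_pj (J := J) F
  have h2 := HUmap_bijective_of_isIso (CechEdge.shfMap J (pj F)) n U
  have h3 : Function.Bijective
      ((CechEdge.HUmap (CechEdge.shfMap J (pj F)) n U) ∘ (e (Abelian.image (pg₀ F)) n)) := by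
    rw [← hnat]
    exact hQ.comp h1
  exact (Function.Bijective.of_comp_iff' h2 _).1 h3

lemma acyc_of_injective (I : Sheaf J AddCommGrpCat.{u}) [Injective I] : Acyc Y I :=
  fun _ _ q => Abelian.Ext.subsingleton_of_injective _ I q

lemma isZero_tgt_of_injective (I : Sheaf J AddCommGrpCat.{u}) [Injective I] (n : ℕ) :
    IsZero (((tgt J U).F (n + 1)).obj I.obj) := by
  haveI : IsIso ((sheafificationAdjunction J AddCommGrpCat.{u}).counit.app I) := inferInstance
  haveI : Injective (CechEdge.shf J I.obj) :=
    Injective.of_iso (asIso ((sheafificationAdjunction J AddCommGrpCat.{u}).counit.app I)).symm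
      ‹Injective I›
  haveI : Subsingleton (CohSite.HU (CechEdge.shf J I.obj) (n + 1) U) :=
    Abelian.Ext.subsingleton_of_injective _ (CechEdge.shf J I.obj) n
  exact AddCommGrpCat.isZero_of_subsingleton (AddCommGrpCat.of (CohSite.HU (CechEdge.shf J I.obj) (n + 1) U))

include he in
/-- **Leray**: for a sheaf acyclic on all finite fibre products of the family, the edge maps are
bijective in all degrees. -/
theorem isEdge_bijective_of_acyc :
    ∀ (p : ℕ) (F : Sheaf J AddCommGrpCat.{u}), Acyc Y F → Function.Bijective (e F.obj p)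
  | 0, F, _ => isEdge_zero_bijective_of_sheaf Y e he F
  | (p + 1), F, h => by
    have hQ := isEdge_bijective_of_acyc p (cokernel (Injective.ι F)) (acyc_cokernel Y F h)
    have hQ' := bijective_image_of_bijective Y e he F h p hQ
    have hIb := isEdge_bijective_of_acyc p (Injective.under F) (acyc_of_injective Y _)
    haveI : Injective (Injective.under F).obj :=
      injective_presheaf_of_injective_sheaf_site J (Injective.under F)
    have hI : IsZero (((CechDelta.cechDeltaFunctor Y).F (p + 1)).obj (pshSES F).X₂) :=
      isZero_sCechH_of_injective_presheaf Y (Injective.under F).obj p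
    have hI' : IsZero (((tgt J U).F (p + 1)).obj (pshSES F).X₂) :=
      isZero_tgt_of_injective (Injective.under F) p
    constructor
    · exact injective_succ_of_effacing (CechDelta.cechDeltaFunctor Y) (tgt J U)
        (homOfIsEdge Y e he) (pshSES F) (pshSES_shortExact F) p hI hIb.2 hQ'.1
    · exact surjective_succ_of_effacing (CechDelta.cechDeltaFunctor Y) (tgt J U)
        (homOfIsEdge Y e he) (pshSES F) (pshSES_shortExact F) p hI' hQ'.2

include he in
theorem edgeSh_bijective_of_acyc (F : Sheaf J AddCommGrpCat.{u}) (h : Acyc Y F) (p : ℕ) :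
    Function.Bijective (CechEdge.edgeSh e F p) := by
  haveI : IsIso ((sheafificationAdjunction J AddCommGrpCat.{u}).counit.app F) := inferInstance
  exact (HUmap_bijective_of_isIso
    ((sheafificationAdjunction J AddCommGrpCat.{u}).counit.app F) p U).comp
      (isEdge_bijective_of_acyc Y e he p F h)

end Groth.Agent.Lib.Lead.Edge
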