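import Groth.Agent.Lib.Lead.CechEdgeLib2

/-!
# Compatibility of the edge maps with refinement
-/

set_option autoImplicit false
universe u
open CategoryTheory CategoryTheory.Limits Opposite

namespace Groth.Agent.Lib.Lead.Edge

open Groth.Agent.Lib.Lead Groth.Agent.Lib.Helper5

variable {C : Type u} [SmallCategory C] [HasPullbacks C] {J : GrothendieckTopology C}
  {U : C} {ι κ : Type u} (Y : ι → Over U) (Y' : κ → Over U)
  (f : FormalCoproduct.mk ι Y ⟶ FormalCoproduct.mk κ Y')

/-- the refinement map of Čech complexes, typed with the Čech complex functors -/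
noncomputable def refine (P : Cᵒᵖ ⥤ AddCommGrpCat.{u}) :
    (CechDelta.cxFunctor Y').obj P ⟶ (CechDelta.cxFunctor Y).obj P :=
  CohCx.cechRefine P f

lemma refine_f (P : Cᵒᵖ ⥤ AddCommGrpCat.{u}) (n : ℕ) :
    (refine Y Y' f P).f n =
      ((FormalCoproduct.evalOp.{u} (Over U) AddCommGrpCat.{u}).obj ((Over.forget U).op ⋙ P)).map
        ((FormalCoproduct.cechFunctor.map f).app (op (SimplexCategory.mk n))).op := rfl

/-- naturality of the refinement map in the presheaf -/
lemma refine_naturality {P Q : Cᵒᵖ ⥤ AddCommGrpCat.{u}} (φ : P ⟶ Q) :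
    (CechDelta.cxFunctor Y').map φ ≫ refine Y Y' f Q =
      refine Y Y' f P ≫ (CechDelta.cxFunctor Y).map φ := by
  ext n : 1
  exact (((FormalCoproduct.evalOp.{u} (Over U) AddCommGrpCat.{u}).map
    (Functor.whiskerLeft (Over.forget U).op φ)).naturality
      ((FormalCoproduct.cechFunctor.map f).app (op (SimplexCategory.mk n))).op).symm


/-- refinement is compatible with the restriction maps from sections over `U` -/
lemma toCech₀_refine (P : Cᵒᵖ ⥤ AddCommGrpCat.{u}) :
    CechEdge.toCech₀ P Y' ≫ (refine Y Y' f P).f 0 = CechEdge.toCech₀ P Y := by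
  rw [refine_f, FormalCoproduct.evalOp_obj_map]
  apply Pi.hom_ext
  intro i
  erw [Category.assoc, Pi.lift_π, Pi.lift_π, Pi.lift_π_assoc]
  change P.map _ ≫ P.map _ = P.map _
  rw [← P.map_comp]
  congr 1
  exact congrArg Quiver.Hom.op
    (Over.w (((FormalCoproduct.cechFunctor.map f).app (op (SimplexCategory.mk 0))).φ i))

lemma toCech_refine (P : Cᵒᵖ ⥤ AddCommGrpCat.{u}) (s : P.obj (op U)) :
    (HomologicalComplex.homologyMap (refine Y Y' f P) 0).hom (CechEdge.toCech Y' P s) =
      CechEdge.toCech Y P s := by
  have h : CechEdge.toCycles P Y' ≫ HomologicalComplex.cyclesMap (refine Y Y' f P) 0 =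
      CechEdge.toCycles P Y := by
    have e1 : CechEdge.toCycles P Y' ≫
        HomologicalComplex.iCycles ((CechDelta.cxFunctor Y').obj P) 0 = CechEdge.toCech₀ P Y' :=
      CechEdge.toCycles_i P Y'
    have e2 : CechEdge.toCycles P Y ≫
        HomologicalComplex.iCycles ((CechDelta.cxFunctor Y).obj P) 0 = CechEdge.toCech₀ P Y :=
      CechEdge.toCycles_i P Y
    rw [← cancel_mono (HomologicalComplex.iCycles _ 0), Category.assoc,
      HomologicalComplex.cyclesMap_i, e2, ← Category.assoc, e1]
    exact toCech₀_refine Y Y' f P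
  have h2 : (CechEdge.toCycles P Y' ≫ HomologicalComplex.homologyπ _ 0) ≫
      HomologicalComplex.homologyMap (refine Y Y' f P) 0 =
      CechEdge.toCycles P Y ≫ HomologicalComplex.homologyπ _ 0 := by
    rw [Category.assoc, HomologicalComplex.homologyπ_naturality, ← Category.assoc, h]
    rfl
  exact ConcreteCategory.congr_hom h2 s


section Main

variable (e : ∀ (P : Cᵒᵖ ⥤ AddCommGrpCat.{u}) (p : ℕ),
      CohCx.cechH P Y p →+ CohSite.HU (CechEdge.shf J P) p U)
  (he : CechEdge.IsEdge J Y e)

/-- the refinement morphism between the short exact sequences of Čech complexes -/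
noncomputable def refineSC (S : ShortComplex (Cᵒᵖ ⥤ AddCommGrpCat.{u})) :
    S.map (CechDelta.cxFunctor Y') ⟶ S.map (CechDelta.cxFunctor Y) where
  τ₁ := refine Y Y' f S.X₁
  τ₂ := refine Y Y' f S.X₂
  τ₃ := refine Y Y' f S.X₃
  comm₁₂ := (refine_naturality Y Y' f S.f).symm
  comm₂₃ := (refine_naturality Y Y' f S.g).symm

include he in
/-- Precomposing an edge family with a refinement gives an edge family for the finer... (coarser)
family, provided the latter is covering. -/
lemma isEdge_refine (hY' : Sieve.ofArrows (fun i => (Y' i).left) (fun i => (Y' i).hom) ∈ J U) :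
    CechEdge.IsEdge J Y' (fun P p =>
      (e P p).comp (HomologicalComplex.homologyMap (refine Y Y' f P) p).hom) := by
  constructor
  · exact hY'
  · intro P s
    change e P 0 ((HomologicalComplex.homologyMap (refine Y Y' f P) 0).hom
      (CechEdge.toCech Y' P s)) = _
    rw [toCech_refine]
    exact he.zero P s
  · intro P Q φ p x
    change e Q p ((HomologicalComplex.homologyMap (refine Y Y' f Q) p).hom
      (CechEdge.cechHMap Y' φ p x)) = _
    have h1 : (HomologicalComplex.homologyMap (refine Y Y' f Q) p).hom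
        (CechEdge.cechHMap Y' φ p x) =
        CechEdge.cechHMap Y φ p ((HomologicalComplex.homologyMap (refine Y Y' f P) p).hom x) := by
      have h2 := congrArg (fun k => HomologicalComplex.homologyMap k p)
        (refine_naturality Y Y' f φ)
      simp only [HomologicalComplex.homologyMap_comp] at h2
      exact ConcreteCategory.congr_hom h2 x
    rw [h1]
    exact he.natural P Q φ p _
  · intro S hS hC p x
    change e S.X₁ (p + 1) ((HomologicalComplex.homologyMap (refine Y Y' f S.X₁) (p + 1)).hom
      ((hC.δ p (p + 1) rfl).hom x)) = _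
    have hC0 := CechDelta.cx_shortExact Y S hS
    have h1 := HomologicalComplex.HomologySequence.δ_naturality (refineSC Y Y' f S) hC hC0
      p (p + 1) rfl
    have h2 : (HomologicalComplex.homologyMap (refine Y Y' f S.X₁) (p + 1)).hom
        ((hC.δ p (p + 1) rfl).hom x) =
        (hC0.δ p (p + 1) rfl).hom
          ((HomologicalComplex.homologyMap (refine Y Y' f S.X₃) p).hom x) :=
      ConcreteCategory.congr_hom h1 x
    rw [h2]
    exact he.delta S hS hC0 p _

include he in
/-- **The edge maps are compatible with refinement.** -/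
theorem edgeSh_refine
    (e' : ∀ (P : Cᵒᵖ ⥤ AddCommGrpCat.{u}) (p : ℕ),
      CohCx.cechH P Y' p →+ CohSite.HU (CechEdge.shf J P) p U)
    (he' : CechEdge.IsEdge J Y' e') (F : Sheaf J AddCommGrpCat.{u}) (p : ℕ)
    (x : CohCx.cechH F.obj Y' p) :
    CechEdge.edgeSh e F p ((HomologicalComplex.homologyMap (CohCx.cechRefine F.obj f) p).hom x) =
      CechEdge.edgeSh e' F p x := by
  have h := isEdge_unique Y' _ e' (isEdge_refine Y Y' f e he he'.cover) he'
  have h1 := congrFun (congrFun h F.obj) p
  have h2 : e F.obj p ((HomologicalComplex.homologyMap (refine Y Y' f F.obj) p).hom x) =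
      e' F.obj p x := DFunLike.congr_fun h1 x
  change CechEdge.HUmap _ p U (e F.obj p
    ((HomologicalComplex.homologyMap (refine Y Y' f F.obj) p).hom x)) = _
  rw [h2]
  rfl

end Main

end Groth.Agent.Lib.Lead.Edge
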