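import Groth.Prelude.Def_CohTop

/-!
# Explicit description of Mathlib's Čech complex of a presheaf of abelian groups
-/

universe u

open CategoryTheory CategoryTheory.Limits TopologicalSpace Opposite

namespace Groth.Agent.Lib.Lead

lemma alternatingCofaceMapComplex_d {C : Type*} [Category C] [Preadditive C]
    (Y : CosimplicialObject C) (n : ℕ) :
    ((AlgebraicTopology.alternatingCofaceMapComplex C).obj Y).d n (n + 1) =
      AlgebraicTopology.AlternatingCofaceMapComplex.objD Y n :=
  by
  exact CochainComplex.of_d (fun n => Y.obj (SimplexCategory.mk n)) (AlgebraicTopology.AlternatingCofaceMapComplex.objD Y) n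

lemma addCommGrpCat_sum_apply {M N : AddCommGrpCat.{u}} {α : Type*} (s : Finset α)
    (f : α → (M ⟶ N)) (x : M) :
    (ConcreteCategory.hom (∑ i ∈ s, f i)) x = ∑ i ∈ s, (ConcreteCategory.hom (f i)) x := by
  have h : (∑ i ∈ s, f i).hom = ∑ i ∈ s, (f i).hom := map_sum AddCommGrpCat.homAddEquiv f s
  change (∑ i ∈ s, f i).hom x = _
  rw [h, AddMonoidHom.finsetSum_apply]

lemma addCommGrpCat_zsmul_apply {M N : AddCommGrpCat.{u}} (k : ℤ) (f : M ⟶ N) (x : M) :
    (ConcreteCategory.hom (k • f)) x = k • (ConcreteCategory.hom f) x := rfl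

variable {X : TopCat.{u}} {ι : Type u} (U : ι → Opens X)
  (P : (Opens X)ᵒᵖ ⥤ AddCommGrpCat.{u})

/-- The open on which the `x`-component of a Čech cochain lives. -/
noncomputable abbrev cechOpen {n : ℕ} (x : Fin (n + 1) → ι) : Opens X := ∏ᶜ (U ∘ x)

lemma cechOpen_le {n : ℕ} (x : Fin (n + 1) → ι) (a : Fin (n + 1)) : cechOpen U x ≤ U (x a) :=
  leOfHom (Pi.π (U ∘ x) a)

lemma cechOpen_eq {n : ℕ} (x : Fin (n + 1) → ι) : cechOpen U x = ⨅ a, U (x a) := by
  apply le_antisymm
  · exact le_iInf (cechOpen_le U x)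
  · exact leOfHom (Pi.lift (fun a => homOfLE (iInf_le (fun a => U (x a)) a)))

lemma cechOpen_face_le {n : ℕ} (y : Fin (n + 2) → ι) (i : Fin (n + 2)) :
    cechOpen U y ≤ cechOpen U (y ∘ Fin.succAbove i) := by
  rw [cechOpen_eq, cechOpen_eq]
  exact le_iInf fun a => iInf_le (fun a => U (y a)) (Fin.succAbove i a)

/-- The cosimplicial abelian group underlying the Čech complex. -/
noncomputable abbrev cechCosimp : CosimplicialObject AddCommGrpCat.{u} :=
  (FormalCoproduct.cosimplicialObjectFunctor (FormalCoproduct.mk ι U).cech).obj P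

lemma cechCosimp_δ_π (n : ℕ) (i : Fin (n + 2)) (y : Fin (n + 2) → ι) :
    (cechCosimp U P).δ i ≫ Pi.π (fun x : Fin (n + 2) → ι => P.obj (op (cechOpen U x))) y =
      Pi.π (fun x : Fin (n + 1) → ι => P.obj (op (cechOpen U x))) (y ∘ Fin.succAbove i) ≫
          P.map (homOfLE (cechOpen_face_le U y i)).op := by
  dsimp [CosimplicialObject.δ, cechCosimp, FormalCoproduct.cosimplicialObjectFunctor]
  rw [FormalCoproduct.evalOp_obj_map]
  refine (Limits.limit.lift_π _ _).trans ?_
  rfl


/-- The Čech complex of `P` with respect to `U` (Mathlib's). -/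
noncomputable abbrev cechCx : CochainComplex AddCommGrpCat.{u} ℕ := (cechComplexFunctor U).obj P

lemma cech_d_π (n : ℕ) (y : Fin (n + 2) → ι) :
    (cechCx U P).d n (n + 1) ≫ Pi.π (fun x : Fin (n + 2) → ι => P.obj (op (cechOpen U x))) y =
      ∑ i : Fin (n + 2), (-1 : ℤ) ^ (i : ℕ) •
        (Pi.π (fun x : Fin (n + 1) → ι => P.obj (op (cechOpen U x))) (y ∘ Fin.succAbove i) ≫
          P.map (homOfLE (cechOpen_face_le U y i)).op) := by
  have h := alternatingCofaceMapComplex_d (cechCosimp U P) n
  change (cechCx U P).d n (n + 1) = _ at h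
  rw [h]
  erw [Preadditive.sum_comp]
  refine Finset.sum_congr rfl fun i _ => ?_
  erw [Preadditive.zsmul_comp, cechCosimp_δ_π]
  rfl

/-- The family of groups whose product is the degree `n` part of the Čech complex. -/
noncomputable abbrev cechF (n : ℕ) : (Fin (n + 1) → ι) → AddCommGrpCat.{u} :=
  fun x => P.obj (op (cechOpen U x))

/-- Degree `n` part of the Čech complex, with a syntactically simple type. -/
noncomputable abbrev cechX (n : ℕ) : AddCommGrpCat.{u} := ∏ᶜ (cechF U P n)

/-- Differential of the Čech complex, retyped. -/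
noncomputable def cechd (n : ℕ) : cechX U P n ⟶ cechX U P (n + 1) := (cechCx U P).d n (n + 1)

lemma cechd_π (n : ℕ) (y : Fin (n + 2) → ι) :
    cechd U P n ≫ Pi.π (cechF U P (n + 1)) y =
      ∑ i : Fin (n + 2), (-1 : ℤ) ^ (i : ℕ) •
        (Pi.π (cechF U P n) (y ∘ Fin.succAbove i) ≫
          P.map (homOfLE (cechOpen_face_le U y i)).op) :=
  cech_d_π U P n y

/-- Components of Čech cochains. -/
noncomputable def cechEquiv (n : ℕ) :
    cechX U P n ≃+ ((x : Fin (n + 1) → ι) → P.obj (op (cechOpen U x))) :=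
  AddEquiv.mk' (Concrete.productEquiv (cechF U P n))
    (by
      intro a b
      funext x
      change Concrete.productEquiv _ (a + b) x = Concrete.productEquiv _ a x + Concrete.productEquiv _ b x
      rw [Concrete.productEquiv_apply_apply, Concrete.productEquiv_apply_apply,
        Concrete.productEquiv_apply_apply]
      exact map_add _ a b)

lemma cechEquiv_apply (n : ℕ) (c : cechX U P n) (x : Fin (n + 1) → ι) :
    cechEquiv U P n c x = (Pi.π (cechF U P n) x) c :=
  Concrete.productEquiv_apply_apply _ _ _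

lemma cechEquiv_symm_π (n : ℕ) (s : (x : Fin (n + 1) → ι) → P.obj (op (cechOpen U x)))
    (x : Fin (n + 1) → ι) :
    (Pi.π (cechF U P n) x) ((cechEquiv U P n).symm s) = s x :=
  Concrete.productEquiv_symm_apply_π _ _ _

lemma cechEquiv_d (n : ℕ) (c : cechX U P n) (y : Fin (n + 2) → ι) :
    cechEquiv U P (n + 1) (cechd U P n c) y =
      ∑ i : Fin (n + 2), (-1 : ℤ) ^ (i : ℕ) •
        (P.map (homOfLE (cechOpen_face_le U y i)).op) (cechEquiv U P n c (y ∘ Fin.succAbove i)) := by
  rw [cechEquiv_apply]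
  have h := ConcreteCategory.congr_hom (cechd_π U P n y) c
  rw [ConcreteCategory.comp_apply] at h
  refine h.trans ?_
  simp only [cechEquiv_apply]
  rw [addCommGrpCat_sum_apply]
  refine Finset.sum_congr rfl fun i _ => ?_
  rw [addCommGrpCat_zsmul_apply, ConcreteCategory.comp_apply]


/-- Vanishing of Čech cohomology in degree `n + 1` in terms of cochains. -/
lemma isZero_cech_homology_succ_iff (n : ℕ) :
    IsZero ((cechCx U P).homology (n + 1)) ↔
      ∀ c : cechX U P (n + 1), cechd U P (n + 1) c = 0 → ∃ b : cechX U P n, cechd U P n b = c := by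
  rw [← HomologicalComplex.exactAt_iff_isZero_homology,
    HomologicalComplex.exactAt_iff' (cechCx U P) n (n + 1) (n + 2) (by simp) (by simp),
    ShortComplex.ab_exact_iff]
  rfl

/-- Vanishing of Čech cohomology in degree `n + 1` in terms of components. -/
lemma isZero_cech_homology_succ_iff' (n : ℕ) :
    IsZero ((cechCx U P).homology (n + 1)) ↔
      ∀ c : (x : Fin (n + 2) → ι) → P.obj (op (cechOpen U x)),
        (∀ y : Fin (n + 3) → ι, ∑ i : Fin (n + 3), (-1 : ℤ) ^ (i : ℕ) •
          (P.map (homOfLE (cechOpen_face_le U y i)).op) (c (y ∘ Fin.succAbove i)) = 0) →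
        ∃ b : (x : Fin (n + 1) → ι) → P.obj (op (cechOpen U x)),
          ∀ y : Fin (n + 2) → ι, ∑ i : Fin (n + 2), (-1 : ℤ) ^ (i : ℕ) •
            (P.map (homOfLE (cechOpen_face_le U y i)).op) (b (y ∘ Fin.succAbove i)) = c y := by
  rw [isZero_cech_homology_succ_iff]
  constructor
  · intro h c hc
    obtain ⟨b, hb⟩ := h ((cechEquiv U P (n + 1)).symm c) (by
      apply (cechEquiv U P (n + 2)).injective
      funext y
      rw [cechEquiv_d, map_zero]
      simpa using hc y)
    refine ⟨cechEquiv U P n b, fun y => ?_⟩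
    rw [← cechEquiv_d, hb, AddEquiv.apply_symm_apply]
  · intro h c hc
    obtain ⟨b, hb⟩ := h (cechEquiv U P (n + 1) c) (fun y => by
      rw [← cechEquiv_d, hc, map_zero]
      rfl)
    refine ⟨(cechEquiv U P n).symm b, ?_⟩
    apply (cechEquiv U P (n + 1)).injective
    funext y
    rw [cechEquiv_d]
    simpa using hb y

end Groth.Agent.Lib.Lead
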