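import Groth.Agent.Lib.Lead.CechExplicit

/-!
# Explicit description of Mathlib's Čech complex, for a family of objects in any category with
finite products (e.g. `Over U` in a category with pullbacks)

Port of `CechExplicit` (which treats opens of a space).  Names are prefixed with `g`.
-/

universe w v₁ u₁

open CategoryTheory CategoryTheory.Limits Opposite

namespace Groth.Agent.Lib.Lead

variable {D : Type u₁} [Category.{v₁} D] [HasFiniteProducts D] {ι : Type w} (Y : ι → D)
  (P : Dᵒᵖ ⥤ AddCommGrpCat.{w})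

/-- The object on which the `x`-component of a Čech cochain lives. -/
noncomputable abbrev gObj {n : ℕ} (x : Fin (n + 1) → ι) : D := ∏ᶜ (Y ∘ x)

/-- The face map. -/
noncomputable def gFace {n : ℕ} (y : Fin (n + 2) → ι) (i : Fin (n + 2)) :
    gObj Y y ⟶ gObj Y (y ∘ Fin.succAbove i) :=
  Pi.lift (fun a => Pi.π (Y ∘ y) (Fin.succAbove i a))

/-- The cosimplicial abelian group underlying the Čech complex. -/
noncomputable abbrev gCosimp : CosimplicialObject AddCommGrpCat.{w} :=
  (FormalCoproduct.cosimplicialObjectFunctor (FormalCoproduct.mk ι Y).cech).obj P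

lemma gCosimp_δ_π (n : ℕ) (i : Fin (n + 2)) (y : Fin (n + 2) → ι) :
    (gCosimp Y P).δ i ≫ Pi.π (fun x : Fin (n + 2) → ι => P.obj (op (gObj Y x))) y =
      Pi.π (fun x : Fin (n + 1) → ι => P.obj (op (gObj Y x))) (y ∘ Fin.succAbove i) ≫
          P.map (gFace Y y i).op := by
  dsimp [CosimplicialObject.δ, gCosimp, FormalCoproduct.cosimplicialObjectFunctor]
  rw [FormalCoproduct.evalOp_obj_map]
  refine (Limits.limit.lift_π _ _).trans ?_
  rfl

/-- The Čech complex of `P` with respect to `Y` (Mathlib's). -/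
noncomputable abbrev gCx : CochainComplex AddCommGrpCat.{w} ℕ := (cechComplexFunctor Y).obj P

lemma g_d_π (n : ℕ) (y : Fin (n + 2) → ι) :
    (gCx Y P).d n (n + 1) ≫ Pi.π (fun x : Fin (n + 2) → ι => P.obj (op (gObj Y x))) y =
      ∑ i : Fin (n + 2), (-1 : ℤ) ^ (i : ℕ) •
        (Pi.π (fun x : Fin (n + 1) → ι => P.obj (op (gObj Y x))) (y ∘ Fin.succAbove i) ≫
          P.map (gFace Y y i).op) := by
  have h := alternatingCofaceMapComplex_d (gCosimp Y P) n
  change (gCx Y P).d n (n + 1) = _ at h
  rw [h]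
  erw [Preadditive.sum_comp]
  refine Finset.sum_congr rfl fun i _ => ?_
  erw [Preadditive.zsmul_comp, gCosimp_δ_π]
  rfl

/-- The family of groups whose product is the degree `n` part of the Čech complex. -/
noncomputable abbrev gF (n : ℕ) : (Fin (n + 1) → ι) → AddCommGrpCat.{w} :=
  fun x => P.obj (op (gObj Y x))

/-- Degree `n` part of the Čech complex, with a syntactically simple type. -/
noncomputable abbrev gX (n : ℕ) : AddCommGrpCat.{w} := ∏ᶜ (gF Y P n)

/-- Differential of the Čech complex, retyped. -/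
noncomputable def gd (n : ℕ) : gX Y P n ⟶ gX Y P (n + 1) := (gCx Y P).d n (n + 1)

lemma gd_π (n : ℕ) (y : Fin (n + 2) → ι) :
    gd Y P n ≫ Pi.π (gF Y P (n + 1)) y =
      ∑ i : Fin (n + 2), (-1 : ℤ) ^ (i : ℕ) •
        (Pi.π (gF Y P n) (y ∘ Fin.succAbove i) ≫ P.map (gFace Y y i).op) :=
  g_d_π Y P n y

/-- Explicit Čech cochains. -/
abbrev GCochain (n : ℕ) : Type w := (x : Fin (n + 1) → ι) → P.obj (op (gObj Y x))

/-- Components of Čech cochains. -/
noncomputable def gEquiv (n : ℕ) : gX Y P n ≃+ GCochain Y P n :=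
  AddEquiv.mk' (Concrete.productEquiv (gF Y P n))
    (by
      intro a b
      funext x
      change Concrete.productEquiv _ (a + b) x = Concrete.productEquiv _ a x + Concrete.productEquiv _ b x
      rw [Concrete.productEquiv_apply_apply, Concrete.productEquiv_apply_apply,
        Concrete.productEquiv_apply_apply]
      exact map_add _ a b)

lemma gEquiv_apply (n : ℕ) (c : gX Y P n) (x : Fin (n + 1) → ι) :
    gEquiv Y P n c x = (Pi.π (gF Y P n) x) c :=
  Concrete.productEquiv_apply_apply _ _ _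

lemma gEquiv_symm_π (n : ℕ) (s : GCochain Y P n) (x : Fin (n + 1) → ι) :
    (Pi.π (gF Y P n) x) ((gEquiv Y P n).symm s) = s x :=
  Concrete.productEquiv_symm_apply_π _ _ _

/-- Explicit Čech differential. -/
noncomputable def gCoboundary (n : ℕ) (c : GCochain Y P n) : GCochain Y P (n + 1) :=
  fun y => ∑ i : Fin (n + 2), (-1 : ℤ) ^ (i : ℕ) •
    (P.map (gFace Y y i).op) (c (y ∘ Fin.succAbove i))

lemma gEquiv_gd (n : ℕ) (c : gX Y P n) :
    gEquiv Y P (n + 1) (gd Y P n c) = gCoboundary Y P n (gEquiv Y P n c) := by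
  funext y
  rw [gEquiv_apply]
  have h := ConcreteCategory.congr_hom (gd_π Y P n y) c
  rw [ConcreteCategory.comp_apply] at h
  refine h.trans ?_
  simp only [gCoboundary, gEquiv_apply]
  rw [addCommGrpCat_sum_apply]
  refine Finset.sum_congr rfl fun i _ => ?_
  rw [addCommGrpCat_zsmul_apply, ConcreteCategory.comp_apply]

lemma gd_comp_gd (n : ℕ) (c : gX Y P n) : gd Y P (n + 1) (gd Y P n c) = 0 := by
  have h := (gCx Y P).d_comp_d n (n + 1) (n + 2)
  have h' := ConcreteCategory.congr_hom h c
  exact h'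

lemma gCoboundary_comp (n : ℕ) (c : GCochain Y P n) :
    gCoboundary Y P (n + 1) (gCoboundary Y P n c) = 0 := by
  obtain ⟨c', rfl⟩ := (gEquiv Y P n).surjective c
  rw [← gEquiv_gd, ← gEquiv_gd, gd_comp_gd, map_zero]

lemma gCoboundary_zero (n : ℕ) : gCoboundary Y P n 0 = 0 := by
  funext y
  simp [gCoboundary]

lemma gCoboundary_sub (n : ℕ) (c c' : GCochain Y P n) :
    gCoboundary Y P n (c - c') = gCoboundary Y P n c - gCoboundary Y P n c' := by
  funext y
  simp only [gCoboundary, Pi.sub_apply, map_sub, smul_sub, Finset.sum_sub_distrib]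

/-- Vanishing of Čech cohomology in degree `n + 1` in terms of cochains. -/
lemma isZero_gH_succ_iff' (n : ℕ) :
    IsZero ((gCx Y P).homology (n + 1)) ↔
      ∀ c : gX Y P (n + 1), gd Y P (n + 1) c = 0 → ∃ b : gX Y P n, gd Y P n b = c := by
  rw [← HomologicalComplex.exactAt_iff_isZero_homology,
    HomologicalComplex.exactAt_iff' (gCx Y P) n (n + 1) (n + 2) (by simp) (by simp),
    ShortComplex.ab_exact_iff]
  rfl

/-- Vanishing of Čech cohomology in degree `n + 1` in terms of explicit cochains. -/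
lemma isZero_gH_succ_iff (n : ℕ) :
    IsZero ((gCx Y P).homology (n + 1)) ↔
      ∀ c : GCochain Y P (n + 1), gCoboundary Y P (n + 1) c = 0 →
        ∃ b : GCochain Y P n, gCoboundary Y P n b = c := by
  rw [isZero_gH_succ_iff']
  constructor
  · intro h c hc
    obtain ⟨b, hb⟩ := h ((gEquiv Y P (n + 1)).symm c) (by
      apply (gEquiv Y P (n + 2)).injective
      rw [gEquiv_gd, AddEquiv.apply_symm_apply, hc, map_zero])
    refine ⟨gEquiv Y P n b, ?_⟩
    rw [← gEquiv_gd, hb, AddEquiv.apply_symm_apply]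
  · intro h c hc
    obtain ⟨b, hb⟩ := h (gEquiv Y P (n + 1) c) (by
      rw [← gEquiv_gd, hc, map_zero])
    refine ⟨(gEquiv Y P n).symm b, ?_⟩
    apply (gEquiv Y P (n + 1)).injective
    rw [gEquiv_gd, AddEquiv.apply_symm_apply, hb]

section Map

variable {P} {Q : Dᵒᵖ ⥤ AddCommGrpCat.{w}} (φ : P ⟶ Q)

/-- The map on Čech cochains induced by a morphism of presheaves. -/
noncomputable def gCochainMap (n : ℕ) (c : GCochain Y P n) : GCochain Y Q n :=
  fun x => φ.app (op (gObj Y x)) (c x)

lemma gCochainMap_sub (n : ℕ) (c c' : GCochain Y P n) :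
    gCochainMap Y φ n (c - c') = gCochainMap Y φ n c - gCochainMap Y φ n c' := by
  funext x
  simp only [gCochainMap, Pi.sub_apply, map_sub]

lemma gCochainMap_zero (n : ℕ) : gCochainMap Y φ n 0 = 0 := by
  funext x
  simp only [gCochainMap, Pi.zero_apply, map_zero]

lemma gCochainMap_coboundary (n : ℕ) (c : GCochain Y P n) :
    gCochainMap Y φ (n + 1) (gCoboundary Y P n c) =
      gCoboundary Y Q n (gCochainMap Y φ n c) := by
  funext y
  simp only [gCochainMap, gCoboundary, map_sum, map_zsmul]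
  refine Finset.sum_congr rfl fun i _ => ?_
  congr 1
  exact NatTrans.naturality_apply φ (gFace Y y i).op (c (y ∘ Fin.succAbove i))

end Map

end Groth.Agent.Lib.Lead
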