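import Groth.Agent.Lib.Lead.CechGen

/-!
# Mathlib's Čech complex with values in an arbitrary preadditive category: the differential in
coordinates (port of `g_d_π` from `CechGen`, which treats abelian groups).
-/

universe w v₁ u₁ v₂ u₂

open CategoryTheory CategoryTheory.Limits Opposite

namespace Groth.Agent.Lib.Lead

variable {D : Type u₁} [Category.{v₁} D] [HasFiniteProducts D] {ι : Type w} (Y : ι → D)
  {A : Type u₂} [Category.{v₂} A] [Preadditive A] [HasProducts.{w} A] (P : Dᵒᵖ ⥤ A)

/-- The cosimplicial object underlying the Čech complex. -/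
noncomputable abbrev aCosimp : CosimplicialObject A :=
  (FormalCoproduct.cosimplicialObjectFunctor (FormalCoproduct.mk ι Y).cech).obj P

lemma aCosimp_δ_π (n : ℕ) (i : Fin (n + 2)) (y : Fin (n + 2) → ι) :
    (aCosimp Y P).δ i ≫ Pi.π (fun x : Fin (n + 2) → ι => P.obj (op (gObj Y x))) y =
      Pi.π (fun x : Fin (n + 1) → ι => P.obj (op (gObj Y x))) (y ∘ Fin.succAbove i) ≫
          P.map (gFace Y y i).op := by
  dsimp [CosimplicialObject.δ, aCosimp, FormalCoproduct.cosimplicialObjectFunctor]
  rw [FormalCoproduct.evalOp_obj_map]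
  refine (Limits.limit.lift_π _ _).trans ?_
  rfl

/-- The Čech complex of `P` with respect to `Y` (Mathlib's). -/
noncomputable abbrev aCx : CochainComplex A ℕ := (cechComplexFunctor Y).obj P

lemma a_d_π (n : ℕ) (y : Fin (n + 2) → ι) :
    (aCx Y P).d n (n + 1) ≫ Pi.π (fun x : Fin (n + 2) → ι => P.obj (op (gObj Y x))) y =
      ∑ i : Fin (n + 2), (-1 : ℤ) ^ (i : ℕ) •
        (Pi.π (fun x : Fin (n + 1) → ι => P.obj (op (gObj Y x))) (y ∘ Fin.succAbove i) ≫
          P.map (gFace Y y i).op) := by
  have h := alternatingCofaceMapComplex_d (aCosimp Y P) n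
  change (aCx Y P).d n (n + 1) = _ at h
  rw [h]
  erw [Preadditive.sum_comp]
  refine Finset.sum_congr rfl fun i _ => ?_
  erw [Preadditive.zsmul_comp, aCosimp_δ_π]
  rfl

end Groth.Agent.Lib.Lead
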