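import Groth.Statements.S6164
import Groth.Agent.Lib.Lead.CechDerived
import Groth.Agent.Lib.Lead.AbutmentTransport
import Groth.Agent.Lib.Helper5.SiteCoh
import Groth.Agent.Lib.Helper5.CechSiteZero
import Groth.Agent.Lib.Helper5.RDerExact

set_option autoImplicit false
universe u
open CategoryTheory CategoryTheory.Limits Opposite
open scoped ZeroObject

namespace Groth.Agent.Lib.Lead

variable {C : Type u} [SmallCategory C] [HasPullbacks C] (J : GrothendieckTopology C)
  {X : C} {ι : Type u} (Y : ι → Over X)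

/-- sheaf-to-presheaf followed by `Ȟ⁰` -/
noncomputable abbrev ssT : Sheaf J AddCommGrpCat.{u} ⥤ (Cᵒᵖ ⥤ AddCommGrpCat.{u}) :=
  sheafToPresheaf J AddCommGrpCat.{u}

/-- evaluation of presheaves at `X` -/
noncomputable abbrev ssEv : (Cᵒᵖ ⥤ AddCommGrpCat.{u}) ⥤ AddCommGrpCat.{u} :=
  (evaluation Cᵒᵖ AddCommGrpCat.{u}).obj (op X)

open Groth.Agent.Lib.Helper5 in
/-- For a covering family, sections over `X` of sheaves agree with `Ȟ⁰`. -/
noncomputable def ssSectionsIso
    (hY : Sieve.ofArrows (fun i => (Y i).left) (fun i => (Y i).hom) ∈ J X) :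
    ssT J ⋙ ssEv (X := X) ≅ ssT J ⋙ sCechHFunctor Y 0 :=
  NatIso.ofComponents
    (fun F => @asIso _ _ _ _ (sCechEta Y F.obj) (isIso_sCechEta Y F hY))
    (fun {F G} f => (sCechEta_naturality Y f.hom).symm)

/-- Isomorphic additive functors have isomorphic right derived functors. -/
noncomputable def rightDerivedNatIso {A B : Type*} [Category A] [Category B] [Abelian A] [Abelian B]
    [HasInjectiveResolutions A] {F G : A ⥤ B} [F.Additive] [G.Additive] (α : F ≅ G) (n : ℕ) :
    F.rightDerived n ≅ G.rightDerived n where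
  hom := NatTrans.rightDerived α.hom n
  inv := NatTrans.rightDerived α.inv n
  hom_inv_id := by rw [← NatTrans.rightDerived_comp, α.hom_inv_id, NatTrans.rightDerived_id]
  inv_hom_id := by rw [← NatTrans.rightDerived_comp, α.inv_hom_id, NatTrans.rightDerived_id]

instance ssEv_preservesHomology : (ssEv (C := C) (X := X)).PreservesHomology :=
  Groth.Agent.Lib.Helper5.preservesHomology_of_exact _

open Groth.Agent.Lib.Helper5 in
/-- The abutment: `Rⁿ(Ȟ⁰ ∘ forget)(M) ≅ Hⁿ(X, M)` for a covering family. -/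
theorem nonempty_abutment_iso
    (hY : Sieve.ofArrows (fun i => (Y i).left) (fun i => (Y i).hom) ∈ J X)
    (M : Sheaf J AddCommGrpCat.{u}) (n : ℕ) :
    Nonempty (((ssT J ⋙ sCechHFunctor Y 0).rightDerived n).obj M ≅
      AddCommGrpCat.of (CohSite.HU M n X)) := by
  obtain ⟨e⟩ := Groth.Agent.Lib.Helper5.SiteCoh.rightDerived_sheafToPresheaf_iso (J := J) n M
  exact ⟨(rightDerivedNatIso (ssSectionsIso J Y hY) n).symm.app M ≪≫
    rightDerivedCompExactIso (ssT J) (ssEv (X := X)) M n ≪≫ (ssEv (X := X)).mapIso e⟩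

open Groth.Agent.Lib.Helper5 in
/-- The `E₂`-term: `R^pȞ⁰(R^q forget (M)) ≅ Ȟ^p(Y, H^q(M))`. -/
theorem nonempty_E2_iso (M : Sheaf J AddCommGrpCat.{u}) (p q : ℕ) :
    Nonempty (((sCechHFunctor Y 0).rightDerived p).obj (((ssT J).rightDerived q).obj M) ≅
      CohCx.cechH (M.cohomologyPresheaf q) Y p) := by
  obtain ⟨e⟩ := Groth.Agent.Lib.Helper5.SiteCoh.rightDerived_sheafToPresheaf_iso (J := J) q M
  obtain ⟨e'⟩ := nonempty_rightDerived_sCechH0_iso Y p (Sheaf.cohomologyPresheaf.{u} M q)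
  exact ⟨((sCechHFunctor Y 0).rightDerived p).mapIso e ≪≫ e'⟩

/-- The hypothesis needed from the Grothendieck spectral sequence: injective sheaves are acyclic
for `Ȟ⁰` after forgetting to presheaves. -/
theorem ssT_injective_acyclic (Q : Sheaf J AddCommGrpCat.{u}) (hQ : Injective Q) (q : ℕ)
    (hq : 0 < q) : IsZero (((sCechHFunctor Y 0).rightDerived q).obj ((ssT J).obj Q)) := by
  haveI : Injective ((ssT J).obj Q) := injective_presheaf_of_injective_sheaf_site J Q
  obtain ⟨k, rfl⟩ : ∃ k, q = k + 1 := ⟨q - 1, by omega⟩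
  exact Functor.isZero_rightDerived_obj_injective_succ _ k _

/-- **The Čech-to-derived spectral sequence of a covering**, deduced from the conclusion of the
Grothendieck spectral sequence for `forget : Sh ⥤ PSh` and `Ȟ⁰ : PSh ⥤ Ab`. -/
theorem cech_ss_of_grothendieck_ss
    (hY : Sieve.ofArrows (fun i => (Y i).left) (fun i => (Y i).hom) ∈ J X)
    (M : Sheaf J AddCommGrpCat.{u})
    (hG : ∃ (E : E₂CohomologicalSpectralSequence AddCommGrpCat.{u})
      (a : SpSeq.Abutment E (fun n : ℤ =>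
        if 0 ≤ n then ((ssT J ⋙ sCechHFunctor Y 0).rightDerived n.toNat).obj M else 0)),
      (∀ n, a.IsFinite n) ∧ SpSeq.IsBounded E ∧
      ∀ p q : ℤ, Nonempty ((E.page 2 le_rfl).X (p, q) ≅
        (if 0 ≤ p ∧ 0 ≤ q then
          ((sCechHFunctor Y 0).rightDerived p.toNat).obj (((ssT J).rightDerived q.toNat).obj M)
        else 0))) :
    ∃ (E : E₂CohomologicalSpectralSequence AddCommGrpCat.{u})
      (a : SpSeq.Abutment E (fun n : ℤ =>
        if 0 ≤ n then AddCommGrpCat.of (CohSite.HU M n.toNat X) else AddCommGrpCat.of PUnit.{u + 1})),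
      (∀ n, a.IsFinite n) ∧ SpSeq.IsBounded E ∧
      ∀ p q : ℤ, Nonempty ((E.page 2 le_rfl).X (p, q) ≅
        (if 0 ≤ p ∧ 0 ≤ q then CohCx.cechH (M.cohomologyPresheaf q.toNat) Y p.toNat
         else AddCommGrpCat.of PUnit.{u + 1})) := by
  obtain ⟨E, a, hfin, hbd, hE2⟩ := hG
  have hz : IsZero (AddCommGrpCat.of PUnit.{u + 1}) := by
    refine (IsZero.iff_id_eq_zero _).2 ?_
    ext x
  let z : (0 : AddCommGrpCat.{u}) ≅ AddCommGrpCat.of PUnit.{u + 1} := (isZero_zero _).iso hz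
  let φ : ∀ n : ℤ, (if 0 ≤ n then ((ssT J ⋙ sCechHFunctor Y 0).rightDerived n.toNat).obj M else 0) ≅
      (if 0 ≤ n then AddCommGrpCat.of (CohSite.HU M n.toNat X) else AddCommGrpCat.of PUnit.{u + 1}) :=
    fun n => ifIso (0 ≤ n) (nonempty_abutment_iso J Y hY M n.toNat).some z
  refine ⟨E, abutmentTransport a φ, fun n => abutmentTransport_isFinite a φ n (hfin n), hbd, ?_⟩
  intro p q
  obtain ⟨e⟩ := hE2 p q
  exact ⟨e ≪≫ ifIso (0 ≤ p ∧ 0 ≤ q) (nonempty_E2_iso J Y M p.toNat q.toNat).some z⟩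

end Groth.Agent.Lib.Lead
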