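import Groth.Agent.Lib.Lead.CechShLib

/-!
# The Čech complex of sheaves `CechOX.cechSh` is a resolution: the coaugmentation is a monomorphism,
a kernel of the first differential, and the complex is exact in positive degrees.
-/


universe u
open CategoryTheory CategoryTheory.Limits AlgebraicGeometry Opposite TopologicalSpace

namespace Groth.Agent.Lib.Lead.CechSh
open Groth.Agent.Lib.Lead.ModSections

variable {X : Scheme.{u}} {ι : Type u} (𝒰 : ι → X.Opens) (F : X.Modules)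

/-- the coaugmentation, with a syntactically simple type -/
noncomputable def aug : F ⟶ KX 𝒰 F 0 := CechOX.cechShAug 𝒰 F

lemma I_le_right (W V : X.Opens) : I W V ≤ V := by
  rw [I_eq]
  exact inf_le_right

/-- the underlying sheaf of abelian groups -/
noncomputable abbrev shAb : TopCat.Sheaf Ab X := (SheafOfModules.toSheaf X.ringCatSheaf).obj F

example : (shAb F).1 = F.presheaf := rfl

variable {𝒰 F}

lemma aug_π (x : Fin 1 → ι) :
    aug 𝒰 F ≫ Pi.π (TF 𝒰 F 0) x = (Scheme.Modules.restrictAdjunction (gObj 𝒰 x).ι).unit.app F := by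
  unfold aug CechOX.cechShAug
  exact Pi.lift_π _ _

lemma sres_aug {V : X.Opens} (s : Γ(F, V)) (x : Fin 1 → ι) (O : X.Opens)
    (hO : O ≤ I (gObj 𝒰 x) V) :
    sres ((aug 𝒰 F).app V s) x O hO =
      F.presheaf.map (homOfLE (hO.trans (I_le_right _ _))).op s := by
  have h1 : (Pi.π (TF 𝒰 F 0) x).app V ((aug 𝒰 F).app V s) =
      F.presheaf.map (homOfLE (I_le_right (gObj 𝒰 x) V)).op s := by
    have h0 : (aug 𝒰 F ≫ Pi.π (TF 𝒰 F 0) x).app V s =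
        ((Scheme.Modules.restrictAdjunction (gObj 𝒰 x).ι).unit.app F).app V s :=
      congrArg (fun φ : F ⟶ TF 𝒰 F 0 x => φ.app V s) (aug_π (𝒰 := 𝒰) (F := F) x)
    exact h0
  unfold sres
  rw [h1]
  exact SectCmp.map_homOfLE_trans F _ hO _

/-- the opens `V ∩ U_x` cover `V` -/
lemma le_iSup_I (h𝒰 : ⨆ i, 𝒰 i = ⊤) (V : X.Opens) :
    V ≤ ⨆ x : Fin 1 → ι, I (gObj 𝒰 x) V := by
  intro p hp
  have hp' : p ∈ (⨆ i, 𝒰 i : X.Opens) := by rw [h𝒰]; trivial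
  obtain ⟨j, hj⟩ := Opens.mem_iSup.1 hp'
  refine Opens.mem_iSup.2 ⟨fun _ => j, ?_⟩
  rw [I_eq]
  exact ⟨le_gObj 𝒰 (fun _ : Fin 1 => j) (𝒰 j) (fun _ => le_rfl) hj, hp⟩

lemma aug_app_injective (h𝒰 : ⨆ i, 𝒰 i = ⊤) (V : X.Opens) :
    Function.Injective ((aug 𝒰 F).app V) := by
  intro s t hst
  refine (shAb F).eq_of_locally_eq' (fun x : Fin 1 → ι => I (gObj 𝒰 x) V) V
    (fun x => homOfLE (I_le_right _ _)) (le_iSup_I h𝒰 V) s t ?_
  intro x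
  have h1 := sres_aug (𝒰 := 𝒰) s x (I (gObj 𝒰 x) V) le_rfl
  have h2 := sres_aug (𝒰 := 𝒰) t x (I (gObj 𝒰 x) V) le_rfl
  rw [hst] at h1
  exact h1.symm.trans h2

lemma aug_mono (h𝒰 : ⨆ i, 𝒰 i = ⊤) : Mono (aug 𝒰 F) :=
  mono_of_app_injective _ (aug_app_injective h𝒰)

lemma aug_dK : aug 𝒰 F ≫ dK 𝒰 F 0 = 0 := by
  apply Scheme.Modules.hom_ext
  intro V
  ext s
  change (dK 𝒰 F 0).app V ((aug 𝒰 F).app V s) = 0
  apply sres_ext
  intro y
  rw [sres_d, sres_zero, Fin.sum_univ_two, sres_aug, sres_aug]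
  simp

lemma fin1_eq_const (x : Fin 1 → ι) : (fun _ : Fin 1 => x 0) = x := by
  funext a
  rw [Subsingleton.elim a 0]

lemma cons_comp_succAbove_one (x x' : Fin 1 → ι) :
    (Fin.cons (x 0) x' : Fin 2 → ι) ∘ Fin.succAbove 1 = x := by
  funext a
  rw [Subsingleton.elim a 0]
  rfl

lemma I_inf_le (x x' : Fin 1 → ι) (V : X.Opens) :
    I (gObj 𝒰 x) V ⊓ I (gObj 𝒰 x') V ≤ I (gObj 𝒰 (Fin.cons (x 0) x' : Fin 2 → ι)) V := by
  rw [I_eq, I_eq, I_eq, gObj_cons_eq]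
  refine le_inf (le_inf ?_ ?_) ?_
  · exact inf_le_left.trans (inf_le_left.trans (gObj_le 𝒰 x 0))
  · exact inf_le_right.trans inf_le_left
  · exact inf_le_left.trans inf_le_right

/-- a degree zero cocycle comes from a section of `F` -/
lemma exists_aug_eq (h𝒰 : ⨆ i, 𝒰 i = ⊤) {V : X.Opens} (b : Γ(KX 𝒰 F 0, V))
    (hb : (dK 𝒰 F 0).app V b = 0) : ∃ s : Γ(F, V), (aug 𝒰 F).app V s = b := by
  have hcompat : TopCat.Presheaf.IsCompatible (shAb F).1 (fun x : Fin 1 → ι => I (gObj 𝒰 x) V)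
      (fun x => sres b x (I (gObj 𝒰 x) V) le_rfl) := by
    intro x x'
    have h0 : sres ((dK 𝒰 F 0).app V b) (Fin.cons (x 0) x')
        (I (gObj 𝒰 x) V ⊓ I (gObj 𝒰 x') V) (I_inf_le x x' V) = 0 := by
      rw [hb]
      exact sres_zero _ _ _
    rw [sres_d, Fin.sum_univ_two] at h0
    rw [sres_congr b _ x' (cons_comp_succAbove_zero (x 0) x') _ _ inf_le_right,
      sres_congr b _ x (cons_comp_succAbove_one x x') _ _ inf_le_left] at h0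
    simp only [Fin.val_zero, pow_zero, one_smul, Fin.val_one, pow_one, neg_smul] at h0
    have h1 := (sres_map b x (I (gObj 𝒰 x) V) (I (gObj 𝒰 x) V ⊓ I (gObj 𝒰 x') V) le_rfl
      inf_le_left)
    have h2 := (sres_map b x' (I (gObj 𝒰 x') V) (I (gObj 𝒰 x) V ⊓ I (gObj 𝒰 x') V) le_rfl
      inf_le_right)
    refine h1.trans (Eq.trans ?_ h2.symm)
    exact (eq_of_sub_eq_zero (by rw [← h0]; abel)).symm
  obtain ⟨s, hs, -⟩ := (shAb F).existsUnique_gluing' (fun x : Fin 1 → ι => I (gObj 𝒰 x) V) V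
    (fun x => homOfLE (I_le_right _ _)) (le_iSup_I h𝒰 V) _ hcompat
  refine ⟨s, ?_⟩
  apply sres_ext
  intro x
  rw [sres_aug]
  exact hs x

/-- exactness of `F ⟶ 𝔠⁰ ⟶ 𝔠¹` at `𝔠⁰` -/
lemma exact_zero (h𝒰 : ⨆ i, 𝒰 i = ⊤) :
    (ShortComplex.mk (aug 𝒰 F) (dK 𝒰 F 0) aug_dK).Exact := by
  apply exact_of_locally
  intro V b hb x hx
  obtain ⟨s, hs⟩ := exists_aug_eq h𝒰 b hb
  refine ⟨V, le_rfl, hx, s, ?_⟩
  exact hs.trans (SectCmp.map_homOfLE_refl _ V b).symm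

/-- exactness of `𝔠ⁿ ⟶ 𝔠ⁿ⁺¹ ⟶ 𝔠ⁿ⁺²` at `𝔠ⁿ⁺¹` -/
lemma exact_succ (h𝒰 : ⨆ i, 𝒰 i = ⊤) (n : ℕ) :
    (ShortComplex.mk (dK 𝒰 F n) (dK 𝒰 F (n + 1)) (dK_comp n)).Exact := by
  apply exact_of_locally
  intro V b hb x hx
  have hx' : x ∈ (⨆ i, 𝒰 i : X.Opens) := by rw [h𝒰]; trivial
  obtain ⟨j, hj⟩ := Opens.mem_iSup.1 hx'
  obtain ⟨a, ha⟩ := exists_local_primitive b hb j
  exact ⟨V ⊓ 𝒰 j, inf_le_left, ⟨hx, hj⟩, a, ha⟩

end Groth.Agent.Lib.Lead.CechSh
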