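import Groth.Agent.Lib.Lead.SectCmp


universe u
open CategoryTheory CategoryTheory.Limits AlgebraicGeometry Opposite TopologicalSpace

namespace Groth.Agent.Lib.Lead.ModSections

variable {X : Scheme.{u}}

/-- sections functor -/
noncomputable abbrev secF (V : X.Opens) : X.Modules ⥤ Ab :=
  Scheme.Modules.toPresheaf X ⋙ (evaluation _ _).obj (op V)

example {A B : X.Modules} (ψ : A ⟶ B) (V : X.Opens) : (secF V).map ψ = ψ.app V := rfl

instance (V : X.Opens) (J : Type u) [Category.{u} J] : PreservesLimitsOfShape J (secF (X := X) V) := by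
  have : PreservesLimitsOfShape J (Scheme.Modules.toPresheaf X) := inferInstance
  have : PreservesLimitsOfShape J ((evaluation (X.Opens)ᵒᵖ Ab).obj (op V)) := inferInstance
  exact comp_preservesLimitsOfShape _ _

instance (V : X.Opens) : PreservesFiniteLimits (secF (X := X) V) := by
  have : PreservesFiniteLimits (Scheme.Modules.toPresheaf X) := inferInstance
  have : PreservesFiniteLimits ((evaluation (X.Opens)ᵒᵖ Ab).obj (op V)) := inferInstance
  exact comp_preservesFiniteLimits _ _

lemma app_injective_of_mono {A B : X.Modules} (ψ : A ⟶ B) [Mono ψ] (V : X.Opens) :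
    Function.Injective (ψ.app V) := by
  have h : Mono ((secF V).map ψ) := inferInstance
  exact (AddCommGrpCat.mono_iff_injective _).1 h

lemma mono_of_app_injective {A B : X.Modules} (ψ : A ⟶ B)
    (h : ∀ V : X.Opens, Function.Injective (ψ.app V)) : Mono ψ := by
  have h1 : Mono ((Scheme.Modules.toPresheaf X).map ψ) := by
    apply (NatTrans.mono_iff_mono_app _).2
    intro V
    exact (AddCommGrpCat.mono_iff_injective _).2 (h V.unop)
  exact (Scheme.Modules.toPresheaf X).mono_of_mono_map h1

end Groth.Agent.Lib.Lead.ModSections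

namespace Groth.Agent.Lib.Lead.ModSections
variable {X : Scheme.{u}}

open Groth.Agent.Lib.Helper83.ModCoh in
/-- A morphism of `O`-modules which is locally surjective on sections is an epimorphism. -/
lemma epi_of_locally_surjective {A B : X.Modules} (ψ : A ⟶ B)
    (h : ∀ (V : X.Opens) (b : Γ(B, V)) (x : X), x ∈ V → ∃ (W : X.Opens) (hW : W ≤ V), x ∈ W ∧
      ∃ a : Γ(A, W), ψ.app W a = B.presheaf.map (homOfLE hW).op b) : Epi ψ := by
  have hls : Sheaf.IsLocallySurjective
      ((SheafOfModules.toSheaf X.ringCatSheaf : X.Modules ⥤ _).map ψ) := by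
    constructor
    intro V b x hx
    obtain ⟨W, hW, hxW, a, ha⟩ := h V b x hx
    exact ⟨W, homOfLE hW, ⟨a, ha⟩, hxW⟩
  have hepi : Epi ((SheafOfModules.toSheaf X.ringCatSheaf : X.Modules ⥤ _).map ψ) :=
    (Sheaf.isLocallySurjective_iff_epi' _ _).1 hls
  exact (SheafOfModules.toSheaf X.ringCatSheaf : X.Modules ⥤ _).epi_of_epi_map hepi

end Groth.Agent.Lib.Lead.ModSections

namespace Groth.Agent.Lib.Lead.ModSections
variable {X : Scheme.{u}}

/-- Exactness of a short complex of `O`-modules from local lifting of sections. -/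
lemma exact_of_locally (S : ShortComplex X.Modules)
    (h : ∀ (V : X.Opens) (b : Γ(S.X₂, V)), S.g.app V b = 0 → ∀ x : X, x ∈ V →
      ∃ (W : X.Opens) (hW : W ≤ V), x ∈ W ∧
        ∃ a : Γ(S.X₁, W), S.f.app W a = S.X₂.presheaf.map (homOfLE hW).op b) : S.Exact := by
  rw [S.exact_iff_epi_toCycles]
  apply epi_of_locally_surjective
  intro V c x hx
  have hb : S.g.app V (S.iCycles.app V c) = 0 := by
    have h0 : S.iCycles ≫ S.g = 0 := S.iCycles_g
    have h1 : (S.iCycles ≫ S.g).app V c = 0 := by rw [h0]; rfl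
    exact h1
  obtain ⟨W, hW, hxW, a, ha⟩ := h V _ hb x hx
  refine ⟨W, hW, hxW, a, ?_⟩
  apply app_injective_of_mono S.iCycles W
  have h2 : S.iCycles.app W (S.toCycles.app W a) = S.f.app W a := by
    have h0 : S.toCycles ≫ S.iCycles = S.f := S.toCycles_i
    have h1 : (S.toCycles ≫ S.iCycles).app W a = S.f.app W a := by rw [h0]
    exact h1
  rw [h2, ha]
  exact (SectCmp.app_map S.iCycles hW c).symm

variable {κ : Type u} (M : κ → X.Modules)

lemma pi_ext (V : X.Opens) (s t : Γ(∏ᶜ M, V))
    (h : ∀ k, (Pi.π M k).app V s = (Pi.π M k).app V t) : s = t := by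
  have hl := isLimitOfPreserves (secF V) (limit.isLimit (Discrete.functor M))
  refine Concrete.isLimit_ext _ hl s t ?_
  rintro ⟨k⟩
  exact h k

lemma pi_exists (V : X.Opens) (t : ∀ k, Γ(M k, V)) :
    ∃ s : Γ(∏ᶜ M, V), ∀ k, (Pi.π M k).app V s = t k := by
  let e := PreservesProduct.iso (secF V) M
  let s' : ToType (∏ᶜ fun k => (secF V).obj (M k)) := (Concrete.productEquiv _).symm t
  refine ⟨e.inv s', fun k => ?_⟩
  have h1 : e.hom ≫ Pi.π _ k = (secF V).map (Pi.π M k) := piComparison_comp_π _ _ _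
  have h2 : (secF V).map (Pi.π M k) (e.inv s') = Pi.π (fun k => (secF V).obj (M k)) k s' := by
    rw [← h1]
    change (e.inv ≫ e.hom ≫ Pi.π _ k) s' = _
    rw [Iso.inv_hom_id_assoc]
  exact h2.trans (Concrete.productEquiv_symm_apply_π _ t k)

end Groth.Agent.Lib.Lead.ModSections
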