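import Groth.Prelude.Def_CechOX
import Groth.Agent.Lib.Lead.ModSections
import Groth.Agent.Lib.Lead.CechGenA

/-!
# The Čech complex of sheaves `CechOX.cechSh`: sections, the differential in components, and the
local contraction (towards: it is a resolution).
-/


universe u
open CategoryTheory CategoryTheory.Limits AlgebraicGeometry Opposite TopologicalSpace

namespace Groth.Agent.Lib.Lead.CechSh
open Groth.Agent.Lib.Lead.ModSections

variable {X : Scheme.{u}} {ι : Type u} (𝒰 : ι → X.Opens) (F : X.Modules)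

/-- the presheaf of modules `W ↦ (j_W)_*(F|_W)` -/
noncomputable abbrev PP : (X.Opens)ᵒᵖ ⥤ X.Modules := CechOX.pushRestrFam.flip.obj F

/-- the Čech complex of sheaves -/
noncomputable abbrev K : CochainComplex X.Modules ℕ := (CechOX.cechSh 𝒰).obj F

/-- the open `V ∩ W`, in the form in which it appears in sections of `(j_W)_*(F|_W)` -/
noncomputable abbrev I (W V : X.Opens) : X.Opens := W.ι ''ᵁ (W.ι ⁻¹ᵁ V)

lemma I_eq (W V : X.Opens) : I W V = W ⊓ V := by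
  unfold I
  rw [Scheme.Hom.image_preimage_eq_opensRange_inf, Scheme.Opens.opensRange_ι]

lemma I_mono {W W' V V' : X.Opens} (hW : W' ≤ W) (hV : V' ≤ V) : I W' V' ≤ I W V := by
  rw [I_eq, I_eq]
  exact inf_le_inf hW hV

lemma gObj_le {n : ℕ} (x : Fin (n + 1) → ι) (k : Fin (n + 1)) : gObj 𝒰 x ≤ 𝒰 (x k) :=
  leOfHom (Pi.π (𝒰 ∘ x) k)

lemma le_gObj {n : ℕ} (x : Fin (n + 1) → ι) (W : X.Opens) (h : ∀ k, W ≤ 𝒰 (x k)) : W ≤ gObj 𝒰 x :=
  leOfHom (Pi.lift (fun k => homOfLE (h k)))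

lemma gObj_face_le {n : ℕ} (y : Fin (n + 2) → ι) (i : Fin (n + 2)) :
    gObj 𝒰 y ≤ gObj 𝒰 (y ∘ Fin.succAbove i) := leOfHom (gFace 𝒰 y i)

lemma gObj_cons_eq {n : ℕ} (j : ι) (x : Fin (n + 1) → ι) :
    gObj 𝒰 (Fin.cons j x : Fin (n + 2) → ι) = 𝒰 j ⊓ gObj 𝒰 x := by
  apply le_antisymm
  · apply le_inf
    · have := gObj_le 𝒰 (Fin.cons j x : Fin (n + 2) → ι) 0
      simpa using this
    · apply le_gObj
      intro k
      have := gObj_le 𝒰 (Fin.cons j x : Fin (n + 2) → ι) k.succ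
      simpa using this
  · apply le_gObj
    intro k
    refine Fin.cases ?_ (fun b => ?_) k
    · simp
    · simpa using inf_le_right.trans (gObj_le 𝒰 x b)

example (W V : X.Opens) : Γ((PP F).obj (op W), V) = Γ(F, I W V) := rfl


/-- the family of modules whose product is the degree `n` term -/
noncomputable abbrev TF (n : ℕ) : (Fin (n + 1) → ι) → X.Modules :=
  fun x => (PP F).obj (op (gObj 𝒰 x))

/-- the degree `n` term, with a syntactically simple type -/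
noncomputable abbrev KX (n : ℕ) : X.Modules := ∏ᶜ (TF 𝒰 F n)

example (n : ℕ) : (K 𝒰 F).X n = KX 𝒰 F n := rfl

/-- the differential, with a syntactically simple type -/
noncomputable def dK (n : ℕ) : KX 𝒰 F n ⟶ KX 𝒰 F (n + 1) := (K 𝒰 F).d n (n + 1)

variable {𝒰 F}

/-- component of a section of the degree `n` term, restricted to a smaller open -/
noncomputable def sres {n : ℕ} {V : X.Opens} (s : Γ(KX 𝒰 F n, V)) (x : Fin (n + 1) → ι)
    (O : X.Opens) (hO : O ≤ I (gObj 𝒰 x) V) : Γ(F, O) :=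
  F.presheaf.map (homOfLE hO).op ((Pi.π (TF 𝒰 F n) x).app V s)

lemma sres_map {n : ℕ} {V : X.Opens} (s : Γ(KX 𝒰 F n, V)) (x : Fin (n + 1) → ι)
    (O O' : X.Opens) (hO : O ≤ I (gObj 𝒰 x) V) (h2 : O' ≤ O) :
    F.presheaf.map (homOfLE h2).op (sres s x O hO) = sres s x O' (h2.trans hO) :=
  SectCmp.map_homOfLE_trans F hO h2 _

lemma sres_congr {n : ℕ} {V : X.Opens} (s : Γ(KX 𝒰 F n, V)) (x x' : Fin (n + 1) → ι)
    (hx : x = x') (O : X.Opens) (hO : O ≤ I (gObj 𝒰 x) V) (hO' : O ≤ I (gObj 𝒰 x') V) :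
    sres s x O hO = sres s x' O hO' := by
  subst hx
  rfl

lemma sres_zero {n : ℕ} {V : X.Opens} (x : Fin (n + 1) → ι)
    (O : X.Opens) (hO : O ≤ I (gObj 𝒰 x) V) : sres (0 : Γ(KX 𝒰 F n, V)) x O hO = 0 := by
  unfold sres
  rw [map_zero]
  exact map_zero _

lemma sres_ext {n : ℕ} {V : X.Opens} (s t : Γ(KX 𝒰 F n, V))
    (h : ∀ x, sres s x (I (gObj 𝒰 x) V) le_rfl = sres t x (I (gObj 𝒰 x) V) le_rfl) : s = t := by
  apply pi_ext (TF 𝒰 F n) V
  intro x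
  have h1 := h x
  unfold sres at h1
  rw [SectCmp.map_homOfLE_refl, SectCmp.map_homOfLE_refl] at h1
  exact h1

lemma sres_exists {n : ℕ} (V : X.Opens) (t : ∀ x : Fin (n + 1) → ι, Γ(F, I (gObj 𝒰 x) V)) :
    ∃ s : Γ(KX 𝒰 F n, V), ∀ x O hO, sres s x O hO = F.presheaf.map (homOfLE hO).op (t x) := by
  obtain ⟨s, hs⟩ := pi_exists (TF 𝒰 F n) V t
  refine ⟨s, fun x O hO => ?_⟩
  unfold sres
  rw [hs]


lemma PP_map_eq (W : X.Opens) {V V' : X.Opens} (h : V' ≤ V) (t : Γ(F, I W V)) :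
    ((PP F).obj (op W)).presheaf.map (homOfLE h).op t =
      F.presheaf.map (homOfLE (I_mono (le_refl W) h)).op t := rfl

/-- restriction of a section to a smaller open, in components -/
lemma sres_restrict {n : ℕ} {V W : X.Opens} (hW : W ≤ V) (s : Γ(KX 𝒰 F n, V))
    (x : Fin (n + 1) → ι) (O : X.Opens) (hO : O ≤ I (gObj 𝒰 x) W) :
    sres ((KX 𝒰 F n).presheaf.map (homOfLE hW).op s) x O hO =
      sres s x O (hO.trans (I_mono le_rfl hW)) := by
  have h1 : (Pi.π (TF 𝒰 F n) x).app W ((KX 𝒰 F n).presheaf.map (homOfLE hW).op s) =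
      F.presheaf.map (homOfLE (I_mono (le_refl (gObj 𝒰 x)) hW)).op
        ((Pi.π (TF 𝒰 F n) x).app V s) :=
    (SectCmp.app_map (Pi.π (TF 𝒰 F n) x) hW s).trans (PP_map_eq (gObj 𝒰 x) hW _)
  unfold sres
  rw [h1]
  exact SectCmp.map_homOfLE_trans F (I_mono (le_refl (gObj 𝒰 x)) hW) hO _

instance secF_additive (V : X.Opens) : (secF (X := X) V).Additive where
  map_add := by
    intros
    rfl

lemma app_sum {A B : X.Modules} {α : Type*} (s : Finset α) (φ : α → (A ⟶ B)) (V : X.Opens)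
    (a : Γ(A, V)) : (∑ i ∈ s, φ i).app V a = ∑ i ∈ s, (φ i).app V a := by
  have h : (secF V).map (∑ i ∈ s, φ i) = ∑ i ∈ s, (secF V).map (φ i) := Functor.map_sum _ _ _
  have h2 : (∑ i ∈ s, φ i).app V = ∑ i ∈ s, (φ i).app V := h
  rw [h2]
  exact addCommGrpCat_sum_apply s (fun i => (φ i).app V) a

lemma app_zsmul {A B : X.Modules} (k : ℤ) (φ : A ⟶ B) (V : X.Opens) (a : Γ(A, V)) :
    (k • φ).app V a = k • φ.app V a := by
  have h : (secF V).map (k • φ) = k • (secF V).map φ := Functor.map_zsmul _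
  have h2 : (k • φ).app V = k • φ.app V := h
  rw [h2]
  exact addCommGrpCat_zsmul_apply k (φ.app V) a

lemma PP_map_app {W W' : X.Opens} (i : op W ⟶ op W') (V : X.Opens) (t : Γ(F, I W V)) :
    ((PP F).map i).app V t =
      F.presheaf.map (homOfLE (I_mono (leOfHom i.unop) (le_refl V))).op t := rfl

/-- the differential in components -/
lemma sres_d {n : ℕ} {V : X.Opens} (s : Γ(KX 𝒰 F n, V)) (y : Fin (n + 2) → ι)
    (O : X.Opens) (hO : O ≤ I (gObj 𝒰 y) V) :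
    sres ((dK 𝒰 F n).app V s) y O hO =
      ∑ i : Fin (n + 2), (-1 : ℤ) ^ (i : ℕ) •
        sres s (y ∘ Fin.succAbove i) O (hO.trans (I_mono (gObj_face_le 𝒰 y i) le_rfl)) := by
  have h1 : dK 𝒰 F n ≫ Pi.π (TF 𝒰 F (n + 1)) y =
      ∑ i : Fin (n + 2), (-1 : ℤ) ^ (i : ℕ) •
        (Pi.π (TF 𝒰 F n) (y ∘ Fin.succAbove i) ≫ (PP F).map (gFace 𝒰 y i).op) :=
    a_d_π 𝒰 (PP F) n y
  have h2 : (Pi.π (TF 𝒰 F (n + 1)) y).app V ((dK 𝒰 F n).app V s) =
      ∑ i : Fin (n + 2), (-1 : ℤ) ^ (i : ℕ) •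
        F.presheaf.map (homOfLE (I_mono (gObj_face_le 𝒰 y i) (le_refl V))).op
          ((Pi.π (TF 𝒰 F n) (y ∘ Fin.succAbove i)).app V s) := by
    have h3 : (dK 𝒰 F n ≫ Pi.π (TF 𝒰 F (n + 1)) y).app V s = _ := congrArg (fun φ => φ.app V s) h1
    refine h3.trans ?_
    rw [app_sum]
    refine Finset.sum_congr rfl fun i _ => ?_
    rw [app_zsmul]
    rfl
  unfold sres
  rw [h2, map_sum]
  refine Finset.sum_congr rfl fun i _ => ?_
  rw [map_zsmul]
  congr 1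
  exact SectCmp.map_homOfLE_trans F _ hO _

lemma dK_comp (n : ℕ) : dK 𝒰 F n ≫ dK 𝒰 F (n + 1) = 0 := (K 𝒰 F).d_comp_d _ _ _

lemma cons_comp_succAbove_zero {n : ℕ} (j : ι) (x : Fin (n + 1) → ι) :
    (Fin.cons j x : Fin (n + 2) → ι) ∘ Fin.succAbove 0 = x := by
  funext a
  simp [Fin.succAbove_zero]

lemma cons_comp_succAbove_succ {n : ℕ} (j : ι) (x : Fin (n + 2) → ι) (k : Fin (n + 2)) :
    (Fin.cons j x : Fin (n + 3) → ι) ∘ Fin.succAbove k.succ =
      Fin.cons j (x ∘ Fin.succAbove k) := by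
  funext a
  refine Fin.cases ?_ (fun b => ?_) a
  · simp
  · simp [Fin.succ_succAbove_succ]

lemma I_cons_le {n : ℕ} (j : ι) (z : Fin (n + 1) → ι) (V : X.Opens) :
    I (gObj 𝒰 z) (V ⊓ 𝒰 j) ≤ I (gObj 𝒰 (Fin.cons j z : Fin (n + 2) → ι)) V := by
  rw [I_eq, I_eq, gObj_cons_eq]
  refine le_inf (le_inf ?_ inf_le_left) ?_
  · exact inf_le_right.trans inf_le_right
  · exact inf_le_right.trans inf_le_left

/-- local contraction: a cocycle of positive degree over `V` is a coboundary over `V ∩ U_j` -/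
lemma exists_local_primitive {n : ℕ} {V : X.Opens} (b : Γ(KX 𝒰 F (n + 1), V))
    (hb : (dK 𝒰 F (n + 1)).app V b = 0) (j : ι) :
    ∃ a : Γ(KX 𝒰 F n, V ⊓ 𝒰 j), (dK 𝒰 F n).app (V ⊓ 𝒰 j) a =
      (KX 𝒰 F (n + 1)).presheaf.map (homOfLE (inf_le_left : V ⊓ 𝒰 j ≤ V)).op b := by
  obtain ⟨a, ha⟩ := sres_exists (𝒰 := 𝒰) (F := F) (n := n) (V ⊓ 𝒰 j)
    (fun z => sres b (Fin.cons j z) (I (gObj 𝒰 z) (V ⊓ 𝒰 j)) (I_cons_le j z V))
  refine ⟨a, ?_⟩
  apply sres_ext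
  intro y
  rw [sres_d, sres_restrict]
  have h0 : sres ((dK 𝒰 F (n + 1)).app V b) (Fin.cons j y) (I (gObj 𝒰 y) (V ⊓ 𝒰 j))
      (I_cons_le j y V) = 0 := by
    rw [hb]
    exact sres_zero _ _ _
  rw [sres_d, Fin.sum_univ_succ] at h0
  have e0 := sres_congr b _ y (cons_comp_succAbove_zero j y) (I (gObj 𝒰 y) (V ⊓ 𝒰 j))
    ((I_cons_le j y V).trans (I_mono (gObj_face_le 𝒰 (Fin.cons j y) 0) le_rfl))
    ((le_refl _).trans (I_mono le_rfl inf_le_left))
  rw [e0] at h0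
  simp only [Fin.val_zero, pow_zero, one_smul] at h0
  rw [eq_neg_of_add_eq_zero_left h0, ← Finset.sum_neg_distrib]
  refine Finset.sum_congr rfl fun i _ => ?_
  rw [ha, sres_map]
  rw [sres_congr b _ _ (cons_comp_succAbove_succ j y i) (I (gObj 𝒰 y) (V ⊓ 𝒰 j)) _
    (((le_refl _).trans (I_mono (gObj_face_le 𝒰 y i) le_rfl)).trans
      (I_cons_le j (y ∘ Fin.succAbove i) V))]
  rw [Fin.val_succ, pow_succ]
  simp

end Groth.Agent.Lib.Lead.CechSh
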