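import Groth.Agent.Lib.Lead.CechEdgeLib
import Groth.Agent.Lib.Lead.CechSiteH1
import Groth.Agent.Lib.Helper5.CechSiteZero

/-!
# A presheaf is a sheaf iff `P(U) ⟶ Ȟ⁰(Y, P)` is bijective for all covering families
-/

set_option autoImplicit false
universe u
open CategoryTheory CategoryTheory.Limits Opposite

namespace Groth.Agent.Lib.Lead.SheafIff

open Groth.Agent.Lib.Lead Groth.Agent.Lib.Helper5

variable {C : Type u} [SmallCategory C] [HasPullbacks C]
  {U : C} {ι : Type u} (Y : ι → Over U) (P : Cᵒᵖ ⥤ AddCommGrpCat.{u})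

section Step1

variable (h : Function.Bijective (CechEdge.toCech Y P))

/-- the lift of the augmentation to cycles -/
noncomputable abbrev augLift : P.obj (op U) ⟶ (gCx Y (sPU P)).cycles 0 :=
  (gCx Y (sPU P)).liftCycles (sAug Y P) 1 (by simp) (sAug_d Y P)

include h in
lemma augLift_bijective : Function.Bijective (augLift Y P).hom := by
  have h1 : Function.Bijective ((gCx Y (sPU P)).homologyπ 0).hom :=
    (ConcreteCategory.isIso_iff_bijective ((gCx Y (sPU P)).homologyπ 0)).1 inferInstance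
  have h2 : CechEdge.toCech Y P = ((gCx Y (sPU P)).homologyπ 0).hom ∘ (augLift Y P).hom := rfl
  rw [h2] at h
  exact (Function.Bijective.of_comp_iff' h1 _).1 h

lemma sAug_eq (s : P.obj (op U)) :
    sAug Y P s = ((gCx Y (sPU P)).iCycles 0) ((augLift Y P) s) := by
  have h1 : augLift Y P ≫ (gCx Y (sPU P)).iCycles 0 = sAug Y P :=
    (gCx Y (sPU P)).liftCycles_i _ _ _ _
  exact (ConcreteCategory.congr_hom h1 s).symm

include h in
lemma sAug_injective_of_bijective : Function.Injective (sAug Y P) := by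
  have h1 : Function.Injective ((gCx Y (sPU P)).iCycles 0) :=
    (AddCommGrpCat.mono_iff_injective _).1 inferInstance
  intro s t hst
  rw [sAug_eq, sAug_eq] at hst
  exact (augLift_bijective Y P h).1 (h1 hst)

include h in
lemma sAug_exact_of_bijective (c : gX Y (sPU P) 0) (hc : gd Y (sPU P) 0 c = 0) :
    ∃ s : P.obj (op U), sAug Y P s = c := by
  have hex : (ShortComplex.mk ((gCx Y (sPU P)).iCycles 0) ((gCx Y (sPU P)).d 0 1)
      (by simp)).Exact :=
    ShortComplex.exact_of_f_is_kernel _ ((gCx Y (sPU P)).cyclesIsKernel 0 1 (by simp))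
  obtain ⟨z, hz⟩ := (ShortComplex.ab_exact_iff _).1 hex c hc
  obtain ⟨s, hs⟩ := (augLift_bijective Y P h).2 z
  refine ⟨s, ?_⟩
  rw [sAug_eq]
  have hs' : (augLift Y P) s = z := hs
  rw [hs']
  exact hz

end Step1


section Step2

/-- the `0`-cochain attached to a family of sections over the members of the family -/
noncomputable def cochainOfFamily (b : ∀ i, P.obj (op (Y i).left)) : GCochain Y (sPU P) 0 :=
  fun x => P.map (Pi.π (Y ∘ x) 0).left.op (b (x 0))

lemma compat_π (b : ∀ i, P.obj (op (Y i).left))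
    (hb : Presieve.Arrows.Compatible (P ⋙ forget AddCommGrpCat.{u}) (fun i => (Y i).hom) b)
    {n : ℕ} (y : Fin (n + 1) → ι) (a a' : Fin (n + 1)) :
    P.map (Pi.π (Y ∘ y) a).left.op (b (y a)) = P.map (Pi.π (Y ∘ y) a').left.op (b (y a')) :=
  hb (y a) (y a') (gObj Y y).left (Pi.π (Y ∘ y) a).left (Pi.π (Y ∘ y) a').left
    ((Over.w (Pi.π (Y ∘ y) a)).trans (Over.w (Pi.π (Y ∘ y) a')).symm)

lemma coboundary_cochainOfFamily (b : ∀ i, P.obj (op (Y i).left))
    (hb : Presieve.Arrows.Compatible (P ⋙ forget AddCommGrpCat.{u}) (fun i => (Y i).hom) b) :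
    gCoboundary Y (sPU P) 0 (cochainOfFamily Y P b) = 0 := by
  funext y
  have h : ∀ i : Fin 2, (sPU P).map (gFace Y y i).op (cochainOfFamily Y P b (y ∘ Fin.succAbove i)) =
      P.map (Pi.π (Y ∘ y) 0).left.op (b (y 0)) := by
    intro i
    have h1 := map_gFace_π Y P y i 0 (b (y (Fin.succAbove i 0)))
    exact h1.trans (compat_π Y P b hb y _ _)
  change ∑ i : Fin 2, (-1 : ℤ) ^ (i : ℕ) •
    ((sPU P).map (gFace Y y i).op) (cochainOfFamily Y P b (y ∘ Fin.succAbove i)) = 0
  rw [Fin.sum_univ_two, h, h]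
  simp only [Fin.val_zero, Fin.val_one, pow_zero, pow_one, one_smul, neg_smul, add_neg_cancel]

variable (h : Function.Bijective (CechEdge.toCech Y P))

include h in
theorem isSheafFor_of_bijective :
    Presieve.IsSheafFor (P ⋙ forget AddCommGrpCat.{u})
      (Presieve.ofArrows (fun i => (Y i).left) (fun i => (Y i).hom)) := by
  rw [Presieve.isSheafFor_arrows_iff]
  intro b hb
  have hc : gd Y (sPU P) 0 ((gEquiv Y (sPU P) 0).symm (cochainOfFamily Y P b)) = 0 := by
    apply (gEquiv Y (sPU P) 1).injective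
    rw [gEquiv_gd, AddEquiv.apply_symm_apply, map_zero]
    exact coboundary_cochainOfFamily Y P b hb
  obtain ⟨s, hs⟩ := sAug_exact_of_bijective Y P h _ hc
  have key : ∀ (t : P.obj (op U)) (x : Fin 1 → ι),
      (Pi.π (gF Y (sPU P) 0) x) (sAug Y P t) =
        P.map (Pi.π (Y ∘ x) 0).left.op (P.map (Y (x 0)).hom.op t) := by
    intro t x
    rw [sAug_apply_π]
    exact (map_π_hom Y P x 0 t).symm
  have hs' : ∀ x : Fin 1 → ι, P.map (Pi.π (Y ∘ x) 0).left.op (P.map (Y (x 0)).hom.op s) =
      P.map (Pi.π (Y ∘ x) 0).left.op (b (x 0)) := by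
    intro x
    rw [← key, hs]
    exact gEquiv_symm_π Y (sPU P) 0 (cochainOfFamily Y P b) x
  refine ⟨s, ?_, ?_⟩
  · intro i
    change P.map (Y i).hom.op s = b i
    have h1 := congrArg (P.map (sToProd (sPt Y i)).op) (hs' (sIdx (sPt Y i)))
    have e1 := map_sToProd_π P (sPt Y i) 0 (P.map (Y i).hom.op s)
    have e2 := map_sToProd_π P (sPt Y i) 0 (b i)
    have e3 : ∀ z : P.obj (op (Y i).left), P.map ((sPt Y i).1 0).2.op z = z := by
      intro z
      change P.map (𝟙 (Y i).left).op z = z
      rw [op_id, P.map_id]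
      rfl
    rw [e3] at e1 e2
    exact e1.symm.trans (h1.trans e2)
  · intro t ht
    apply sAug_injective_of_bijective Y P h
    apply pi_ext_elt
    intro x
    rw [key, key, hs']
    have : P.map (Y (x 0)).hom.op t = b (x 0) := ht (x 0)
    rw [this]

end Step2


/-- **A presheaf of abelian groups is a sheaf iff `P(U) ⟶ Ȟ⁰(Y, P)` is bijective for every
covering family.** -/
theorem isSheaf_iff_toCech_bijective (J : GrothendieckTopology C)
    (P : Cᵒᵖ ⥤ AddCommGrpCat.{u}) :
    Presheaf.IsSheaf J P ↔ ∀ (U : C) (ι : Type u) (Y : ι → Over U),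
      Sieve.ofArrows (fun i => (Y i).left) (fun i => (Y i).hom) ∈ J U →
        Function.Bijective (CechEdge.toCech Y P) := by
  constructor
  · intro hP U ι Y hY
    haveI := Edge.isIso_eta Y hY ⟨P, hP⟩
    exact (ConcreteCategory.isIso_iff_bijective (Edge.eta Y P)).1 inferInstance
  · intro H
    rw [Presheaf.isSheaf_iff_isSheaf_forget J P (forget AddCommGrpCat.{u}),
      isSheaf_iff_isSheaf_of_type]
    intro U S hS
    let ι := Σ V : C, {g : V ⟶ U // S.arrows g}
    let Y : ι → Over U := fun i => Over.mk i.2.1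
    have hSeq : Sieve.ofArrows (fun i => (Y i).left) (fun i => (Y i).hom) = S := by
      apply le_antisymm
      · rw [Sieve.ofArrows, Sieve.generate_le_iff]
        rintro _ _ ⟨i⟩
        exact i.2.2
      · intro V g hg
        exact Sieve.ofArrows_mk (fun i => (Y i).left) (fun i => (Y i).hom) (⟨V, g, hg⟩ : ι)
    have hY : Sieve.ofArrows (fun i => (Y i).left) (fun i => (Y i).hom) ∈ J U := by
      rw [hSeq]
      exact hS
    have h1 := isSheafFor_of_bijective Y P (H U ι Y hY)
    have h2 := (Presieve.isSheafFor_iff_generate _).1 h1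
    have h3 : (Sieve.generate (Presieve.ofArrows (fun i => (Y i).left) (fun i => (Y i).hom))) = S :=
      hSeq
    rw [h3] at h2
    exact h2

end Groth.Agent.Lib.Lead.SheafIff
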