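import Groth.Prelude.Def_CohCx
import Groth.Agent.Lib.Lead.CechGen
import Groth.Agent.Lib.Lead.CechInjective

/-!
# Čech cohomology of an injective presheaf with respect to a family of objects over `U` (sites)

`C` is a small category with pullbacks, `U : C`, `Y : ι → Over U`.  The Čech complex is Mathlib's,
formed in `Over U`, of the presheaf `(Over.forget U).op ⋙ P`.  We show that it is exact in positive
degrees when `P` is an injective presheaf, by representing cochains by maps out of free presheaves.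
-/

set_option autoImplicit false
universe u

open CategoryTheory CategoryTheory.Limits Opposite

namespace Groth.Agent.Lib.Lead

variable {C : Type u} [SmallCategory C] [HasPullbacks C] {U : C} {ι : Type u} (Y : ι → Over U)

/-- A member of the family together with a map from `W` to it. -/
abbrev sT (W : C) : Type u := Σ i : ι, (W ⟶ (Y i).left)

variable {Y} in
/-- The structure map `W ⟶ U` of an element of `sT`. -/
def sStr {W : C} (t : sT Y W) : W ⟶ U := t.2 ≫ (Y t.1).hom

variable {Y} in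
/-- Restriction of an element of `sT` along `h : W' ⟶ W`. -/
def sRestr {W W' : C} (h : W' ⟶ W) (t : sT Y W) : sT Y W' := ⟨t.1, h ≫ t.2⟩

variable {Y} in
lemma sStr_restr {W W' : C} (h : W' ⟶ W) (t : sT Y W) : sStr (sRestr h t) = h ≫ sStr t := by
  simp [sStr, sRestr]

/-- Generators of the free presheaf in degree `n`: tuples of elements with the same structure map. -/
abbrev sGen (n : ℕ) (W : C) : Type u :=
  {τ : Fin (n + 1) → sT Y W // ∀ a b, sStr (τ a) = sStr (τ b)}

variable {Y} in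
/-- Restriction of generators. -/
def sGenRestr {n : ℕ} {W W' : C} (h : W' ⟶ W) (τ : sGen Y n W) : sGen Y n W' :=
  ⟨fun a => sRestr h (τ.1 a), fun a b => by rw [sStr_restr, sStr_restr, τ.2 a b]⟩

variable {Y} in
lemma sGenRestr_id {n : ℕ} {W : C} (τ : sGen Y n W) : sGenRestr (𝟙 W) τ = τ := by
  apply Subtype.ext
  funext a
  simp [sGenRestr, sRestr]

variable {Y} in
lemma sGenRestr_comp {n : ℕ} {W W' W'' : C} (h : W' ⟶ W) (h' : W'' ⟶ W') (τ : sGen Y n W) :
    sGenRestr (h' ≫ h) τ = sGenRestr h' (sGenRestr h τ) := by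
  apply Subtype.ext
  funext a
  simp [sGenRestr, sRestr]

/-- The free abelian presheaf representing degree `n` Čech cochains. -/
noncomputable def sK (n : ℕ) : Cᵒᵖ ⥤ AddCommGrpCat.{u} where
  obj W := AddCommGrpCat.of (FreeAbelianGroup (sGen Y n W.unop))
  map {W W'} f := AddCommGrpCat.ofHom (FreeAbelianGroup.map (sGenRestr f.unop))
  map_id W := by
    refine AddCommGrpCat.hom_ext (FreeAbelianGroup.lift_ext _ _ fun τ => ?_)
    simp only [AddCommGrpCat.hom_ofHom, FreeAbelianGroup.map_of_apply, unop_id, sGenRestr_id]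
    rfl
  map_comp f g := by
    refine AddCommGrpCat.hom_ext (FreeAbelianGroup.lift_ext _ _ fun τ => ?_)
    simp only [AddCommGrpCat.hom_ofHom, FreeAbelianGroup.map_of_apply, unop_comp, sGenRestr_comp,
      AddCommGrpCat.hom_comp, AddMonoidHom.comp_apply]

/-- Generators of `sK`. -/
noncomputable def sKGen (n : ℕ) (W : Cᵒᵖ) (τ : sGen Y n W.unop) : (sK Y n).obj W :=
  FreeAbelianGroup.of τ

lemma sK_map_of (n : ℕ) {W W' : Cᵒᵖ} (f : W ⟶ W') (τ : sGen Y n W.unop) :
    (sK Y n).map f (sKGen Y n W τ) = sKGen Y n W' (sGenRestr f.unop τ) :=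
  FreeAbelianGroup.map_of_apply _

lemma sK_hom_ext (n : ℕ) {P : Cᵒᵖ ⥤ AddCommGrpCat.{u}} {ψ ψ' : sK Y n ⟶ P}
    (h : ∀ (W : Cᵒᵖ) (τ : sGen Y n W.unop),
      ψ.app W (sKGen Y n W τ) = ψ'.app W (sKGen Y n W τ)) : ψ = ψ' := by
  ext W : 2
  exact AddCommGrpCat.hom_ext (FreeAbelianGroup.lift_ext _ _ (h W))

variable {Y} in
/-- Face maps on generators. -/
def sGenFace {n : ℕ} (i : Fin (n + 2)) {W : C} (τ : sGen Y (n + 1) W) : sGen Y n W :=
  ⟨τ.1 ∘ i.succAbove, fun a b => τ.2 _ _⟩

/-- Face maps `K_{n+1} ⟶ K_n`. -/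
noncomputable def sKFace (n : ℕ) (i : Fin (n + 2)) : sK Y (n + 1) ⟶ sK Y n where
  app W := AddCommGrpCat.ofHom (FreeAbelianGroup.map (sGenFace i))
  naturality W W' f := by
    refine AddCommGrpCat.hom_ext (FreeAbelianGroup.lift_ext _ _ fun x => ?_)
    simp only [sK, AddCommGrpCat.hom_comp, AddCommGrpCat.hom_ofHom, AddMonoidHom.comp_apply,
      FreeAbelianGroup.map_of_apply]
    rfl

/-- The differential `K_{n+1} ⟶ K_n`. -/
noncomputable def sKd (n : ℕ) : sK Y (n + 1) ⟶ sK Y n :=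
  ∑ i : Fin (n + 2), (-1 : ℤ) ^ (i : ℕ) • sKFace Y n i

lemma sKd_app_of (n : ℕ) (W : Cᵒᵖ) (τ : sGen Y (n + 1) W.unop) :
    (sKd Y n).app W (sKGen Y (n + 1) W τ) =
      ∑ i : Fin (n + 2), (-1 : ℤ) ^ (i : ℕ) • sKGen Y n W (sGenFace i τ) := by
  dsimp only [sKd]
  rw [NatTrans.app_sum, addCommGrpCat_sum_apply]
  refine Finset.sum_congr rfl fun i _ => ?_
  rw [NatTrans.app_zsmul, addCommGrpCat_zsmul_apply]
  congr 1

end Groth.Agent.Lib.Lead
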