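import Groth.Agent.Lib.Lead.CechGen
import Groth.Agent.Lib.Lead.CechInjective
import Mathlib.CategoryTheory.EssentiallySmall

/-!
# Injective presheaves are Čech-acyclic: universe-general version

`C` is any locally `w`-small category, `U : C` with finite products in `Over U`, `Y : ι → Over U`
with `ι : Type w`, presheaves with values in `AddCommGrpCat.{w}`.  Port of `CechSite`, `CechSite2`,
`CechSite3` (which treat small categories with pullbacks), hom-sets being replaced by their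
`w`-small models.
-/

set_option autoImplicit false
universe w v u

open CategoryTheory CategoryTheory.Limits Opposite

namespace Groth.Agent.Lib.Lead.UCech

open Groth.Agent.Lib.Lead

-- ==== from CechSite ====


variable {C : Type u} [Category.{v} C] [LocallySmall.{w} C] {U : C} [HasFiniteProducts (Over U)]
  {ι : Type w} (Y : ι → Over U)

/-- A member of the family together with a map from `W` to it. -/
abbrev sT (W : C) : Type w := Σ i : ι, Shrink.{w} (W ⟶ (Y i).left)

variable {Y} in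
/-- The morphism underlying an element of `sT`. -/
noncomputable def sHom {W : C} (t : sT Y W) : W ⟶ (Y t.1).left := (equivShrink _).symm t.2

variable {Y} in
/-- The element of `sT` attached to a morphism. -/
noncomputable def sMk {W : C} (i : ι) (f : W ⟶ (Y i).left) : sT Y W := ⟨i, equivShrink _ f⟩

variable {Y} in
@[simp] lemma sHom_mk {W : C} (i : ι) (f : W ⟶ (Y i).left) : sHom (sMk (Y := Y) i f) = f :=
  (equivShrink _).symm_apply_apply f

variable {Y} in
@[simp] lemma sMk_hom {W : C} (t : sT Y W) : sMk t.1 (sHom t) = t := by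
  obtain ⟨i, f⟩ := t
  exact Sigma.ext rfl (heq_of_eq ((equivShrink _).apply_symm_apply f))

variable {Y} in
lemma sMk_congr {W : C} (i : ι) {f f' : W ⟶ (Y i).left} (h : f = f') :
    sMk (Y := Y) i f = sMk i f' := by rw [h]

variable {Y} in
/-- The structure map `W ⟶ U` of an element of `sT`. -/
noncomputable def sStr {W : C} (t : sT Y W) : W ⟶ U := sHom t ≫ (Y t.1).hom

variable {Y} in
/-- Restriction of an element of `sT` along `h : W' ⟶ W`. -/
noncomputable def sRestr {W W' : C} (h : W' ⟶ W) (t : sT Y W) : sT Y W' := sMk t.1 (h ≫ sHom t)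

variable {Y} in
lemma sStr_mk {W : C} (i : ι) (f : W ⟶ (Y i).left) : sStr (sMk (Y := Y) i f) = f ≫ (Y i).hom := by
  change sHom (sMk (Y := Y) i f) ≫ (Y i).hom = _
  exact congrArg (· ≫ (Y i).hom) (sHom_mk i f)

variable {Y} in
lemma sHom_restr {W W' : C} (h : W' ⟶ W) (t : sT Y W) : sHom (sRestr h t) = h ≫ sHom t :=
  sHom_mk _ _

variable {Y} in
lemma sStr_restr {W W' : C} (h : W' ⟶ W) (t : sT Y W) : sStr (sRestr h t) = h ≫ sStr t := by
  unfold sRestr
  rw [sStr_mk, Category.assoc]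
  rfl

variable {Y} in
lemma sRestr_id {W : C} (t : sT Y W) : sRestr (𝟙 W) t = t := by
  unfold sRestr
  rw [Category.id_comp, sMk_hom]

variable {Y} in
lemma sRestr_comp {W W' W'' : C} (h : W' ⟶ W) (h' : W'' ⟶ W') (t : sT Y W) :
    sRestr (h' ≫ h) t = sRestr h' (sRestr h t) := by
  unfold sRestr
  change sMk t.1 ((h' ≫ h) ≫ sHom t) = sMk t.1 (h' ≫ sHom (sMk t.1 (h ≫ sHom t)))
  rw [sHom_mk, Category.assoc]

/-- Generators of the free presheaf in degree `n`: tuples of elements with the same structure map. -/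
abbrev sGen (n : ℕ) (W : C) : Type w :=
  {τ : Fin (n + 1) → sT Y W // ∀ a b, sStr (τ a) = sStr (τ b)}

variable {Y} in
/-- Restriction of generators. -/
noncomputable def sGenRestr {n : ℕ} {W W' : C} (h : W' ⟶ W) (τ : sGen Y n W) : sGen Y n W' :=
  ⟨fun a => sRestr h (τ.1 a), fun a b => by rw [sStr_restr, sStr_restr, τ.2 a b]⟩

variable {Y} in
lemma sGenRestr_id {n : ℕ} {W : C} (τ : sGen Y n W) : sGenRestr (𝟙 W) τ = τ := by
  apply Subtype.ext
  funext a
  exact sRestr_id _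

variable {Y} in
lemma sGenRestr_comp {n : ℕ} {W W' W'' : C} (h : W' ⟶ W) (h' : W'' ⟶ W') (τ : sGen Y n W) :
    sGenRestr (h' ≫ h) τ = sGenRestr h' (sGenRestr h τ) := by
  apply Subtype.ext
  funext a
  exact sRestr_comp h h' _

/-- The free abelian presheaf representing degree `n` Čech cochains. -/
noncomputable def sK (n : ℕ) : Cᵒᵖ ⥤ AddCommGrpCat.{w} where
  obj W := AddCommGrpCat.of (FreeAbelianGroup (sGen Y n W.unop))
  map {W W'} f := AddCommGrpCat.ofHom (FreeAbelianGroup.map (sGenRestr f.unop))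
  map_id W := by
    refine AddCommGrpCat.hom_ext (FreeAbelianGroup.lift_ext _ _ fun τ => ?_)
    simp only [AddCommGrpCat.hom_ofHom, FreeAbelianGroup.map_of_apply, unop_id, sGenRestr_id]
    rfl
  map_comp f g := by
    refine AddCommGrpCat.hom_ext (FreeAbelianGroup.lift_ext _ _ fun τ => ?_)
    simp only [AddCommGrpCat.hom_ofHom, FreeAbelianGroup.map_of_apply, unop_comp, sGenRestr_comp,
      AddCommGrpCat.hom_comp, AddMonoidHom.comp_apply]

/-- Generators of `sK`. -/
noncomputable def sKGen (n : ℕ) (W : Cᵒᵖ) (τ : sGen Y n W.unop) : (sK Y n).obj W :=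
  FreeAbelianGroup.of τ

lemma sK_map_of (n : ℕ) {W W' : Cᵒᵖ} (f : W ⟶ W') (τ : sGen Y n W.unop) :
    (sK Y n).map f (sKGen Y n W τ) = sKGen Y n W' (sGenRestr f.unop τ) :=
  FreeAbelianGroup.map_of_apply _

lemma sK_hom_ext (n : ℕ) {P : Cᵒᵖ ⥤ AddCommGrpCat.{w}} {ψ ψ' : sK Y n ⟶ P}
    (h : ∀ (W : Cᵒᵖ) (τ : sGen Y n W.unop),
      ψ.app W (sKGen Y n W τ) = ψ'.app W (sKGen Y n W τ)) : ψ = ψ' := by
  ext W : 2
  exact AddCommGrpCat.hom_ext (FreeAbelianGroup.lift_ext _ _ (h W))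

variable {Y} in
/-- Face maps on generators. -/
noncomputable def sGenFace {n : ℕ} (i : Fin (n + 2)) {W : C} (τ : sGen Y (n + 1) W) : sGen Y n W :=
  ⟨τ.1 ∘ i.succAbove, fun a b => τ.2 _ _⟩

/-- Face maps `K_{n+1} ⟶ K_n`. -/
noncomputable def sKFace (n : ℕ) (i : Fin (n + 2)) : sK Y (n + 1) ⟶ sK Y n where
  app W := AddCommGrpCat.ofHom (FreeAbelianGroup.map (sGenFace i))
  naturality W W' f := by
    refine AddCommGrpCat.hom_ext (FreeAbelianGroup.lift_ext _ _ fun x => ?_)
    simp only [sK, AddCommGrpCat.hom_comp, AddCommGrpCat.hom_ofHom, AddMonoidHom.comp_apply,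
      FreeAbelianGroup.map_of_apply]
    rfl

/-- The differential `K_{n+1} ⟶ K_n`. -/
noncomputable def sKd (n : ℕ) : sK Y (n + 1) ⟶ sK Y n :=
  ∑ i : Fin (n + 2), (-1 : ℤ) ^ (i : ℕ) • sKFace Y n i

lemma sKd_app_of (n : ℕ) (W : Cᵒᵖ) (τ : sGen Y (n + 1) W.unop) :
    (sKd Y n).app W (sKGen Y (n + 1) W τ) =
      ∑ i : Fin (n + 2), (-1 : ℤ) ^ (i : ℕ) • sKGen Y n W (sGenFace i τ) := by
  dsimp only [sKd]
  rw [NatTrans.app_sum, addCommGrpCat_sum_apply]
  refine Finset.sum_congr rfl fun i _ => ?_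
  rw [NatTrans.app_zsmul, addCommGrpCat_zsmul_apply]
  congr 1


-- ==== from CechSite2 ====


variable {Y} in
/-- The tuple of indices of a generator. -/
def sIdx {n : ℕ} {W : C} (τ : sGen Y n W) : Fin (n + 1) → ι := fun a => (τ.1 a).1

variable {Y} in
/-- The map to the iterated fibre product attached to a generator, in `Over U`. -/
noncomputable def sToProdOver {n : ℕ} {W : C} (τ : sGen Y n W) :
    Over.mk (sStr (τ.1 0)) ⟶ gObj Y (sIdx τ) :=
  Pi.lift (fun a => (Over.homMk (sHom (τ.1 a)) (τ.2 a 0) : Over.mk (sStr (τ.1 0)) ⟶ Y (sIdx τ a)))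

variable {Y} in
/-- The map to the iterated fibre product attached to a generator. -/
noncomputable def sToProd {n : ℕ} {W : C} (τ : sGen Y n W) : W ⟶ (gObj Y (sIdx τ)).left :=
  (sToProdOver τ).left

variable {Y} in
lemma sToProd_π {n : ℕ} {W : C} (τ : sGen Y n W) (a : Fin (n + 1)) :
    sToProd τ ≫ (Pi.π (Y ∘ sIdx τ) a).left = sHom (τ.1 a) := by
  have h : sToProdOver τ ≫ Pi.π (Y ∘ sIdx τ) a =
      (Over.homMk (sHom (τ.1 a)) (τ.2 a 0) : Over.mk (sStr (τ.1 0)) ⟶ Y (sIdx τ a)) := by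
    unfold sToProdOver
    exact Pi.lift_π _ _
  have h' := congrArg (fun φ => φ.left) h
  exact h'

/-- Maps to an iterated fibre product are determined by their components. -/
lemma prod_left_ext {n : ℕ} {W : C} (x : Fin (n + 1) → ι) (f f' : W ⟶ (gObj Y x).left)
    (h : ∀ a, f ≫ (Pi.π (Y ∘ x) a).left = f' ≫ (Pi.π (Y ∘ x) a).left) : f = f' := by
  have hw : f' ≫ (gObj Y x).hom = f ≫ (gObj Y x).hom := by
    have h0 := h 0
    have e : (Pi.π (Y ∘ x) 0).left ≫ (Y (x 0)).hom = (gObj Y x).hom := Over.w (Pi.π (Y ∘ x) 0)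
    rw [← e, ← Category.assoc, ← Category.assoc, h0]
  let F : Over.mk (f ≫ (gObj Y x).hom) ⟶ gObj Y x := Over.homMk f rfl
  let F' : Over.mk (f ≫ (gObj Y x).hom) ⟶ gObj Y x := Over.homMk f' hw
  have hFF' : F = F' := by
    apply Pi.hom_ext
    intro a
    apply Over.OverMorphism.ext
    exact h a
  have := congrArg (fun φ => φ.left) hFF'
  exact this



variable (P : Cᵒᵖ ⥤ AddCommGrpCat.{w})

/-- The presheaf on `Over U` whose Čech complex is considered. -/
abbrev sPU : (Over U)ᵒᵖ ⥤ AddCommGrpCat.{w} := (Over.forget U).op ⋙ P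

variable {Y} in
lemma sToProd_restr {n : ℕ} {W W' : C} (h : W' ⟶ W) (τ : sGen Y n W) :
    sToProd (sGenRestr h τ) = h ≫ sToProd τ := by
  apply prod_left_ext Y (sIdx τ)
  intro a
  have h1 := sToProd_π (sGenRestr h τ) a
  have h2 := sToProd_π τ a
  rw [Category.assoc, h2]
  exact h1.trans (sHom_restr h (τ.1 a))

variable {Y} in
lemma sToProd_face {n : ℕ} {W : C} (i : Fin (n + 2)) (τ : sGen Y (n + 1) W) :
    sToProd (sGenFace i τ) = sToProd τ ≫ (gFace Y (sIdx τ) i).left := by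
  apply prod_left_ext Y (sIdx τ ∘ Fin.succAbove i)
  intro a
  have h1 := sToProd_π (sGenFace i τ) a
  have h2 := sToProd_π τ (Fin.succAbove i a)
  have h3 : gFace Y (sIdx τ) i ≫ Pi.π (Y ∘ (sIdx τ ∘ Fin.succAbove i)) a =
      Pi.π (Y ∘ sIdx τ) (Fin.succAbove i a) := by
    unfold gFace
    exact Pi.lift_π _ _
  have h3' := congrArg (fun φ => φ.left) h3
  have h4 : (gFace Y (sIdx τ) i).left ≫ (Pi.π (Y ∘ (sIdx τ ∘ Fin.succAbove i)) a).left =
      (Pi.π (Y ∘ sIdx τ) (Fin.succAbove i a)).left := h3'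
  refine h1.trans ?_
  refine Eq.trans ?_ (Category.assoc _ _ _).symm
  exact ((congrArg (fun m => sToProd τ ≫ m) h4).trans h2).symm

variable {Y} in
lemma map_sToProd_restr {n : ℕ} {W W' : C} (h : W' ⟶ W) (τ : sGen Y n W)
    (z : P.obj (op (gObj Y (sIdx τ)).left)) :
    P.map (sToProd (sGenRestr h τ)).op z = P.map h.op (P.map (sToProd τ).op z) := by
  have key : ∀ (f' : W' ⟶ (gObj Y (sIdx τ)).left), f' = h ≫ sToProd τ →
      P.map f'.op z = P.map h.op (P.map (sToProd τ).op z) := by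
    rintro _ rfl
    rw [op_comp, P.map_comp]
    rfl
  exact key _ (sToProd_restr h τ)

/-- The morphism `K_n ⟶ P` attached to a cochain. -/
noncomputable def sKDesc (n : ℕ) (c : GCochain Y (sPU P) n) : sK Y n ⟶ P where
  app W := AddCommGrpCat.ofHom
    (FreeAbelianGroup.lift (fun τ : sGen Y n W.unop => P.map (sToProd τ).op (c (sIdx τ))))
  naturality W W' f := by
    refine AddCommGrpCat.hom_ext (FreeAbelianGroup.lift_ext _ _ fun τ => ?_)
    simp only [sK, AddCommGrpCat.hom_comp, AddCommGrpCat.hom_ofHom, AddMonoidHom.comp_apply,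
      FreeAbelianGroup.map_of_apply, FreeAbelianGroup.lift_apply_of]
    exact map_sToProd_restr P f.unop τ (c (sIdx τ))

lemma sKDesc_app_of (n : ℕ) (c : GCochain Y (sPU P) n) (W : Cᵒᵖ) (τ : sGen Y n W.unop) :
    (sKDesc Y P n c).app W (sKGen Y n W τ) = P.map (sToProd τ).op (c (sIdx τ)) :=
  FreeAbelianGroup.lift_apply_of _ _

/-- The canonical generator over an iterated fibre product. -/
noncomputable def sCanon {n : ℕ} (x : Fin (n + 1) → ι) : sGen Y n (gObj Y x).left :=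
  ⟨fun a => sMk (x a) (Pi.π (Y ∘ x) a).left, fun a b => by
    rw [sStr_mk, sStr_mk]
    exact (Over.w (Pi.π (Y ∘ x) a)).trans (Over.w (Pi.π (Y ∘ x) b)).symm⟩

lemma sToProd_canon {n : ℕ} (x : Fin (n + 1) → ι) : sToProd (sCanon Y x) = 𝟙 _ := by
  apply prod_left_ext Y x
  intro a
  rw [Category.id_comp]
  exact (sToProd_π (sCanon Y x) a).trans (sHom_mk _ _)

/-- The cochain attached to a morphism `K_n ⟶ P`. -/
noncomputable def sKEval (n : ℕ) (ψ : sK Y n ⟶ P) : GCochain Y (sPU P) n :=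
  fun x => ψ.app (op (gObj Y x).left) (sKGen Y n (op (gObj Y x).left) (sCanon Y x))

lemma sKEval_desc (n : ℕ) (c : GCochain Y (sPU P) n) : sKEval Y P n (sKDesc Y P n c) = c := by
  funext x
  dsimp only [sKEval]
  rw [sKDesc_app_of]
  have h := sToProd_canon Y x
  change (P.map (sToProd (sCanon Y x)).op) (c x) = c x
  rw [h]
  change (P.map (𝟙 _)) (c x) = c x
  rw [P.map_id]
  rfl

variable {Y} in
lemma sGenRestr_canon {n : ℕ} {W : C} (τ : sGen Y n W) :
    sGenRestr (sToProd τ) (sCanon Y (sIdx τ)) = τ := by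
  apply Subtype.ext
  funext a
  change sMk (τ.1 a).1 (sToProd τ ≫ sHom (sMk (Y := Y) (sIdx τ a) (Pi.π (Y ∘ sIdx τ) a).left)) = τ.1 a
  have e : sToProd τ ≫ sHom (sMk (Y := Y) (sIdx τ a) (Pi.π (Y ∘ sIdx τ) a).left) = sHom (τ.1 a) :=
    (congrArg (sToProd τ ≫ ·) (sHom_mk (Y := Y) (sIdx τ a) (Pi.π (Y ∘ sIdx τ) a).left)).trans
      (sToProd_π τ a)
  exact (sMk_congr _ e).trans (sMk_hom _)

lemma sKDesc_eval (n : ℕ) (ψ : sK Y n ⟶ P) : sKDesc Y P n (sKEval Y P n ψ) = ψ := by
  apply sK_hom_ext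
  intro W τ
  rw [sKDesc_app_of]
  dsimp only [sKEval]
  have h := NatTrans.naturality_apply ψ (sToProd τ).op
    (sKGen Y n (op (gObj Y (sIdx τ)).left) (sCanon Y (sIdx τ)))
  rw [← h, sK_map_of]
  congr 2
  exact sGenRestr_canon τ

variable {Y} in
lemma map_sToProd_face {n : ℕ} {W : C} (i : Fin (n + 2)) (τ : sGen Y (n + 1) W)
    (z : P.obj (op (gObj Y (sIdx τ ∘ Fin.succAbove i)).left)) :
    P.map (sToProd (sGenFace i τ)).op z =
      P.map (sToProd τ).op (P.map (gFace Y (sIdx τ) i).left.op z) := by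
  have key : ∀ (f' : W ⟶ (gObj Y (sIdx τ ∘ Fin.succAbove i)).left),
      f' = sToProd τ ≫ (gFace Y (sIdx τ) i).left →
      P.map f'.op z = P.map (sToProd τ).op (P.map (gFace Y (sIdx τ) i).left.op z) := by
    rintro _ rfl
    rw [op_comp, P.map_comp]
    rfl
  exact key _ (sToProd_face i τ)

lemma sKd_desc (n : ℕ) (c : GCochain Y (sPU P) n) :
    sKd Y n ≫ sKDesc Y P n c = sKDesc Y P (n + 1) (gCoboundary Y (sPU P) n c) := by
  apply sK_hom_ext
  intro W τ
  rw [NatTrans.comp_app, ConcreteCategory.comp_apply, sKd_app_of, map_sum, sKDesc_app_of]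
  have hR : (gCoboundary Y (sPU P) n c (sIdx τ) : P.obj (op (gObj Y (sIdx τ)).left)) =
      ∑ i : Fin (n + 2), (-1 : ℤ) ^ (i : ℕ) •
        (P.map (gFace Y (sIdx τ) i).left.op) (c (sIdx τ ∘ Fin.succAbove i)) := rfl
  rw [hR, map_sum]
  refine Finset.sum_congr rfl fun i _ => ?_
  rw [map_zsmul, map_zsmul, sKDesc_app_of]
  congr 1
  exact map_sToProd_face P i τ (c (sIdx τ ∘ Fin.succAbove i))


-- ==== from CechSite3 ====


section Homotopy

variable {Y}

/-- A chosen element of `sT` with given structure map. -/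
noncomputable def sBp {W : C} (g : W ⟶ U) (h : ∃ t : sT Y W, sStr t = g) : sT Y W := h.choose

lemma sBp_spec {W : C} (g : W ⟶ U) (h : ∃ t : sT Y W, sStr t = g) : sStr (sBp g h) = g :=
  h.choose_spec

lemma sBp_congr {W : C} {g g' : W ⟶ U} (e : g = g') (h : ∃ t : sT Y W, sStr t = g)
    (h' : ∃ t : sT Y W, sStr t = g') : sBp g h = sBp g' h' := by
  subst e
  rfl

/-- Prepending the chosen base point. -/
noncomputable def sGenCons {m : ℕ} {W : C} (τ : sGen Y m W) : sGen Y (m + 1) W :=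
  ⟨Fin.cons (sBp (sStr (τ.1 0)) ⟨τ.1 0, rfl⟩) τ.1, by
    have h0 : ∀ a : Fin (m + 2),
        sStr ((Fin.cons (sBp (sStr (τ.1 0)) ⟨τ.1 0, rfl⟩) τ.1 : Fin (m + 2) → sT Y W) a) =
          sStr (τ.1 0) := by
      intro a
      refine Fin.cases ?_ (fun b => ?_) a
      · simpa using sBp_spec (sStr (τ.1 0)) ⟨τ.1 0, rfl⟩
      · simpa using τ.2 b 0
    intro a b
    rw [h0 a, h0 b]⟩

lemma sGenFace_zero_cons {m : ℕ} {W : C} (τ : sGen Y m W) : sGenFace 0 (sGenCons τ) = τ := by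
  apply Subtype.ext
  funext a
  simp [sGenFace, sGenCons, Fin.succAbove_zero]

lemma sGenFace_succ_cons {m : ℕ} {W : C} (k : Fin (m + 2)) (τ : sGen Y (m + 1) W) :
    sGenFace k.succ (sGenCons τ) = sGenCons (sGenFace k τ) := by
  apply Subtype.ext
  funext a
  refine Fin.cases ?_ (fun b => ?_) a
  · simp only [sGenFace, sGenCons, Function.comp_apply, Fin.succ_succAbove_zero, Fin.cons_zero]
    exact sBp_congr (τ.2 _ _) _ _
  · simp [sGenFace, sGenCons, Fin.removeNth]

variable (Y) in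
/-- The contracting homotopy on sections over `W`. -/
noncomputable def sKh (m : ℕ) (W : Cᵒᵖ) : (sK Y m).obj W →+ (sK Y (m + 1)).obj W :=
  FreeAbelianGroup.map (sGenCons (m := m) (W := W.unop))

lemma sKh_gen (m : ℕ) (W : Cᵒᵖ) (τ : sGen Y m W.unop) :
    sKh Y m W (sKGen Y m W τ) = sKGen Y (m + 1) W (sGenCons τ) :=
  FreeAbelianGroup.map_of_apply _

lemma sK_homotopy (n : ℕ) (W : Cᵒᵖ) (z : (sK Y (n + 1)).obj W) :
    (sKd Y (n + 1)).app W (sKh Y (n + 1) W z) =
      z - sKh Y n W ((sKd Y n).app W z) := by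
  have key : ((sKd Y (n + 1)).app W).hom.comp (sKh Y (n + 1) W) =
      AddMonoidHom.id _ - (sKh Y n W).comp ((sKd Y n).app W).hom := by
    refine FreeAbelianGroup.lift_ext _ _ fun τ => ?_
    change (sKd Y (n + 1)).app W (sKh Y (n + 1) W (sKGen Y (n + 1) W τ)) =
      sKGen Y (n + 1) W τ - sKh Y n W ((sKd Y n).app W (sKGen Y (n + 1) W τ))
    rw [sKh_gen, sKd_app_of, sKd_app_of, Fin.sum_univ_succ, map_sum]
    simp only [Fin.val_zero, pow_zero, one_smul, sGenFace_zero_cons, Fin.val_succ,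
      sGenFace_succ_cons, map_zsmul, sKh_gen, pow_succ, mul_neg, mul_one, neg_smul,
      Finset.sum_neg_distrib]
    abel
  exact DFunLike.congr_fun key z

/-- Sectionwise exactness of the free presheaf complex. -/
lemma sK_exact_app (n : ℕ) (W : Cᵒᵖ) (z : (sK Y (n + 1)).obj W)
    (hz : (sKd Y n).app W z = 0) :
    ∃ w : (sK Y (n + 2)).obj W, (sKd Y (n + 1)).app W w = z := by
  refine ⟨sKh Y (n + 1) W z, ?_⟩
  rw [sK_homotopy, hz, map_zero, sub_zero]

end Homotopy

variable (P : Cᵒᵖ ⥤ AddCommGrpCat.{w})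

lemma sKDesc_zero (n : ℕ) : sKDesc Y P n 0 = 0 := by
  apply sK_hom_ext
  intro W τ
  rw [sKDesc_app_of]
  change (P.map (sToProd τ).op) 0 = 0
  exact map_zero _

/-- `d ∘ d = 0` for the free presheaf complex. -/
lemma sKd_comp (n : ℕ) : sKd Y (n + 1) ≫ sKd Y n = 0 := by
  have h1 : sKd Y n = sKDesc Y (sK Y n) (n + 1)
      (gCoboundary Y (sPU (sK Y n)) n (sKEval Y (sK Y n) n (𝟙 _))) := by
    rw [← sKd_desc, sKDesc_eval, Category.comp_id]
  rw [h1, sKd_desc, gCoboundary_comp, sKDesc_zero]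

/-- Čech cocycles of positive degree with values in an injective presheaf are coboundaries. -/
theorem sCech_exact_of_injective_presheaf (I : Cᵒᵖ ⥤ AddCommGrpCat.{w}) [Injective I]
    (n : ℕ) (c : GCochain Y (sPU I) (n + 1)) (hc : gCoboundary Y (sPU I) (n + 1) c = 0) :
    ∃ b : GCochain Y (sPU I) n, gCoboundary Y (sPU I) n b = c := by
  let S : ShortComplex (Cᵒᵖ ⥤ AddCommGrpCat.{w}) :=
    ShortComplex.mk (sKd Y (n + 1)) (sKd Y n) (sKd_comp Y n)
  have hS : S.Exact := shortComplex_exact_of_evaluation S (fun W => by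
    rw [ShortComplex.ab_exact_iff]
    intro z hz
    exact sK_exact_app n W z hz)
  have hφ : S.f ≫ sKDesc Y I (n + 1) c = 0 := by
    change sKd Y (n + 1) ≫ sKDesc Y I (n + 1) c = 0
    rw [sKd_desc, hc, sKDesc_zero]
  have hψ : sKd Y n ≫ hS.descToInjective _ hφ = sKDesc Y I (n + 1) c :=
    hS.comp_descToInjective _ hφ
  refine ⟨sKEval Y I n (hS.descToInjective _ hφ), ?_⟩
  have h : sKDesc Y I (n + 1) (gCoboundary Y (sPU I) n (sKEval Y I n (hS.descToInjective _ hφ))) =
      sKDesc Y I (n + 1) c := by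
    rw [← sKd_desc, sKDesc_eval, hψ]
  have h' := congrArg (sKEval Y I (n + 1)) h
  rwa [sKEval_desc, sKEval_desc] at h'

/-- **Injective presheaves are Čech-acyclic** for every family over `U` (universe-general). -/
theorem isZero_cechH_of_injective_presheaf (I : Cᵒᵖ ⥤ AddCommGrpCat.{w}) [Injective I] (n : ℕ) :
    IsZero ((gCx Y (sPU I)).homology (n + 1)) := by
  rw [isZero_gH_succ_iff]
  intro c hc
  exact sCech_exact_of_injective_presheaf Y I n c hc

end Groth.Agent.Lib.Lead.UCech
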