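import Mathlib.CategoryTheory.Abelian.RightDerived
import Mathlib.Algebra.Homology.ShortComplex.HomologicalComplex

/-!
# Central endomorphisms (natural endomorphisms of the identity functor) and derived functors (lead)

For abelian categories `𝒜`, `ℬ`, natural endomorphisms `α : 𝟭 𝒜 ⟶ 𝟭 𝒜`, `β : 𝟭 ℬ ⟶ 𝟭 ℬ` (for module
categories: multiplication by a central scalar) and an additive functor `Φ : 𝒜 ⥤ ℬ` with
`Φ (α_X) = β_{Φ X}`, the right derived functors satisfy `(RⁿΦ)(α_X) = β_{RⁿΦ X}`.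
Also: the map induced on homology by `α` acting termwise on a complex is `α` on the homology.
-/

universe v u v' u'

namespace Groth.Agent.Lib.Lead.CentralAct

open CategoryTheory Limits HomologicalComplex

variable {𝒜 : Type u} [Category.{v} 𝒜] [Abelian 𝒜] {ℬ : Type u'} [Category.{v'} ℬ] [Abelian ℬ]

/-- termwise action of a central endomorphism on a complex -/
@[simps]
def onCx {ι : Type*} {c : ComplexShape ι} (α : 𝟭 𝒜 ⟶ 𝟭 𝒜) (K : HomologicalComplex 𝒜 c) : K ⟶ K where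
  f n := α.app (K.X n)
  comm' i j _ := (α.naturality (K.d i j)).symm

lemma cyclesMap_onCx {ι : Type*} {c : ComplexShape ι} (α : 𝟭 𝒜 ⟶ 𝟭 𝒜)
    (K : HomologicalComplex 𝒜 c) (n : ι) :
    cyclesMap (onCx α K) n = α.app (K.cycles n) := by
  rw [← cancel_mono (K.iCycles n), cyclesMap_i]
  exact α.naturality (K.iCycles n)

lemma homologyMap_onCx {ι : Type*} {c : ComplexShape ι} (α : 𝟭 𝒜 ⟶ 𝟭 𝒜)
    (K : HomologicalComplex 𝒜 c) (n : ι) :
    homologyMap (onCx α K) n = α.app (K.homology n) := by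
  rw [← cancel_epi (K.homologyπ n), homologyπ_naturality, cyclesMap_onCx]
  exact (α.naturality (K.homologyπ n)).symm

lemma map_onCx {ι : Type*} {c : ComplexShape ι} (Φ : 𝒜 ⥤ ℬ) [Φ.Additive]
    (α : 𝟭 𝒜 ⟶ 𝟭 𝒜) (β : 𝟭 ℬ ⟶ 𝟭 ℬ) (h : ∀ X : 𝒜, Φ.map (α.app X) = β.app (Φ.obj X))
    (K : HomologicalComplex 𝒜 c) :
    (Φ.mapHomologicalComplex c).map (onCx α K) = onCx β ((Φ.mapHomologicalComplex c).obj K) := by
  ext n
  exact h (K.X n)

/-- **Derived functors are compatible with central endomorphisms.** -/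
theorem rightDerived_map_central [HasInjectiveResolutions 𝒜] (Φ : 𝒜 ⥤ ℬ) [Φ.Additive]
    (α : 𝟭 𝒜 ⟶ 𝟭 𝒜) (β : 𝟭 ℬ ⟶ 𝟭 ℬ) (h : ∀ X : 𝒜, Φ.map (α.app X) = β.app (Φ.obj X))
    (n : ℕ) (X : 𝒜) :
    (Φ.rightDerived n).map (α.app X) = β.app ((Φ.rightDerived n).obj X) := by
  let I := injectiveResolution X
  have w : I.ι ≫ onCx α I.cocomplex = (CochainComplex.single₀ 𝒜).map (α.app X) ≫ I.ι := by
    ext
    rw [comp_f, comp_f, CochainComplex.single₀_map_f_zero]
    exact α.naturality (I.ι.f 0)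
  rw [Φ.rightDerived_map_eq n (α.app X) (onCx α I.cocomplex) w]
  dsimp only [Functor.comp_map]
  rw [map_onCx Φ α β h]
  change _ ≫ homologyMap (onCx β _) n ≫ _ = _
  rw [homologyMap_onCx]
  have h1 : β.app (((Φ.mapHomologicalComplex (ComplexShape.up ℕ)).obj I.cocomplex).homology n) ≫
      (I.isoRightDerivedObj Φ n).inv =
      (I.isoRightDerivedObj Φ n).inv ≫ β.app ((Φ.rightDerived n).obj X) :=
    (β.naturality (I.isoRightDerivedObj Φ n).inv).symm
  exact (whisker_eq _ h1).trans (Iso.hom_inv_id_assoc _ _)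

end Groth.Agent.Lib.Lead.CentralAct
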