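import Groth.Agent.Lib.Lead.CechSES

/-!
# The coarse topology generated by a family of opens

The unions of finite intersections of a family `U` of opens of `X` form a topology on the set `⋃ U`.
Pushing `F|_{⋃ U}` forward to this coarse space does not change the Čech complex of the family.
-/
set_option autoImplicit false
universe u
open CategoryTheory TopologicalSpace Opposite CategoryTheory.Limits
namespace Groth.Agent.Lib.Lead
variable {X : TopCat.{u}} {ι : Type u} (U : ι → Opens X)

/-- Index data for a union of finite intersections. -/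
abbrev CoarseIdx (ι : Type u) (κ : Type u) : Type u := κ → Σ p : ℕ, Fin (p + 1) → ι

/-- The union of finite intersections attached to index data, as an open of `X`. -/
noncomputable abbrev coarseOpen {κ : Type u} (a : CoarseIdx ι κ) : Opens X :=
  ⨆ k, ⨅ j, U ((a k).2 j)

lemma mem_coarseOpen {κ : Type u} (a : CoarseIdx ι κ) (x : X) :
    x ∈ coarseOpen U a ↔ ∃ k, ∀ j, x ∈ U ((a k).2 j) := by
  rw [Opens.mem_iSup]
  refine exists_congr fun _ => ?_
  rw [← SetLike.mem_coe, Opens.coe_iInf, Set.mem_iInter]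
  rfl

lemma coarseOpen_le {κ : Type u} (a : CoarseIdx ι κ) : coarseOpen U a ≤ iSup U :=
  iSup_le fun k => (iInf_le _ 0).trans (le_iSup U _)

/-- The underlying set of the coarse space: the union of the family. -/
def CoarseSpace : Type u := ↥(iSup U)

variable {U} in
/-- The underlying point of `X`. -/
def CoarseSpace.val (w : CoarseSpace U) : X := Subtype.val (p := fun x => x ∈ iSup U) w

variable {U} in
lemma CoarseSpace.val_mem (w : CoarseSpace U) : w.val ∈ iSup U :=
  Subtype.property (p := fun x => x ∈ iSup U) w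

variable {U} in
/-- A point of the union as a point of the coarse space. -/
def CoarseSpace.mk (w : ↥(iSup U)) : CoarseSpace U := w

variable {U} in
@[simp] lemma CoarseSpace.val_mk (w : ↥(iSup U)) : (CoarseSpace.mk w).val = w.1 := rfl

/-- The subset of the union attached to index data. -/
def coarseSet {κ : Type u} (a : CoarseIdx ι κ) : Set (CoarseSpace U) :=
  {w | ∃ k, ∀ j, w.val ∈ U ((a k).2 j)}

instance coarseTop : TopologicalSpace (CoarseSpace U) where
  IsOpen s := ∃ (κ : Type u) (a : CoarseIdx ι κ), s = coarseSet U a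
  isOpen_univ := by
    refine ⟨ι, fun i => ⟨0, fun _ => i⟩, ?_⟩
    ext w
    simp only [Set.mem_univ, coarseSet, Set.mem_ofPred_eq, true_iff]
    obtain ⟨i, hi⟩ := Opens.mem_iSup.1 w.val_mem
    exact ⟨i, fun _ => hi⟩
  isOpen_inter := by
    rintro s t ⟨κ, a, rfl⟩ ⟨κ', a', rfl⟩
    refine ⟨κ × κ', fun kk => ⟨(a kk.1).1 + 1 + (a' kk.2).1,
      Fin.append (m := (a kk.1).1 + 1) (n := (a' kk.2).1 + 1) (a kk.1).2 (a' kk.2).2⟩, ?_⟩
    ext w
    simp only [coarseSet, Set.mem_inter_iff, Set.mem_ofPred_eq]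
    constructor
    · rintro ⟨⟨k, hk⟩, ⟨k', hk'⟩⟩
      refine ⟨(k, k'), fun j => ?_⟩
      refine Fin.addCases (m := (a k).1 + 1) (n := (a' k').1 + 1)
        (motive := fun j => w.val ∈ U (Fin.append (a k).2 (a' k').2 j)) (fun j₁ => ?_) (fun j₂ => ?_) j
      · simpa using hk j₁
      · simpa using hk' j₂
    · rintro ⟨⟨k, k'⟩, h⟩
      refine ⟨⟨k, fun j => ?_⟩, ⟨k', fun j => ?_⟩⟩
      · simpa using h (Fin.castAdd ((a' k').1 + 1) j)
      · simpa using h (Fin.natAdd ((a k).1 + 1) j)
  isOpen_sUnion := by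
    intro S hS
    choose κ a ha using hS
    refine ⟨Σ s : S, κ s.1 s.2, fun x => a x.1.1 x.1.2 x.2, ?_⟩
    ext w
    simp only [Set.mem_sUnion, coarseSet, Set.mem_ofPred_eq]
    constructor
    · rintro ⟨s, hs, hw⟩
      rw [ha s hs] at hw
      obtain ⟨k, hk⟩ := hw
      exact ⟨⟨⟨s, hs⟩, k⟩, hk⟩
    · rintro ⟨⟨⟨s, hs⟩, k⟩, hk⟩
      refine ⟨s, hs, ?_⟩
      rw [ha s hs]
      exact ⟨k, hk⟩

/-- The coarse space as an object of `TopCat`. -/
noncomputable abbrev coarseTopCat : TopCat.{u} := TopCat.of (CoarseSpace U)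

/-- The identity map from the union (subspace topology) to the coarse space. -/
noncomputable def coarseMap : TopCat.of ↥(iSup U) ⟶ coarseTopCat U :=
  TopCat.ofHom ⟨CoarseSpace.mk, by
    refine continuous_def.2 ?_
    rintro s ⟨κ, a, rfl⟩
    have : (CoarseSpace.mk : ↥(iSup U) → CoarseSpace U) ⁻¹' coarseSet U a =
        Subtype.val ⁻¹' (coarseOpen U a : Set X) := by
      ext w
      simp only [Set.mem_preimage, coarseSet, Set.mem_ofPred_eq, SetLike.mem_coe, mem_coarseOpen]
      rfl
    rw [this]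
    exact (coarseOpen U a).isOpen.preimage continuous_subtype_val⟩

/-- The open of `X` underlying an open of the coarse space. -/
noncomputable def coarseφ (V : Opens (coarseTopCat U)) : Opens X :=
  (iSup U).isOpenEmbedding.isOpenMap.functor.obj ((Opens.map (coarseMap U)).obj V)

lemma mem_coarseφ (V : Opens (coarseTopCat U)) (x : X) :
    x ∈ coarseφ U V ↔ ∃ h : x ∈ iSup U, CoarseSpace.mk ⟨x, h⟩ ∈ V := by
  constructor
  · rintro ⟨w, hw, rfl⟩
    exact ⟨w.2, hw⟩
  · rintro ⟨h, hx⟩
    exact ⟨⟨x, h⟩, hx, rfl⟩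

lemma coarseφ_eq (V : Opens (coarseTopCat U)) {κ : Type u} (a : CoarseIdx ι κ)
    (hV : (V : Set (CoarseSpace U)) = coarseSet U a) : coarseφ U V = coarseOpen U a := by
  ext x
  rw [SetLike.mem_coe, SetLike.mem_coe, mem_coarseφ, mem_coarseOpen]
  constructor
  · rintro ⟨h, hx⟩
    have : CoarseSpace.mk ⟨x, h⟩ ∈ coarseSet U a := (Set.ext_iff.1 hV _).1 hx
    exact this
  · rintro ⟨k, hk⟩
    have h : x ∈ iSup U := Opens.mem_iSup.2 ⟨_, hk 0⟩
    refine ⟨h, ?_⟩
    have : CoarseSpace.mk ⟨x, h⟩ ∈ coarseSet U a := ⟨k, hk⟩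
    exact (Set.ext_iff.1 hV _).2 this

lemma exists_coarseφ_eq (V : Opens (coarseTopCat U)) :
    ∃ (κ : Type u) (a : CoarseIdx ι κ), coarseφ U V = coarseOpen U a := by
  obtain ⟨κ, a, h⟩ := V.isOpen
  exact ⟨κ, a, coarseφ_eq U V a h⟩

lemma coarseφ_mono {V V' : Opens (coarseTopCat U)} (h : V ≤ V') : coarseφ U V ≤ coarseφ U V' :=
  leOfHom ((iSup U).isOpenEmbedding.isOpenMap.functor.map ((Opens.map (coarseMap U)).map (homOfLE h)))

lemma coarseφ_le (V : Opens (coarseTopCat U)) : coarseφ U V ≤ iSup U := by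
  intro x hx
  obtain ⟨h, -⟩ := (mem_coarseφ U V x).1 hx
  exact h

variable (F : CohTop.Ab X)

/-- The sheaf on the coarse space. -/
noncomputable def coarseSheaf : CohTop.Ab (coarseTopCat U) :=
  (CohTop.push (coarseMap U)).obj (CohTop.restr F (iSup U))

lemma coarseSheaf_obj (V : Opens (coarseTopCat U)) :
    (coarseSheaf U F).obj.obj (op V) = F.obj.obj (op (coarseφ U V)) := rfl

lemma coarseSheaf_map {V V' : Opens (coarseTopCat U)} (h : V ≤ V') (s : F.obj.obj (op (coarseφ U V'))) :
    ((coarseSheaf U F).obj.map (homOfLE h).op) s = res F.obj (coarseφ_mono U h) s := rfl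

/-- Flasqueness of the coarse sheaf. -/
lemma coarseSheaf_isFlasque
    (hF : ∀ (κ : Type u) (a : CoarseIdx ι κ), Function.Surjective (res F.obj (coarseOpen_le U a))) :
    TopCat.Sheaf.IsFlasque (coarseSheaf U F) := by
  refine ⟨fun {V V'} i => ?_⟩
  rw [AddCommGrpCat.epi_iff_surjective]
  have hle : V'.unop ≤ V.unop := leOfHom i.unop
  have hi : i = (homOfLE hle).op := rfl
  intro (s : F.obj.obj (op (coarseφ U V'.unop)))
  obtain ⟨κ, a, e⟩ := exists_coarseφ_eq U V'.unop
  obtain ⟨t, ht⟩ := hF κ a (res F.obj (le_of_eq e.symm) s)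
  refine ⟨res F.obj (coarseφ_le U V.unop) t, ?_⟩
  rw [hi]
  have h1 := coarseSheaf_map U F hle (res F.obj (coarseφ_le U V.unop) t)
  refine h1.trans ?_
  rw [res_res]
  have h2 : s = res F.obj (le_of_eq e) (res F.obj (le_of_eq e.symm) s) := by
    rw [res_res, res_self]
  rw [h2, ← ht, res_res]

/-- The family of opens of the coarse space. -/
noncomputable def coarseU (i : ι) : Opens (coarseTopCat U) :=
  ⟨coarseSet U (fun _ : PUnit.{u + 1} => ⟨0, fun _ => i⟩), ⟨PUnit.{u + 1}, _, rfl⟩⟩

lemma mem_coarseU (i : ι) (w : CoarseSpace U) : w ∈ coarseU U i ↔ w.val ∈ U i := by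
  change w ∈ coarseSet U _ ↔ _
  simp only [coarseSet, Set.mem_ofPred_eq]
  constructor
  · rintro ⟨-, h⟩
    exact h 0
  · intro h
    exact ⟨PUnit.unit, fun _ => h⟩

lemma coarseφ_cechOpen {n : ℕ} (x : Fin (n + 1) → ι) :
    coarseφ U (cechOpen (coarseU U) x) = cechOpen U x := by
  ext x₀
  rw [SetLike.mem_coe, SetLike.mem_coe, mem_coarseφ, cechOpen_eq, cechOpen_eq]
  have hR : x₀ ∈ (⨅ a, U (x a)) ↔ ∀ a, x₀ ∈ U (x a) := by
    rw [← SetLike.mem_coe, Opens.coe_iInf, Set.mem_iInter]
    rfl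
  have hL : ∀ w : CoarseSpace U, w ∈ (⨅ a, coarseU U (x a)) ↔ ∀ a, w ∈ coarseU U (x a) := by
    intro w
    rw [← SetLike.mem_coe, Opens.coe_iInf, Set.mem_iInter]
    rfl
  rw [hR]
  constructor
  · rintro ⟨h, hx⟩ a
    have := (hL _).1 hx a
    rwa [mem_coarseU] at this
  · intro hx
    have h : x₀ ∈ iSup U := Opens.mem_iSup.2 ⟨_, hx 0⟩
    refine ⟨h, (hL _).2 fun a => ?_⟩
    rw [mem_coarseU]
    exact hx a

/-- Transport of Čech cochains to the coarse space. -/
noncomputable def coarseT (n : ℕ) (c : CechCochain U F.obj n) :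
    CechCochain (coarseU U) (coarseSheaf U F).obj n :=
  fun x => (res F.obj (le_of_eq (coarseφ_cechOpen U x)) (c x) :
    F.obj.obj (op (coarseφ U (cechOpen (coarseU U) x))))

/-- Transport of Čech cochains back from the coarse space. -/
noncomputable def coarseT' (n : ℕ) (c : CechCochain (coarseU U) (coarseSheaf U F).obj n) :
    CechCochain U F.obj n :=
  fun x => res F.obj (le_of_eq (coarseφ_cechOpen U x).symm)
    (c x : F.obj.obj (op (coarseφ U (cechOpen (coarseU U) x))))

lemma coarseT'_T (n : ℕ) (c : CechCochain U F.obj n) : coarseT' U F n (coarseT U F n c) = c := by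
  funext x
  simp only [coarseT', coarseT]
  rw [res_res, res_self]

lemma coarseT_T' (n : ℕ) (c : CechCochain (coarseU U) (coarseSheaf U F).obj n) :
    coarseT U F n (coarseT' U F n c) = c := by
  funext x
  have h := res_res F.obj (le_of_eq (coarseφ_cechOpen U x)) (le_of_eq (coarseφ_cechOpen U x).symm)
    (c x : F.obj.obj (op (coarseφ U (cechOpen (coarseU U) x))))
  exact h.trans (res_self F.obj _ _)

lemma coarseT_zero (n : ℕ) : coarseT U F n 0 = 0 := by
  funext x
  simp only [coarseT, Pi.zero_apply, map_zero]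
  rfl

lemma coarseT_coboundary (n : ℕ) (c : CechCochain U F.obj n) :
    cechCoboundary (coarseU U) (coarseSheaf U F).obj n (coarseT U F n c) =
      coarseT U F (n + 1) (cechCoboundary U F.obj n c) := by
  funext y
  have hL : cechCoboundary (coarseU U) (coarseSheaf U F).obj n (coarseT U F n c) y =
      ∑ i : Fin (n + 2), (-1 : ℤ) ^ (i : ℕ) •
        (res F.obj ((le_of_eq (coarseφ_cechOpen U y)).trans (cechOpen_face_le U y i))
          (c (y ∘ Fin.succAbove i)) : F.obj.obj (op (coarseφ U (cechOpen (coarseU U) y)))) := by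
    simp only [cechCoboundary]
    refine Finset.sum_congr rfl fun i _ => ?_
    congr 1
    have h1 := coarseSheaf_map U F (cechOpen_face_le (coarseU U) y i)
      (coarseT U F n c (y ∘ Fin.succAbove i))
    refine h1.trans ?_
    simp only [coarseT]
    rw [res_res]
  rw [hL]
  simp only [coarseT, cechCoboundary, map_sum, map_zsmul]
  refine Finset.sum_congr rfl fun i _ => ?_
  congr 1
  rw [← res_apply, res_res]

/-- Čech vanishing transfers from the coarse space. -/
lemma isZero_cechH_of_coarse (p : ℕ)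
    (h : IsZero (CohTop.cechH (coarseSheaf U F).obj (coarseU U) (p + 1))) :
    IsZero (CohTop.cechH F.obj U (p + 1)) := by
  rw [isZero_cechH_succ_iff] at h ⊢
  intro c hc
  obtain ⟨b', hb'⟩ := h (coarseT U F (p + 1) c) (by
    rw [coarseT_coboundary, hc, coarseT_zero])
  refine ⟨coarseT' U F p b', ?_⟩
  have h1 : coarseT U F (p + 1) (cechCoboundary U F.obj p (coarseT' U F p b')) =
      coarseT U F (p + 1) c := by
    rw [← coarseT_coboundary, coarseT_T', hb']
  have h2 := congrArg (coarseT' U F (p + 1)) h1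
  rwa [coarseT'_T, coarseT'_T] at h2

end Groth.Agent.Lib.Lead
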