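import Groth.Prelude.Def_RDer

/-!
# The first edge map `(R^q Ψ)(Φ X) ⟶ R^q(Φ ⋙ Ψ) X` is an isomorphism when `R^k Φ X = 0` for `k > 0`
-/

universe v₁ v₂ v₃ u₁ u₂ u₃

namespace Groth.Agent.Lib.Lead.EdgeInIso

open CategoryTheory CategoryTheory.Limits HomologicalComplex

variable {A : Type u₁} [Category.{v₁} A] [Abelian A] [HasInjectiveResolutions A]
  {B : Type u₂} [Category.{v₂} B] [Abelian B] [HasInjectiveResolutions B]
  {C : Type u₃} [Category.{v₃} C] [Abelian C]

section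

variable (Φ : A ⥤ B) [Φ.Additive] [PreservesFiniteLimits Φ] {X : A} (I : InjectiveResolution X)

lemma homologyMap_mapAug_zero :
    homologyMap (RDer.mapAug Φ I.ι) 0 =
      (singleObjHomologySelfIso (ComplexShape.up ℕ) 0 (Φ.obj X)).hom ≫
        I.toRightDerivedZero' Φ ≫ (CochainComplex.isoHomologyπ₀ _).hom := by
  rw [← cancel_epi (homologyπ _ 0), homologyπ_naturality,
    homologyπ_singleObjHomologySelfIso_hom_assoc]
  have key : cyclesMap (RDer.mapAug Φ I.ι) 0 =
      (singleObjCyclesSelfIso (ComplexShape.up ℕ) 0 (Φ.obj X)).hom ≫ I.toRightDerivedZero' Φ := by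
    rw [← cancel_mono (iCycles _ 0)]
    simp [RDer.mapAug]
    have h2 : (singleObjCyclesSelfIso (ComplexShape.up ℕ) 0 (Φ.obj X)).hom =
        iCycles ((CochainComplex.single₀ B).obj (Φ.obj X)) 0 ≫ 𝟙 (Φ.obj X) := by
      rw [singleObjCyclesSelfIso_hom]
      rfl
    rw [h2]
    exact (Category.assoc _ _ _).symm
  rw [key, Category.assoc]
  rfl

instance quasiIsoAt_mapAug_zero : QuasiIsoAt (RDer.mapAug Φ I.ι) 0 := by
  rw [quasiIsoAt_iff_isIso_homologyMap, homologyMap_mapAug_zero]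
  infer_instance

lemma quasiIso_mapAug (h : ∀ k : ℕ, IsZero ((Φ.rightDerived (k + 1)).obj X)) :
    QuasiIso (RDer.mapAug Φ I.ι) := by
  refine ⟨fun n => ?_⟩
  cases n with
  | zero => exact quasiIsoAt_mapAug_zero Φ I
  | succ k =>
    rw [quasiIsoAt_iff_exactAt _ _ (CochainComplex.exactAt_succ_single_obj _ _),
      exactAt_iff_isZero_homology]
    exact (h k).of_iso (I.isoRightDerivedObj Φ (k + 1)).symm

/-- `Φ I` is an injective resolution of `Φ X` when the higher derived functors of `Φ` vanish on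
`X`. -/
noncomputable def res [Φ.PreservesInjectiveObjects]
    (h : ∀ k : ℕ, IsZero ((Φ.rightDerived (k + 1)).obj X)) : InjectiveResolution (Φ.obj X) where
  cocomplex := (Φ.mapHomologicalComplex _).obj I.cocomplex
  injective n := Φ.injective_obj (I.cocomplex.X n)
  ι := RDer.mapAug Φ I.ι
  quasiIso := quasiIso_mapAug Φ I h

end

/-- The first edge map is an isomorphism when `R^k Φ X = 0` for all `k > 0`. -/
theorem isIso_edgeIn (Φ : A ⥤ B) [Φ.Additive] [PreservesFiniteLimits Φ]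
    [Φ.PreservesInjectiveObjects] (Ψ : B ⥤ C) [Ψ.Additive] (q : ℕ) (X : A)
    (h : ∀ k : ℕ, IsZero ((Φ.rightDerived (k + 1)).obj X)) : IsIso (RDer.edgeIn Φ Ψ q X) := by
  let I := injectiveResolution X
  let J := injectiveResolution (Φ.obj X)
  let I' := res Φ I h
  let d : J.cocomplex ⟶ I'.cocomplex :=
    RDer.descToInjectives (𝟙 (Φ.obj X)) J.cocomplex J.ι I'.cocomplex I'.ι
  have hd : J.ι ≫ d = (CochainComplex.single₀ B).map (𝟙 (Φ.obj X)) ≫ I'.ι := by
    apply HomologicalComplex.from_single_hom_ext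
    have h0 : (J.ι ≫ d).f 0 = J.ι.f 0 ≫ d.f 0 := rfl
    have h1 : J.ι.f 0 ≫ d.f 0 = 𝟙 (Φ.obj X) ≫ I'.ι.f 0 :=
      RDer.ι_descToInjectives_f_zero (𝟙 (Φ.obj X)) J.cocomplex J.ι I'.cocomplex I'.ι
    have h2 : ((CochainComplex.single₀ B).map (𝟙 (Φ.obj X)) ≫ I'.ι).f 0 = I'.ι.f 0 := by
      rw [CategoryTheory.Functor.map_id, Category.id_comp]
    have h3 : 𝟙 (Φ.obj X) ≫ I'.ι.f 0 = I'.ι.f 0 := Category.id_comp (I'.ι.f 0)
    exact h0.trans (h1.trans (h3.trans h2.symm))
  let e := InjectiveResolution.homotopyEquiv J I'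
  have hh : Homotopy d e.hom :=
    InjectiveResolution.descHomotopy (𝟙 (Φ.obj X)) d e.hom hd (by simp [e])
  have hiso : IsIso ((HomologicalComplex.homologyFunctor C _ q).map
      ((Ψ.mapHomologicalComplex _).map d)) := by
    have e1 : (HomologicalComplex.homologyFunctor C _ q).map ((Ψ.mapHomologicalComplex _).map d) =
        (HomologicalComplex.homologyFunctor C _ q).map
          ((Ψ.mapHomologicalComplex _).map e.hom) := (Ψ.mapHomotopy hh).homologyMap_eq q
    rw [e1]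
    exact ((Ψ.mapHomotopyEquiv e).toHomologyIso q).isIso_hom
  have h1 : IsIso (((injectiveResolution (Φ.obj X)).isoRightDerivedObj Ψ q).hom) := inferInstance
  have h3 : IsIso (((injectiveResolution X).isoRightDerivedObj (Φ ⋙ Ψ) q).inv) := inferInstance
  exact @IsIso.comp_isIso _ _ _ _ _ _ _ h1 (@IsIso.comp_isIso _ _ _ _ _ _ _ hiso h3)

end Groth.Agent.Lib.Lead.EdgeInIso
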