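import Groth.Prelude.Def_RDer

/-!
# Naturality of the second edge map `RDer.edgeOut` and of `RDer.homologyComparison` (lead)
-/

universe v₁ v₂ v₃ u₁ u₂ u₃

namespace Groth.Agent.Lib.Lead.EdgeOutNat

open CategoryTheory Limits HomologicalComplex

section Comparison

variable {B : Type u₂} [Category.{v₂} B] [Abelian B] {C : Type u₃} [Category.{v₃} C] [Abelian C]
  (Ψ : B ⥤ C) [Ψ.Additive] [PreservesFiniteLimits Ψ]
  {ι' : Type*} {c : ComplexShape ι'} {K L : HomologicalComplex B c} (ψ : K ⟶ L) (i : ι')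

lemma cyclesComparison_naturality :
    cyclesMap ((Ψ.mapHomologicalComplex c).map ψ) i ≫ RDer.cyclesComparison Ψ L i =
      RDer.cyclesComparison Ψ K i ≫ Ψ.map (cyclesMap ψ i) := by
  have : Mono (Ψ.map (L.iCycles i)) := inferInstance
  rw [← cancel_mono (Ψ.map (L.iCycles i))]
  have h1 : cyclesMap ((Ψ.mapHomologicalComplex c).map ψ) i ≫
      ((Ψ.mapHomologicalComplex c).obj L).iCycles i =
      ((Ψ.mapHomologicalComplex c).obj K).iCycles i ≫ Ψ.map (ψ.f i) :=
    cyclesMap_i ((Ψ.mapHomologicalComplex c).map ψ) i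
  have h2 : Ψ.map (cyclesMap ψ i) ≫ Ψ.map (L.iCycles i) = Ψ.map (K.iCycles i) ≫ Ψ.map (ψ.f i) := by
    rw [← Ψ.map_comp, cyclesMap_i, Ψ.map_comp]
  exact (Category.assoc _ _ _).trans ((whisker_eq _ (RDer.cyclesComparison_i Ψ L i)).trans
    (h1.trans ((eq_whisker (RDer.cyclesComparison_i Ψ K i).symm _).trans
      ((Category.assoc _ _ _).trans ((whisker_eq _ h2.symm).trans (Category.assoc _ _ _).symm)))))

lemma homologyComparison_naturality :
    homologyMap ((Ψ.mapHomologicalComplex c).map ψ) i ≫ RDer.homologyComparison Ψ L i =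
      RDer.homologyComparison Ψ K i ≫ Ψ.map (homologyMap ψ i) := by
  rw [← cancel_epi (((Ψ.mapHomologicalComplex c).obj K).homologyπ i)]
  have h1 := homologyπ_naturality ((Ψ.mapHomologicalComplex c).map ψ) i
  have h2 : Ψ.map (cyclesMap ψ i) ≫ Ψ.map (L.homologyπ i) =
      Ψ.map (K.homologyπ i) ≫ Ψ.map (homologyMap ψ i) := by
    rw [← Ψ.map_comp, ← Ψ.map_comp, homologyπ_naturality]
  exact (Category.assoc _ _ _).symm.trans ((eq_whisker h1 _).trans ((Category.assoc _ _ _).trans
    ((whisker_eq _ (RDer.homologyπ_homologyComparison Ψ L i)).trans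
    ((Category.assoc _ _ _).symm.trans ((eq_whisker (cyclesComparison_naturality Ψ ψ i) _).trans
    ((Category.assoc _ _ _).trans ((whisker_eq _ h2).trans ((Category.assoc _ _ _).symm.trans
    ((eq_whisker (RDer.homologyπ_homologyComparison Ψ K i).symm _).trans
      (Category.assoc _ _ _))))))))))

end Comparison

section Edge

variable {A : Type u₁} [Category.{v₁} A] [Abelian A] [HasInjectiveResolutions A]
  {B : Type u₂} [Category.{v₂} B] [Abelian B]
  {C : Type u₃} [Category.{v₃} C] [Abelian C]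
  (Φ : A ⥤ B) [Φ.Additive] (Ψ : B ⥤ C) [Ψ.Additive] [PreservesFiniteLimits Ψ]

/-- **The second edge map is natural.** -/
theorem edgeOut_naturality (q : ℕ) {X Y : A} (f : X ⟶ Y) :
    ((Φ ⋙ Ψ).rightDerived q).map f ≫ RDer.edgeOut Φ Ψ q Y =
      RDer.edgeOut Φ Ψ q X ≫ Ψ.map ((Φ.rightDerived q).map f) := by
  let I := injectiveResolution X
  let J := injectiveResolution Y
  let φ : I.cocomplex ⟶ J.cocomplex := InjectiveResolution.desc f J I
  have comm : I.ι.f 0 ≫ φ.f 0 = f ≫ J.ι.f 0 := InjectiveResolution.desc_commutes_zero f J I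
  have h1 := InjectiveResolution.isoRightDerivedObj_hom_naturality f I J φ comm (Φ ⋙ Ψ) q
  have h2 := InjectiveResolution.isoRightDerivedObj_inv_naturality f I J φ comm Φ q
  have h3 := homologyComparison_naturality Ψ ((Φ.mapHomologicalComplex _).map φ) q
  have h2' : Ψ.map (homologyMap ((Φ.mapHomologicalComplex _).map φ) q) ≫
      Ψ.map (J.isoRightDerivedObj Φ q).inv =
      Ψ.map (I.isoRightDerivedObj Φ q).inv ≫ Ψ.map ((Φ.rightDerived q).map f) := by
    rw [← Ψ.map_comp, ← Ψ.map_comp]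
    exact congrArg Ψ.map h2.symm
  dsimp only [RDer.edgeOut]
  exact (Category.assoc _ _ _).symm.trans ((eq_whisker h1 _).trans ((Category.assoc _ _ _).trans
    (whisker_eq _ ((Category.assoc _ _ _).symm.trans ((eq_whisker h3 _).trans
    ((Category.assoc _ _ _).trans ((whisker_eq _ h2').trans (Category.assoc _ _ _).symm)))))))
    |>.trans (by simp only [Category.assoc]; rfl)

end Edge

end Groth.Agent.Lib.Lead.EdgeOutNat
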