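import Groth.Agent.Lib.Lead.ExtAdj

/-!
# Injectivity in degree one of the `Ext` comparison along an adjunction

For an adjunction `L ⊣ R` with `L` exact and `θ : b ≅ L a`, the comparison
`Φ F 1 : Ext a (R F) 1 → Ext b F 1` of `Groth.Agent.Lib.Lead.ExtAdj` is injective for every `F`
(the first edge map `E_2^{1,0} → H^1` of the Leray spectral sequence is injective), with no
acyclicity hypothesis.
-/

universe w w' v u v' u'

namespace Groth.Agent.Lib.Lead.ExtAdj

open CategoryTheory Limits Abelian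

variable {C : Type u} [Category.{v} C] [Abelian C] [HasExt.{w} C]
  {D : Type u'} [Category.{v'} D] [Abelian D] [HasExt.{w'} D]
  {L : C ⥤ D} {R : D ⥤ C} (adj : L ⊣ R) [L.Additive] [PreservesFiniteLimits L]
  [PreservesFiniteColimits L] {a : C} {b : D} (θ : b ⟶ L.obj a) [R.Additive]

/-- A variant of `Φ_δ` for an arbitrary short exact sequence `S'` of `C` mapping to `S` after `L`. -/
lemma Φ_δ' {S : ShortComplex D} (hS : S.ShortExact) {S' : ShortComplex C} (hS' : S'.ShortExact)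
    (ψ : S'.map L ⟶ S) (n : ℕ) (e : Ext.{w} a S'.X₃ n) :
    ((Ext.mk₀ θ).comp ((e.comp hS'.extClass rfl).mapExactFunctor L) (zero_add (n + 1))).comp
        (Ext.mk₀ ψ.τ₁) (add_zero (n + 1)) =
      (((Ext.mk₀ θ).comp (e.mapExactFunctor L) (zero_add n)).comp (Ext.mk₀ ψ.τ₃)
        (add_zero n)).comp hS.extClass rfl := by
  have hnat := ShortComplex.ShortExact.extClass_naturality (hS'.map_of_exact L) hS ψ
  have h1 : (e.comp hS'.extClass rfl).mapExactFunctor L =
      (e.mapExactFunctor L).comp (hS'.map_of_exact L).extClass rfl := by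
    rw [Ext.mapExactFunctor_comp, Ext.mapExactFunctor_extClass]
    rfl
  refine (congrArg (fun z => ((Ext.mk₀ θ).comp z (zero_add (n + 1))).comp
    (Ext.mk₀ ψ.τ₁) (add_zero (n + 1))) h1).trans ?_
  exact comp_aux (Ext.mk₀ θ) (e.mapExactFunctor L) (hS'.map_of_exact L).extClass
    (Ext.mk₀ ψ.τ₁) (Ext.mk₀ ψ.τ₃) hS.extClass hnat

variable [EnoughInjectives D]

/-- The first edge map is injective: `Φ F 1` is injective for every `F`. -/
theorem Φ_one_injective [IsIso θ] (F : D) : Function.Injective (Φ adj θ F 1) := by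
  have : PreservesFiniteLimits R := by
    have := adj.rightAdjoint_preservesLimits
    infer_instance
  have hS := sesInj_shortExact F
  -- the short exact sequence `0 ⟶ R F ⟶ R I ⟶ Q' ⟶ 0`
  have hex := (Functor.preservesFiniteLimits_iff_forall_exact_map_and_mono R).1
    inferInstance _ hS
  have : Mono (R.map (sesInj F).f) := hex.2
  let S' : ShortComplex C := ShortComplex.mk (R.map (sesInj F).f) (cokernel.π (R.map (sesInj F).f))
    (cokernel.condition _)
  have hS' : S'.ShortExact :=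
    { exact := ShortComplex.exact_cokernel _
      mono_f := hex.2
      epi_g := inferInstanceAs (Epi (cokernel.π (R.map (sesInj F).f))) }
  let j : S'.X₃ ⟶ R.obj (sesInj F).X₃ :=
    cokernel.desc (R.map (sesInj F).f) (R.map (sesInj F).g) ((sesInj F).map R).zero
  have hj : Mono j := hex.1.mono_cokernelDesc
  have hπj : S'.g ≫ j = R.map (sesInj F).g := cokernel.π_desc _ _ _
  have hc : L.map S'.g ≫ (L.map j ≫ adj.counit.app (sesInj F).X₃) =
      adj.counit.app (sesInj F).X₂ ≫ (sesInj F).g := by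
    rw [← L.map_comp_assoc, hπj]
    exact adj.counit_naturality (sesInj F).g
  let ψ : S'.map L ⟶ sesInj F :=
    { τ₁ := adj.counit.app (sesInj F).X₁
      τ₂ := adj.counit.app (sesInj F).X₂
      τ₃ := L.map j ≫ adj.counit.app (sesInj F).X₃
      comm₁₂ := (adj.counit_naturality (sesInj F).f).symm
      comm₂₃ := hc.symm }
  have : Injective S'.X₂ := Injective.injective_of_adjoint adj (sesInj F).X₂
  rw [injective_iff_map_eq_zero]
  intro x hx
  obtain ⟨x', rfl⟩ := Ext.covariant_sequence_exact₁ a hS' x (Ext.eq_zero_of_injective _) rfl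
  obtain ⟨g', rfl⟩ := (Ext.mk₀_bijective _ _).2 x'
  have hδ := Φ_δ' θ hS hS' ψ 0 (Ext.mk₀ g')
  have hx' : (((Ext.mk₀ θ).comp ((Ext.mk₀ g').mapExactFunctor L) (zero_add 0)).comp
      (Ext.mk₀ ψ.τ₃) (add_zero 0)).comp hS.extClass rfl = 0 := hδ.symm.trans hx
  obtain ⟨y'', hy''⟩ := Ext.covariant_sequence_exact₃ b hS _ rfl hx'
  obtain ⟨x'', rfl⟩ := (Φ_zero_bijective adj θ (sesInj F).X₂).2 y''
  obtain ⟨g'', rfl⟩ := (Ext.mk₀_bijective _ _).2 x''
  -- identify both sides with `Φ Q 0`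
  have e1 : ((Ext.mk₀ θ).comp ((Ext.mk₀ g').mapExactFunctor L) (zero_add 0)).comp
      (Ext.mk₀ ψ.τ₃) (add_zero 0) = Φ adj θ (sesInj F).X₃ 0 (Ext.mk₀ (g' ≫ j)) := by
    rw [Φ_apply, Ext.mapExactFunctor_mk₀, Ext.mapExactFunctor_mk₀, Ext.mk₀_comp_mk₀,
      Ext.mk₀_comp_mk₀, Ext.mk₀_comp_mk₀, Ext.mk₀_comp_mk₀, L.map_comp]
    simp only [Category.assoc]
    rfl
  have e2 : (Φ adj θ (sesInj F).X₂ 0 (Ext.mk₀ g'')).comp (Ext.mk₀ (sesInj F).g) (add_zero 0) =
      Φ adj θ (sesInj F).X₃ 0 (Ext.mk₀ (g'' ≫ R.map (sesInj F).g)) := by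
    rw [← Φ_naturality, Ext.mk₀_comp_mk₀]
  have h3 := (Φ_zero_bijective adj θ (sesInj F).X₃).1 ((e2.symm.trans hy'').trans e1)
  have h4 : g'' ≫ R.map (sesInj F).g = g' ≫ j := (Ext.mk₀_bijective _ _).1 h3
  have h5 : g'' ≫ S'.g = g' := by
    rw [← cancel_mono j, Category.assoc, hπj, h4]
  rw [← h5, ← Ext.mk₀_comp_mk₀]
  have hz : (Ext.mk₀ S'.g).comp hS'.extClass (zero_add 1) = 0 := hS'.comp_extClass
  exact (Ext.comp_assoc_of_second_deg_zero _ _ _ _).trans
    ((congrArg (fun z => (Ext.mk₀ g'').comp z _) hz).trans (Ext.comp_zero _ _ _ _ _))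

end Groth.Agent.Lib.Lead.ExtAdj
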