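import Groth.Prelude.Def_Canon
import Groth.Prelude.Def_ClSub2
import Groth.Agent.Lib.Lead.ExtAdjOne
import Groth.Agent.Lib.Helper67.AffPushLin

/-!
# The first edge map `H^1(Y, f_* G) → H^1(X, G)` is injective

* `pushEdge_one_injective`: for every morphism of schemes `f : X ⟶ Y` and every `O_X`-module `G`,
  `CohPull.pushEdge f G 1 : H^1(Y, f_* G) → H^1(X, G)` is injective (low-degree Leray).
* `isIso_unitToPush`: `O_Y ⟶ f_* O_X` is an isomorphism when `f` is a fibration.
* `h1Lin_injective`, `finrank_H1_le`: for a fibration `f : X ⟶ Y` over a field `k` the induced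
  `k`-linear map `H^1(Y, O_Y) → H^1(X, O_X)` is injective, hence `h^1(O_Y) ≤ h^1(O_X)` when the
  latter is finite.
-/

set_option autoImplicit false
universe u
open CategoryTheory CategoryTheory.Limits AlgebraicGeometry TopologicalSpace Opposite Abelian

namespace Groth.Agent.Lib.Lead.H1Inj

open Groth.Agent.Lib.Lead CohPull

variable {X Y : Scheme.{u}} (f : X ⟶ Y)

/-- The first edge map `H^1(Y, f_* G) → H^1(X, G)` is injective. -/
theorem pushEdge_one_injective (G : X.Modules) : Function.Injective (pushEdge f G 1) := by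
  have hb := ExtAdj.Φ_one_injective (invPushAdj f.base) (oneTo f.base) (Coh.toAb G)
  have h : ⇑(pushEdge f G 1) = ⇑(ExtAdj.Φ (invPushAdj f.base) (oneTo f.base) (Coh.toAb G) 1) :=
    funext (PushEdge.pushEdge_eq_Φ f G 1)
  rw [h]
  exact hb

/-- For a fibration (`Γ(V, O_Y) → Γ(f⁻¹V, O_X)` bijective for all `V`), `O_Y ⟶ f_* O_X` is an iso. -/
theorem isIso_unitToPush (hfib : ∀ V : Y.Opens, IsIso (f.app V)) : IsIso (ClSub.unitToPush f) := by
  rw [Scheme.Modules.Hom.isIso_iff_isIso_app]
  intro V
  have h2 : Function.Bijective (f.app V) := (ConcreteCategory.isIso_iff_bijective _).mp (hfib V)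
  exact (ConcreteCategory.isIso_iff_bijective _).mpr h2

section Over

variable (k : Type u) [CommRing k] [X.Over (Spec (CommRingCat.of k))]
  [Y.Over (Spec (CommRingCat.of k))]
  (hf : f ≫ (Y ↘ Spec (CommRingCat.of k)) = X ↘ Spec (CommRingCat.of k))

/-- The `k`-linear map `H^1(Y, O_Y) → H^1(X, O_X)` induced by `f`. -/
noncomputable def h1Lin : Coh.HH Y (Coh.structureModule Y) 1 →ₗ[k] Coh.HH X (Coh.structureModule X) 1 :=
  (Groth.Agent.Lib.Helper67.AffPush.pushEdgeLin f k hf (Coh.structureModule X) 1).comp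
    (Canon.HHlin k (ClSub.unitToPush f) 1)

theorem h1Lin_injective (hfib : ∀ V : Y.Opens, IsIso (f.app V)) :
    Function.Injective (h1Lin f k hf) := by
  obtain ⟨ψ, hφψ, -⟩ := (isIso_unitToPush f hfib).out
  have h1 : Function.Injective (Canon.HHlin k (ClSub.unitToPush f) 1) := by
    have hc := ((SheafOfModules.toSheaf Y.ringCatSheaf).map_comp (ClSub.unitToPush f) ψ).symm.trans
      ((congrArg (SheafOfModules.toSheaf Y.ringCatSheaf).map hφψ).trans
        ((SheafOfModules.toSheaf Y.ringCatSheaf).map_id _))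
    have he : ∀ z, Sheaf.H.map ((SheafOfModules.toSheaf Y.ringCatSheaf).map ψ) 1
        (Sheaf.H.map ((SheafOfModules.toSheaf Y.ringCatSheaf).map (ClSub.unitToPush f)) 1 z) = z := by
      intro z
      rw [← Sheaf.H.map_comp_apply, hc, Sheaf.H.map_id_apply]
    intro x y hxy
    have hxy' : Sheaf.H.map ((SheafOfModules.toSheaf Y.ringCatSheaf).map (ClSub.unitToPush f)) 1 x =
        Sheaf.H.map ((SheafOfModules.toSheaf Y.ringCatSheaf).map (ClSub.unitToPush f)) 1 y := hxy
    have h := congrArg (Sheaf.H.map ((SheafOfModules.toSheaf Y.ringCatSheaf).map ψ) 1) hxy'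
    rw [he, he] at h
    exact h
  exact (pushEdge_one_injective f (Coh.structureModule X)).comp h1

include hf in
theorem finrank_H1_le [IsDomain k] [IsPrincipalIdealRing k]
    (hfib : ∀ V : Y.Opens, IsIso (f.app V))
    [Module.Finite k (Coh.HH X (Coh.structureModule X) 1)] :
    Module.finrank k (Coh.HH Y (Coh.structureModule Y) 1) ≤
      Module.finrank k (Coh.HH X (Coh.structureModule X) 1) :=
  LinearMap.finrank_le_finrank_of_injective (h1Lin_injective f k hf hfib)

end Over

end Groth.Agent.Lib.Lead.H1Inj
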