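import Groth.Agent.Lib.Helper83.AcyclicComp
import Groth.Prelude.Def_RDer

/-!
# The comparison `H^q(Ψ K) ⟶ Ψ(H^q K)` is an isomorphism for complexes of `Ψ`-acyclic objects with
`Ψ`-acyclic cohomology (lead)

`ExactClass Ψ P`: a class `P` of objects, containing the zero objects, closed under cokernels of
monomorphisms and extensions, such that `Ψ` keeps short exact sequences with first term in `P`
exact.  `isIso_homologyComparison`: for a left exact `Ψ` and a cochain complex `K` (indexed by `ℕ`)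
whose terms and cohomology objects are in `P`, the prelude's `RDer.homologyComparison Ψ K q` is an
isomorphism.  `exactClass_acyclic`: the `Ψ`-acyclic objects form such a class.
-/

universe v u v' u'

namespace Groth.Agent.Lib.Lead.HomologyCmp

open CategoryTheory Limits

variable {B : Type u} [Category.{v} B] [Abelian B] {C : Type u'} [Category.{v'} C] [Abelian C]
  (Ψ : B ⥤ C) [Ψ.Additive]

/-- A class of objects on which `Ψ` is exact. -/
structure ExactClass (P : B → Prop) : Prop where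
  zero : ∀ X : B, IsZero X → P X
  of_ses₃ : ∀ S : ShortComplex B, S.ShortExact → P S.X₁ → P S.X₂ → P S.X₃
  of_ses₂ : ∀ S : ShortComplex B, S.ShortExact → P S.X₁ → P S.X₃ → P S.X₂
  epi : ∀ S : ShortComplex B, S.ShortExact → P S.X₁ → Epi (Ψ.map S.g)

section Complex

variable (K : CochainComplex B ℕ)

/-- the boundaries, as the kernel of `Z^j ⟶ H^j` -/
noncomputable abbrev Bd (j : ℕ) : B := kernel (K.homologyπ j)

/-- `0 ⟶ B^j ⟶ Z^j ⟶ H^j ⟶ 0` -/
noncomputable abbrev S2 (j : ℕ) : ShortComplex B :=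
  ShortComplex.mk (kernel.ι (K.homologyπ j)) (K.homologyπ j) (kernel.condition _)

lemma S2_shortExact (j : ℕ) : (S2 K j).ShortExact where
  exact := ShortComplex.exact_of_f_is_kernel _ (kernelIsKernel _)
  mono_f := inferInstanceAs (Mono (kernel.ι (K.homologyπ j)))
  epi_g := inferInstanceAs (Epi (K.homologyπ j))

/-- `K^i ⟶ B^j` -/
noncomputable def e (i j : ℕ) : K.X i ⟶ Bd K j :=
  kernel.lift _ (K.toCycles i j) (K.toCycles_comp_homologyπ i j)

@[reassoc (attr := simp)]
lemma e_ι (i j : ℕ) : e K i j ≫ kernel.ι (K.homologyπ j) = K.toCycles i j :=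
  kernel.lift_ι _ _ _

lemma epi_e (i j : ℕ) (hij : (ComplexShape.up ℕ).prev j = i) : Epi (e K i j) := by
  have hex : (ShortComplex.mk (K.toCycles i j) (K.homologyπ j)
      (K.toCycles_comp_homologyπ i j)).Exact :=
    ShortComplex.exact_of_g_is_cokernel _ (K.homologyIsCokernel i j hij)
  exact (ShortComplex.exact_iff_epi_kernel_lift _).1 hex

lemma iCycles_e (i j : ℕ) : K.iCycles i ≫ e K i j = 0 := by
  rw [← cancel_mono (kernel.ι (K.homologyπ j)), ← cancel_mono (K.iCycles j), Category.assoc,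
    Category.assoc, e_ι_assoc, K.toCycles_i, K.iCycles_d, zero_comp, zero_comp]

/-- `0 ⟶ Z^i ⟶ K^i ⟶ B^j ⟶ 0` for `j = i + 1` -/
noncomputable abbrev S1 (i j : ℕ) : ShortComplex B :=
  ShortComplex.mk (K.iCycles i) (e K i j) (iCycles_e K i j)

lemma S1_shortExact (i : ℕ) : (S1 K i (i + 1)).ShortExact where
  exact := by
    have hk := K.cyclesIsKernel i (i + 1) (by simp)
    refine ShortComplex.exact_of_f_is_kernel _ ?_
    exact isKernelOfComp (f := e K i (i + 1)) (kernel.ι (K.homologyπ (i + 1)) ≫ K.iCycles (i + 1))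
      (K.d i (i + 1)) hk (iCycles_e K i (i + 1)) (by rw [e_ι_assoc, K.toCycles_i])
  mono_f := inferInstanceAs (Mono (K.iCycles i))
  epi_g := epi_e K i (i + 1) (by simp)

lemma isZero_Bd_zero : IsZero (Bd K 0) := by
  have : IsIso (K.homologyπ 0) := by
    rw [← RDer.isoHomologyπ₀_hom_eq]
    infer_instance
  exact isZero_kernel_of_mono _

variable {Ψ} {P : B → Prop} (hP : ExactClass Ψ P)

include hP in
lemma P_Bd_cycles (hX : ∀ n, P (K.X n)) (hH : ∀ n, P (K.homology n)) (j : ℕ) :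
    P (Bd K j) ∧ P (K.cycles j) := by
  induction j with
  | zero =>
    have h0 : P (Bd K 0) := hP.zero _ (isZero_Bd_zero K)
    exact ⟨h0, hP.of_ses₂ (S2 K 0) (S2_shortExact K 0) h0 (hH 0)⟩
  | succ j ih =>
    have h1 : P (Bd K (j + 1)) := hP.of_ses₃ (S1 K j (j + 1)) (S1_shortExact K j) ih.2 (hX j)
    exact ⟨h1, hP.of_ses₂ (S2 K (j + 1)) (S2_shortExact K (j + 1)) h1 (hH (j + 1))⟩

variable [PreservesFiniteLimits Ψ]

/-- for a left exact functor the comparison of cycles is an isomorphism -/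
instance isIso_cyclesComparison (q : ℕ) : IsIso (RDer.cyclesComparison Ψ K q) := by
  let ΨK := (Ψ.mapHomologicalComplex (ComplexShape.up ℕ)).obj K
  have h1 : IsLimit (KernelFork.ofι (ΨK.iCycles q) (ΨK.iCycles_d q ((ComplexShape.up ℕ).next q))) :=
    ΨK.cyclesIsKernel q _ rfl
  have h2 := KernelFork.mapIsLimit _ (K.cyclesIsKernel q ((ComplexShape.up ℕ).next q) rfl) Ψ
  have w : Ψ.map (K.iCycles q) ≫ ΨK.d q ((ComplexShape.up ℕ).next q) = 0 := by
    change Ψ.map (K.iCycles q) ≫ Ψ.map (K.d q _) = 0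
    rw [← Ψ.map_comp, K.iCycles_d, Ψ.map_zero]
  let l : Ψ.obj (K.cycles q) ⟶ ΨK.cycles q := h1.lift (KernelFork.ofι (Ψ.map (K.iCycles q)) w)
  have hl : l ≫ ΨK.iCycles q = Ψ.map (K.iCycles q) :=
    Fork.IsLimit.lift_ι h1
  have hγ : RDer.cyclesComparison Ψ K q ≫ Ψ.map (K.iCycles q) = ΨK.iCycles q :=
    RDer.cyclesComparison_i Ψ K q
  refine ⟨l, ?_, ?_⟩
  · apply Fork.IsLimit.hom_ext h1
    exact (Category.assoc _ _ _).trans ((whisker_eq _ hl).trans (hγ.trans (Category.id_comp _).symm))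
  · apply Fork.IsLimit.hom_ext h2
    exact (Category.assoc _ _ _).trans ((whisker_eq _ hγ).trans (hl.trans (Category.id_comp _).symm))

include hP in
/-- **The comparison `H^q(Ψ K) ⟶ Ψ(H^q K)` is an isomorphism** when the terms and the cohomology of
`K` are in an exact class for the left exact functor `Ψ`. -/
theorem isIso_homologyComparison (hX : ∀ n, P (K.X n)) (hH : ∀ n, P (K.homology n)) (q : ℕ) :
    IsIso (RDer.homologyComparison Ψ K q) := by
  let ΨK := (Ψ.mapHomologicalComplex (ComplexShape.up ℕ)).obj K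
  let i := (ComplexShape.up ℕ).prev q
  have hPq := P_Bd_cycles K hP hX hH
  -- `Ψ(e)` is an epimorphism
  have hepi : Epi (Ψ.map (e K i q)) := by
    obtain _ | j := q
    · have hz : IsZero (Ψ.obj (Bd K 0)) := Ψ.map_isZero (isZero_Bd_zero K)
      exact ⟨fun _ _ _ => hz.eq_of_src _ _⟩
    · have hi : i = j := by simp [i]
      rw [hi]
      exact hP.epi (S1 K j (j + 1)) (S1_shortExact K j) (hPq j).2
  -- `Ψ(Z ⟶ H)` is the cokernel of `Ψ(B ⟶ Z)`
  have hS2 : ((S2 K q).map Ψ).ShortExact := by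
    have h := (Functor.preservesFiniteLimits_iff_forall_exact_map_and_mono Ψ).1 inferInstance _
      (S2_shortExact K q)
    exact ShortComplex.ShortExact.mk' h.1 h.2 (hP.epi (S2 K q) (S2_shortExact K q) (hPq q).1)
  have hπ : Epi (Ψ.map (K.homologyπ q)) := hS2.epi_g
  have hz2 : Ψ.map (kernel.ι (K.homologyπ q)) ≫ Ψ.map (K.homologyπ q) = 0 := by
    rw [← Ψ.map_comp, kernel.condition, Ψ.map_zero]
  have c2 : IsColimit (CokernelCofork.ofπ (f := Ψ.map (kernel.ι (K.homologyπ q)))
      (Ψ.map (K.homologyπ q)) hz2) := by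
    haveI : Epi ((S2 K q).map Ψ).g := hS2.epi_g
    exact hS2.exact.gIsCokernel
  -- hence the cokernel of `Ψ(K^i ⟶ Z^q)`
  have hfac : Ψ.map (K.toCycles i q) = Ψ.map (e K i q) ≫ Ψ.map (kernel.ι (K.homologyπ q)) := by
    rw [← Ψ.map_comp, e_ι]
  have c3 := isCokernelEpiComp c2 (Ψ.map (e K i q)) hfac
  let γ : ΨK.cycles q ⟶ Ψ.obj (K.cycles q) := RDer.cyclesComparison Ψ K q
  have hγ : ΨK.toCycles i q ≫ γ = Ψ.map (K.toCycles i q) := RDer.toCycles_cyclesComparison Ψ K q
  have hc : RDer.homologyComparison Ψ K q = RDer.homologyComparison Ψ K q := rfl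
  have hcmp : ΨK.homologyπ q ≫ RDer.homologyComparison Ψ K q = γ ≫ Ψ.map (K.homologyπ q) :=
    RDer.homologyπ_homologyComparison Ψ K q
  have hw : Ψ.map (K.toCycles i q) ≫ inv γ ≫ ΨK.homologyπ q = 0 := by
    have h0 : ΨK.toCycles i q ≫ ΨK.homologyπ q = 0 := ΨK.toCycles_comp_homologyπ i q
    have h1 : Ψ.map (K.toCycles i q) ≫ inv γ = ΨK.toCycles i q :=
      (eq_whisker hγ.symm _).trans ((Category.assoc _ _ _).trans
        ((whisker_eq _ (IsIso.hom_inv_id γ)).trans (Category.comp_id _)))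
    exact (Category.assoc _ _ _).symm.trans ((eq_whisker h1 _).trans h0)
  let s : CokernelCofork (Ψ.map (K.toCycles i q)) := CokernelCofork.ofπ (inv γ ≫ ΨK.homologyπ q) hw
  have hfac3 : Ψ.map (K.homologyπ q) ≫ c3.desc s = inv γ ≫ ΨK.homologyπ q :=
    c3.fac s WalkingParallelPair.one
  have hπ' : Epi (ΨK.homologyπ q) := inferInstance
  refine ⟨c3.desc s, ?_, ?_⟩
  · rw [← cancel_epi (ΨK.homologyπ q)]
    exact (Category.assoc _ _ _).symm.trans ((eq_whisker hcmp _).trans
      ((Category.assoc _ _ _).trans ((whisker_eq _ hfac3).trans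
        ((IsIso.hom_inv_id_assoc γ _).trans (Category.comp_id _).symm))))
  · rw [← cancel_epi (Ψ.map (K.homologyπ q))]
    exact (Category.assoc _ _ _).symm.trans ((eq_whisker hfac3 _).trans
      ((Category.assoc _ _ _).trans ((whisker_eq _ hcmp).trans
        ((IsIso.inv_hom_id_assoc γ _).trans (Category.comp_id _).symm))))

end Complex

section Acyclic

open Groth.Agent.Lib.Helper83 Groth.Agent.Lib.Helper5

variable [HasInjectiveResolutions B] [PreservesFiniteLimits Ψ]

/-- The `Ψ`-acyclic objects form an exact class for the left exact functor `Ψ`. -/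
theorem exactClass_acyclic :
    ExactClass Ψ (fun X : B => ∀ k : ℕ, IsZero ((Ψ.rightDerived (k + 1)).obj X)) where
  zero X hX k := (Ψ.rightDerived (k + 1)).map_isZero hX
  of_ses₃ S hS h1 h2 k :=
    ((derivedLES Ψ).exact₃ S hS (k + 1) (k + 2) rfl).isZero_X₂
      ((h2 k).eq_of_src _ _) ((h1 (k + 1)).eq_of_tgt _ _)
  of_ses₂ S hS h1 h3 k :=
    ((derivedLES Ψ).exact₂ S hS (k + 1)).isZero_X₂ ((h1 k).eq_of_src _ _) ((h3 k).eq_of_tgt _ _)
  epi S hS h1 := epi_map_g_of_isZero_rightDerived_one Ψ hS (h1 0)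

end Acyclic

end Groth.Agent.Lib.Lead.HomologyCmp
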