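import Groth.Agent.Lib.Lead.HomologyCmp
import Groth.Agent.Lib.Helper83.ModCoh
import Groth.Agent.S0863
import Groth.Agent.S0865
import Groth.Prelude.Def_Coh

/-!
# O-modules whose underlying abelian sheaf is acyclic for a direct image form an exact class (lead)

For `g : Y ⟶ Z`, `PushAcyc g N` says that the higher direct images (of abelian sheaves) of the
abelian sheaf underlying the `O_Y`-module `N` vanish.  These modules form an exact class
(`HomologyCmp.ExactClass`) for the direct image `g_*` of `O`-modules, so no injective resolutions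
of `O_Y`-modules are needed.  Direct images `f_* J` of injective `O_X`-modules are in the class.
-/

universe u

namespace Groth.Agent.Lib.Lead.ModExactClass

open CategoryTheory Limits AlgebraicGeometry TopologicalSpace

variable {X Y Z : Scheme.{u}}

instance preservesFiniteLimits_pushAb (g : Y ⟶ Z) : PreservesFiniteLimits (Coh.pushAb g) := by
  have := (TopCat.Sheaf.pullbackPushforwardAdjunction AddCommGrpCat.{u} g.base).rightAdjoint_preservesLimits
  change PreservesFiniteLimits (TopCat.Sheaf.pushforward AddCommGrpCat.{u} g.base)
  infer_instance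

/-- the abelian sheaf underlying `N` is acyclic for direct image along `g` -/
def PushAcyc (g : Y ⟶ Z) (N : Y.Modules) : Prop :=
  ∀ k : ℕ, IsZero ((Coh.RpushAb g (k + 1)).obj (Coh.toAb N))

lemma PushAcyc.of_iso {g : Y ⟶ Z} {N N' : Y.Modules} (h : PushAcyc g N) (e : N' ≅ N) :
    PushAcyc g N' := fun k =>
  IsZero.of_iso (h k) ((Coh.RpushAb g (k + 1)).mapIso
    ((SheafOfModules.toSheaf Y.ringCatSheaf).mapIso e))

theorem exactClass_pushAcyc (g : Y ⟶ Z) :
    HomologyCmp.ExactClass (Scheme.Modules.pushforward g) (PushAcyc g) := by
  have hab := HomologyCmp.exactClass_acyclic (Coh.pushAb g)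
  let E : Y.Modules ⥤ Sheaf (Opens.grothendieckTopology Y) AddCommGrpCat.{u} :=
    SheafOfModules.toSheaf Y.ringCatSheaf
  have hEa : E.Additive := inferInstanceAs (SheafOfModules.toSheaf Y.ringCatSheaf).Additive
  have hEl : PreservesFiniteLimits E :=
    inferInstanceAs (PreservesFiniteLimits (SheafOfModules.toSheaf Y.ringCatSheaf))
  have hEc : PreservesFiniteColimits E :=
    inferInstanceAs (PreservesFiniteColimits (SheafOfModules.toSheaf Y.ringCatSheaf))
  refine ⟨fun N hN => hab.zero _ (E.map_isZero hN), fun S hS h1 h2 => ?_, fun S hS h1 h3 => ?_,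
    fun S hS h1 => ?_⟩
  · exact hab.of_ses₃ (S.map E) (hS.map_of_exact E) h1 h2
  · exact hab.of_ses₂ (S.map E) (hS.map_of_exact E) h1 h3
  · have h := hab.epi (S.map E) (hS.map_of_exact E) h1
    have h' : Epi ((SheafOfModules.toSheaf Z.ringCatSheaf).map
        ((Scheme.Modules.pushforward g).map S.g)) := h
    exact (SheafOfModules.toSheaf Z.ringCatSheaf).epi_of_epi_map h'

/-- direct images of injective modules are acyclic for any further direct image -/
theorem pushAcyc_pushforward_injective (f : X ⟶ Y) (g : Y ⟶ Z) (J : X.Modules) [Injective J] :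
    PushAcyc g ((Scheme.Modules.pushforward f).obj J) := by
  intro k
  haveI : PreservesFiniteLimits (Opens.map f.base) := preservesFiniteLimits_of_flat _
  have hJ : Injective (C := SheafOfModules.{u} X.ringCatSheaf) J := ‹_›
  have h1 := Groth.Agent.S0863.result (Opens.grothendieckTopology X) (Opens.grothendieckTopology Y)
    (Opens.map f.base) (coverPreserving_opens_map f.base) X.ringCatSheaf J
  exact Groth.Agent.S0865.result _ _ (Opens.map g.base) _ h1 k

end Groth.Agent.Lib.Lead.ModExactClass
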