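import Groth.Agent.Lib.Helper37.AmpleAffine
import Groth.Agent.Lib.Helper17.ProjQuot

/-!
# Coherent modules on `Proj` are quotients of sums of arbitrarily negative twists (lead)

`exists_epi_twists_le`: for `Proj 𝒜` with finitely generated irrelevant ideal, every coherent module
`F` and every `N : ℕ` there is an epimorphism `∐_j O(d_j) ⟶ F` with all `d_j ≤ -N`.
(Refines helper17's `ProjQuot.exists_epi_twists`, which does not control the twists, using
helper37's `exists_resolution_ge`.)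
-/

set_option autoImplicit false
set_option linter.unusedSectionVars false
universe u
open AlgebraicGeometry CategoryTheory Limits TopologicalSpace Opposite

namespace Groth.Agent.Lib.Lead.NegTwists

open Groth.Agent.Lib.Helper11 Groth.Agent.Lib.Helper11.GenLocus Groth.Agent.Lib.Helper45
  Groth.Agent.Lib.Helper49 Groth.Agent.Lib.Helper17.TwistLoc
  Groth.Agent.Lib.Helper11.NegPowers Groth.Agent.Lib.Helper17.ProjQuot

variable {R A : Type u} [CommRing R] [CommRing A] [Algebra R A] {𝒜 : ℕ → Submodule R A}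
  [GradedAlgebra 𝒜]

/-- `O(-e)^{⊗ k} ≅ O(-(k e))`. -/
theorem nonempty_tensorPow_neg_iso {e : ℕ} (h : GoodDeg 𝒜 e) (k : ℕ) :
    Nonempty (CohB1.tensorPow (Twist.twist 𝒜 (-(e : ℤ))) k ≅
      Twist.twist 𝒜 (-((k : ℤ) * (e : ℤ)))) := by
  induction k with
  | zero =>
    obtain ⟨z⟩ := Groth.Agent.Lib.Helper17.TwistTensor.nonempty_twist_zero_iso 𝒜
    have h0 : -(((0 : ℕ) : ℤ) * (e : ℤ)) = 0 := by simp
    rw [h0]
    exact ⟨z.symm⟩
  | succ k ih =>
    obtain ⟨φ⟩ := ih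
    have hloc : LocGen 𝒜 (-(e : ℤ)) := by
      have := h.loc (-1)
      rwa [neg_one_mul] at this
    obtain ⟨ψ⟩ := nonempty_tensor_iso_right 𝒜 (-((k : ℤ) * (e : ℤ))) (-(e : ℤ)) hloc
    have h1 : -((k : ℤ) * (e : ℤ)) + -(e : ℤ) = -(((k + 1 : ℕ) : ℤ) * (e : ℤ)) := by
      push_cast; ring
    rw [h1] at ψ
    exact ⟨Groth.Agent.Lib.Helper17.TwistTensor.tensorModCongr φ (Iso.refl _) ≪≫ ψ⟩

section Main

attribute [local instance] Abelian.hasFiniteBiproducts

/-- **every coherent module on `Proj` (irrelevant ideal finitely generated) is a quotient of a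
finite sum of twists `O(d_j)` with all `d_j ≤ -N`.** -/
theorem exists_epi_twists_le (hfg : (HomogeneousIdeal.irrelevant 𝒜).toIdeal.FG)
    (F : (Proj 𝒜).Modules) (hF : Coh.IsCoh F) (N : ℕ) :
    ∃ (r : ℕ) (d : Fin r → ℤ) (φ : (∐ fun j : Fin r => Twist.twist 𝒜 (d j)) ⟶ F),
      Epi φ ∧ ∀ j, d j ≤ -(N : ℤ) := by
  classical
  obtain ⟨e, he⟩ := exists_goodDeg 𝒜 hfg
  have := he.compact
  have : F.IsQuasicoherent := hF.1
  have hamp := he.isAmple
  have hlocneg : LocGen 𝒜 (-(e : ℤ)) := by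
    have := he.loc (-1)
    rwa [neg_one_mul] at this
  obtain ⟨t⟩ := nonempty_tensor_iso_right 𝒜 (e : ℤ) (-(e : ℤ)) hlocneg
  rw [add_neg_cancel] at t
  obtain ⟨z⟩ := Groth.Agent.Lib.Helper17.TwistTensor.nonempty_twist_zero_iso 𝒜
  let ε₀ : CohB1.tensorMod (Twist.twist 𝒜 (e : ℤ)) (Twist.twist 𝒜 (-(e : ℤ))) ≅
      Coh.structureModule (Proj 𝒜) := t ≪≫ z
  obtain ⟨k, Nn, π, hN, hπ⟩ :=
    Groth.Agent.Lib.Helper37.AmpleAffine.exists_resolution_ge F hF.2 (Twist.twist 𝒜 (e : ℤ))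
      (Twist.twist 𝒜 (-(e : ℤ))) hamp ε₀ N
  choose m hm hNm using hN
  have ψ : ∀ j, Nn j ≅ Twist.twist 𝒜 (-((m j : ℤ) * (e : ℤ))) := fun j =>
    eqToIso (hNm j) ≪≫ (nonempty_tensorPow_neg_iso he (m j)).some
  refine ⟨k, fun j => -((m j : ℤ) * (e : ℤ)),
    Sigma.desc (fun j => (ψ j).inv ≫ biproduct.ι Nn j ≫ π), ⟨fun g h hgh => ?_⟩, fun j => ?_⟩
  · rw [← cancel_epi π]
    apply biproduct.hom_ext'
    intro j
    have h1 := congrArg
      (fun t => Sigma.ι (fun j : Fin k => Twist.twist 𝒜 (-((m j : ℤ) * (e : ℤ)))) j ≫ t) hgh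
    simp only [Sigma.ι_desc_assoc, Category.assoc] at h1
    exact (cancel_epi (ψ j).inv).mp h1
  · have he1 : (1 : ℤ) ≤ (e : ℤ) := by exact_mod_cast he.pos
    have hmj : (N : ℤ) ≤ (m j : ℤ) := by exact_mod_cast hm j
    have : (N : ℤ) ≤ (m j : ℤ) * (e : ℤ) := by nlinarith
    exact neg_le_neg this

end Main

end Groth.Agent.Lib.Lead.NegTwists
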