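import Groth.Agent.Lib.Lead.NegTwists
import Groth.Agent.Lib.Helper17.PnVanish
import Groth.Agent.Lib.Helper17.PnIrrelevant

/-!
# Cohomological dimension of `P^n_R` for quasi-coherent modules (lead)

* `subsingleton_HH_of_ample_gt`: threshold variant of helper37's `subsingleton_HH_of_ample`
  (vanishing above a degree `c` for negative powers of an ample module implies vanishing above `c`
  for every quasi-coherent module).
* `subsingleton_HH_projSpace_of_gt`: `H^p(P^n_R, F) = 0` for every quasi-coherent `F` and `p > n`.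
-/

set_option autoImplicit false
set_option linter.unusedSectionVars false
universe u
open AlgebraicGeometry CategoryTheory Limits TopologicalSpace Opposite

namespace Groth.Agent.Lib.Lead.PnVanishGt

open Groth.Agent.Lib.Helper1 Groth.Agent.Lib.Helper45 Groth.Agent.Lib.Helper37.SerreFT
open Groth.Agent.Lib.Helper49 Groth.Agent.Lib.Helper11.GenLocus
open Groth.Agent.Lib.Helper11.NegPowers MonoidalCategory
open Groth.Agent.Lib.Helper37.AmpleAffine
open Groth.Agent.Lib.Helper17.TwistLoc Groth.Agent.Lib.Helper17.ProjQuot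

attribute [local instance] Abelian.hasFiniteBiproducts

variable {X : Scheme.{u}}

/-- threshold variant of `subsingleton_HH_of_ample`. -/
theorem subsingleton_HH_of_ample_gt (L L' : X.Modules) (hL : CohB1.IsAmple L)
    (ε₀ : CohB1.tensorMod L L' ≅ Coh.structureModule X) (n₀ c : ℕ)
    (h : ∀ n : ℕ, n₀ ≤ n → ∀ p : ℕ, c < p → Subsingleton (Coh.HH X (CohB1.tensorPow L' n) p))
    (p : ℕ) (hp : c < p) (F : X.Modules) (hqF : F.IsQuasicoherent) :
    Subsingleton (Coh.HH X F p) := by
  haveI : CompactSpace X := hL.2.1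
  haveI : QuasiSeparatedSpace X := quasiSeparatedSpace_of_isAmple hL
  have hL' : PicF.IsInvertible L' :=
    isInvertible_of_tensor_iso L' L (tensorModBraid L' L ≪≫ ε₀)
  obtain ⟨d, hd⟩ := Groth.Agent.Lib.Helper1.exists_vanishing_qcqs X
  have key : ∀ (m p : ℕ), c < p → d ≤ p + m → ∀ F : X.Modules, F.IsQuasicoherent →
      Subsingleton (Coh.HH X F p) := by
    intro m
    induction m with
    | zero => intro p _ hdp F hqF; exact hd F hqF p hdp
    | succ m ih =>
      intro p hp hdp F hqF
      have ih' := ih (p + 1) (Nat.lt_succ_of_lt hp) (by omega)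
      haveI := hqF
      refine subsingleton_HH_of_forall_ft p (fun M hqM hM => ?_) F
      haveI := hqM
      obtain ⟨k, N, π, hN, hπ⟩ := exists_resolution_ge M hM L L' hL ε₀ n₀
      have hNq : (⨁ N).IsQuasicoherent := by
        refine Groth.Agent.Lib.Helper11.AffineCrit.isQuasicoherent_biproduct' N fun j => ?_
        obtain ⟨m', -, hm'⟩ := hN j
        rw [hm']
        exact isQuasicoherent_of_isInvertible (isInvertible_tensorPow hL' m')
      let S : ShortComplex X.Modules := ShortComplex.mk (kernel.ι π) π (kernel.condition _)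
      have hS : S.ShortExact := ShortComplex.ShortExact.mk' (ShortComplex.exact_kernel π)
        (inferInstanceAs (Mono (kernel.ι π))) hπ
      refine subsingleton_HH_X₃ hS p ?_ ?_
      · refine subsingleton_HH_biproduct N p fun j => ?_
        obtain ⟨m', hm', hj⟩ := hN j
        rw [hj]
        exact h m' hm' p hp
      · exact ih' (kernel π) (isQuasicoherent_kernel π hNq hqM)
  exact key d p hp (Nat.le_add_left d p) F hqF

/-- transport of vanishing of cohomology along an isomorphism of modules. -/
theorem subsingleton_HH_of_iso {M N : X.Modules} (e : M ≅ N) (p : ℕ)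
    (h : Subsingleton (Coh.HH X N p)) : Subsingleton (Coh.HH X M p) := by
  let Φ : X.Modules ⥤ AddCommGrpCat.{u} :=
    Groth.Agent.Lib.Helper1.toAbF X ⋙ Sheaf.functorH (Opens.grothendieckTopology X) p
  have e' : Φ.obj M ≅ Φ.obj N := Φ.mapIso e
  exact @Equiv.subsingleton _ _ e'.addCommGroupIsoToAddEquiv.toEquiv h

/-- **`H^p(P^n_R, F) = 0` for `F` quasi-coherent and `p > n`.** -/
theorem subsingleton_HH_projSpace_of_gt (n : ℕ) (R : Type u) [CommRing R]
    (F : (CohB1.ProjSpace n R).Modules) (hqF : F.IsQuasicoherent) (p : ℕ) (hp : n < p) :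
    Subsingleton (Coh.HH (CohB1.ProjSpace n R) F p) := by
  classical
  have hfg : (HomogeneousIdeal.irrelevant (CohB1.polyGrading n R)).toIdeal.FG := by
    refine ⟨Finset.univ.image (Groth.Agent.Lib.Helper17.PnSections.T n R), le_antisymm ?_ ?_⟩
    · rw [Ideal.span_le]
      intro x hx
      simp only [Finset.coe_image, Finset.coe_univ, Set.image_univ, Set.mem_range] at hx
      obtain ⟨i, rfl⟩ := hx
      change Groth.Agent.Lib.Helper17.PnSections.T n R i ∈
        (HomogeneousIdeal.irrelevant (CohB1.polyGrading n R))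
      rw [HomogeneousIdeal.mem_irrelevant_iff, GradedRing.proj_apply]
      exact DirectSum.decompose_of_mem_ne (CohB1.polyGrading n R)
        (Groth.Agent.Lib.Helper17.PnSections.T_mem n R i) (by norm_num)
    · have := Groth.Agent.Lib.Helper17.PnIrrelevant.irrelevant_le_span n R
      simpa using this
  obtain ⟨e, he⟩ := exists_goodDeg (CohB1.polyGrading n R) hfg
  have hamp := he.isAmple
  have hlocneg : LocGen (CohB1.polyGrading n R) (-(e : ℤ)) := by
    have := he.loc (-1)
    rwa [neg_one_mul] at this
  obtain ⟨t⟩ := nonempty_tensor_iso_right (CohB1.polyGrading n R) (e : ℤ) (-(e : ℤ)) hlocneg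
  rw [add_neg_cancel] at t
  obtain ⟨z⟩ := Groth.Agent.Lib.Helper17.TwistTensor.nonempty_twist_zero_iso
    (CohB1.polyGrading n R)
  refine subsingleton_HH_of_ample_gt (X := Proj (CohB1.polyGrading n R))
    (Twist.twist (CohB1.polyGrading n R) (e : ℤ))
    (Twist.twist (CohB1.polyGrading n R) (-(e : ℤ))) hamp (t ≪≫ z) 0 n ?_ p hp F hqF
  intro m _ q hq
  obtain ⟨ψ⟩ := Groth.Agent.Lib.Lead.NegTwists.nonempty_tensorPow_neg_iso he m
  refine subsingleton_HH_of_iso ψ q ?_
  exact Groth.Agent.Lib.Helper17.PnVanish.subsingleton_HH n R _ q (by omega) (by omega)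

end Groth.Agent.Lib.Lead.PnVanishGt
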