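import Groth.Prelude.Def_Tors
import Mathlib

/-!
# Torsors under an abelian sheaf and `H¹`

`H¹(G) = Ext¹(ℤ, G) = 0` iff every `G`-torsor has a global section.
-/

set_option autoImplicit false
universe u
open CategoryTheory CategoryTheory.Limits Opposite

namespace Groth.Agent.Lib.Lead.TorsorH1

variable {C : Type u} [SmallCategory C] {J : GrothendieckTopology C}

/-- the constant presheaf `ℤ` -/
noncomputable abbrev Z₀ (C : Type u) [SmallCategory C] : Cᵒᵖ ⥤ AddCommGrpCat.{u} :=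
  (Functor.const Cᵒᵖ).obj (AddCommGrpCat.of (ULift.{u} ℤ))

/-- the constant sheaf `ℤ` -/
noncomputable abbrev Zs (J : GrothendieckTopology C) : Sheaf J AddCommGrpCat.{u} :=
  (constantSheaf J AddCommGrpCat.{u}).obj (AddCommGrpCat.of (ULift.{u} ℤ))

noncomputable abbrev adj (J : GrothendieckTopology C) :=
  sheafificationAdjunction J AddCommGrpCat.{u}

section Global

variable {F F' : Sheaf J AddCommGrpCat.{u}}

/-- presheaf-level transpose of a map out of the constant sheaf `ℤ` -/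
noncomputable def pre (q : Zs J ⟶ F) : Z₀ C ⟶ F.obj := (adj J).homEquiv (Z₀ C) F q

/-- the global section (compatible family) attached to a map out of `ℤ` -/
noncomputable def secOf (q : Zs J ⟶ F) (U : Cᵒᵖ) : F.obj.obj U :=
  (pre q).app U (ULift.up 1)

theorem secOf_map (q : Zs J ⟶ F) {U V : Cᵒᵖ} (φ : U ⟶ V) :
    F.obj.map φ (secOf q U) = secOf q V := by
  have := congrArg (fun ψ => ψ (ULift.up (1 : ℤ))) (congrArg (fun ψ => ψ.hom) ((pre q).naturality φ))
  exact this.symm

theorem pre_app (q : Zs J ⟶ F) (U : Cᵒᵖ) (n : ULift.{u} ℤ) :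
    (pre q).app U n = n.down • secOf q U := by
  change _ = n.down • (pre q).app U (ULift.up 1)
  rw [← map_zsmul]
  congr 1
  change n = n.down • (ULift.up 1 : ULift.{u} ℤ)
  apply ULift.ext
  simp

/-- the presheaf map `ℤ → F` attached to a compatible family -/
noncomputable def preOfSec (t : ∀ U : Cᵒᵖ, F.obj.obj U)
    (ht : ∀ {U V : Cᵒᵖ} (φ : U ⟶ V), F.obj.map φ (t U) = t V) : Z₀ C ⟶ F.obj where
  app U := AddCommGrpCat.ofHom
    ((zmultiplesHom (F.obj.obj U) (t U)).comp AddEquiv.ulift.toAddMonoidHom)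
  naturality := by
    intro U V φ
    ext n
    change (zmultiplesHom _ (t V)) n.down = F.obj.map φ ((zmultiplesHom _ (t U)) n.down)
    simp only [zmultiplesHom_apply]
    rw [map_zsmul, ht φ]

/-- the map `ℤ → F` of sheaves attached to a compatible family of sections -/
noncomputable def homOfSec (t : ∀ U : Cᵒᵖ, F.obj.obj U)
    (ht : ∀ {U V : Cᵒᵖ} (φ : U ⟶ V), F.obj.map φ (t U) = t V) : Zs J ⟶ F :=
  ((adj J).homEquiv (Z₀ C) F).symm (preOfSec t ht)

theorem secOf_homOfSec (t : ∀ U : Cᵒᵖ, F.obj.obj U)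
    (ht : ∀ {U V : Cᵒᵖ} (φ : U ⟶ V), F.obj.map φ (t U) = t V) (U : Cᵒᵖ) :
    secOf (homOfSec t ht) U = t U := by
  have h : pre (homOfSec t ht) = preOfSec t ht :=
    ((adj J).homEquiv (Z₀ C) F).apply_symm_apply _
  change (pre (homOfSec t ht)).app U (ULift.up 1) = _
  rw [h]
  change (zmultiplesHom _ (t U)) (1 : ℤ) = t U
  simp

theorem hom_ext_secOf (q q' : Zs J ⟶ F) (h : ∀ U, secOf q U = secOf q' U) : q = q' := by
  apply ((adj J).homEquiv (Z₀ C) F).injective
  change pre q = pre q'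
  ext U n
  rw [pre_app, pre_app, h]

theorem pre_comp (q : Zs J ⟶ F) (π : F ⟶ F') : pre (q ≫ π) = pre q ≫ π.hom := by
  let q₀ : (presheafToSheaf J AddCommGrpCat.{u}).obj (Z₀ C) ⟶ F := q
  change (adj J).homEquiv (Z₀ C) F' (q₀ ≫ π) = _
  rw [Adjunction.homEquiv_naturality_right]
  rfl

theorem secOf_comp (q : Zs J ⟶ F) (π : F ⟶ F') (U : Cᵒᵖ) :
    secOf (q ≫ π) U = π.hom.app U (secOf q U) := by
  change (pre (q ≫ π)).app U (ULift.up 1) = _
  rw [pre_comp]
  rfl

end Global

section Family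

variable {G : Sheaf J AddCommGrpCat.{u}}

/-- the constant sheaf `PUnit` -/
noncomputable abbrev S1 (J : GrothendieckTopology C) : Sheaf J (Type u) :=
  Sheaf.terminal J Types.isTerminalPUnit

theorem family_of_hasSection (T : Tors.Torsor G) (h : T.HasSection) :
    ∃ p : ∀ U : Cᵒᵖ, T.P.obj.obj U, ∀ {U V : Cᵒᵖ} (φ : U ⟶ V), T.P.obj.map φ (p U) = p V := by
  obtain ⟨s⟩ := h
  let s' : S1 J ⟶ T.P := terminal.from _ ≫ s
  refine ⟨fun U => s'.hom.app U PUnit.unit, ?_⟩
  intro U V f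
  exact (ConcreteCategory.congr_hom (s'.hom.naturality f) PUnit.unit).symm

theorem hasSection_of_family (T : Tors.Torsor G) (p : ∀ U : Cᵒᵖ, T.P.obj.obj U)
    (hp : ∀ {U V : Cᵒᵖ} (φ : U ⟶ V), T.P.obj.map φ (p U) = p V) : T.HasSection := by
  let s' : S1 J ⟶ T.P :=
    ⟨{ app := fun U => TypeCat.ofHom (fun _ => p U)
       naturality := fun U V f => by
         refine ConcreteCategory.hom_ext _ _ (fun x => ?_)
         exact (hp f).symm }⟩
  exact ⟨(terminalIsTerminal.uniqueUpToIso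
    (Sheaf.isTerminalTerminal J Types.isTerminalPUnit)).hom ≫ s'⟩

end Family

section Sections

variable (S : ShortComplex (Sheaf J AddCommGrpCat.{u})) (hS : S.ShortExact)

include hS in
theorem sections_exact (U : Cᵒᵖ) (i : S.X₂.obj.obj U) (hi : S.g.hom.app U i = 0) :
    ∃ g : S.X₁.obj.obj U, S.f.hom.app U g = i := by
  let Fs : Sheaf J AddCommGrpCat.{u} ⥤ AddCommGrpCat.{u} :=
    sheafToPresheaf J AddCommGrpCat.{u} ⋙ (evaluation Cᵒᵖ AddCommGrpCat.{u}).obj U
  haveI : Fs.PreservesZeroMorphisms := ⟨fun _ _ => rfl⟩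
  have hex : (S.map Fs).Exact :=
    hS.exact.map_of_mono_of_preservesKernel Fs hS.mono_f inferInstance
  exact (ShortComplex.ab_exact_iff _).1 hex i hi

include hS in
theorem sections_injective (U : Cᵒᵖ) : Function.Injective (S.f.hom.app U) := by
  let Fs : Sheaf J AddCommGrpCat.{u} ⥤ AddCommGrpCat.{u} :=
    sheafToPresheaf J AddCommGrpCat.{u} ⋙ (evaluation Cᵒᵖ AddCommGrpCat.{u}).obj U
  haveI := hS.mono_f
  have : Mono (Fs.map S.f) := inferInstance
  exact (AddCommGrpCat.mono_iff_injective _).1 this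

theorem sections_zero (U : Cᵒᵖ) (g : S.X₁.obj.obj U) : S.g.hom.app U (S.f.hom.app U g) = 0 := by
  have h1 : S.f.hom.app U ≫ S.g.hom.app U = 0 := by
    have := congrArg (fun φ => φ.hom.app U) S.zero
    exact this
  exact congrArg (fun ψ => ψ.hom g) h1

end Sections

section TorsorOfHom

variable (S : ShortComplex (Sheaf J AddCommGrpCat.{u})) (hS : S.ShortExact) (q : Zs J ⟶ S.X₃)

/-- the subfunctor of `S.X₂` of local liftings of the global section `q` of `S.X₃` -/
def liftSub : Subfunctor (S.X₂.obj ⋙ forget AddCommGrpCat.{u}) where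
  obj U := {i : S.X₂.obj.obj U | S.g.hom.app U i = secOf q U}
  map := by
    intro U V φ i hi
    change S.g.hom.app V (S.X₂.obj.map φ i) = secOf q V
    have hn : S.X₂.obj.map φ ≫ S.g.hom.app V = S.g.hom.app U ≫ S.X₃.obj.map φ :=
      S.g.hom.naturality φ
    have h2 := congrArg (fun ψ => ψ.hom i) hn
    refine h2.trans ?_
    change S.X₃.obj.map φ (S.g.hom.app U i) = _
    rw [show S.g.hom.app U i = secOf q U from hi, secOf_map]

theorem liftSub_isSheaf : Presieve.IsSheaf J (liftSub S q).toFunctor := by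
  have h2 : Presieve.IsSheaf J (S.X₂.obj ⋙ forget AddCommGrpCat.{u}) :=
    (isSheaf_iff_isSheaf_of_type _ _).1
      ((sheafCompose J (forget AddCommGrpCat.{u})).obj S.X₂).property
  have h3 : Presieve.IsSheaf J (S.X₃.obj ⋙ forget AddCommGrpCat.{u}) :=
    (isSheaf_iff_isSheaf_of_type _ _).1
      ((sheafCompose J (forget AddCommGrpCat.{u})).obj S.X₃).property
  rw [Subfunctor.isSheaf_iff _ h2]
  intro U i hi
  change S.g.hom.app U i = secOf q U
  refine (h3 _ hi).isSeparatedFor.ext ?_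
  intro V f hf
  have hf' : S.g.hom.app (op V) (S.X₂.obj.map f.op i) = secOf q (op V) := hf
  have hn : S.X₂.obj.map f.op ≫ S.g.hom.app (op V) = S.g.hom.app U ≫ S.X₃.obj.map f.op :=
    S.g.hom.naturality f.op
  have h2 := congrArg (fun ψ => ψ.hom i) hn
  change S.X₃.obj.map f.op (S.g.hom.app U i) = S.X₃.obj.map f.op (secOf q U)
  rw [secOf_map]
  exact h2.symm.trans hf'

theorem vadd_mem (U : Cᵒᵖ) (g : S.X₁.obj.obj U) (i : S.X₂.obj.obj U)
    (hi : S.g.hom.app U i = secOf q U) :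
    S.g.hom.app U (S.f.hom.app U g + i) = secOf q U := by
  rw [map_add, sections_zero, zero_add, hi]

/-- the torsor of local liftings of `q : ℤ ⟶ S.X₃` to `S.X₂`, under `S.X₁` -/
noncomputable def torsorOf : Tors.Torsor S.X₁ where
  P := ⟨(liftSub S q).toFunctor, (isSheaf_iff_isSheaf_of_type _ _).2 (liftSub_isSheaf S q)⟩
  vadd {U} g p := ⟨S.f.hom.app U g + p.1, vadd_mem S q U g p.1 p.2⟩
  zero_vadd {U} p := by
    apply Subtype.ext
    change S.f.hom.app U 0 + p.1 = p.1
    rw [map_zero, zero_add]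
  add_vadd {U} g h p := by
    apply Subtype.ext
    change S.f.hom.app U (g + h) + p.1 = S.f.hom.app U g + (S.f.hom.app U h + p.1)
    rw [map_add, add_assoc]
  map_vadd {U V} φ g p := by
    apply Subtype.ext
    change S.X₂.obj.map φ (S.f.hom.app U g + p.1) =
      S.f.hom.app V (S.X₁.obj.map φ g) + S.X₂.obj.map φ p.1
    rw [map_add]
    congr 1
    have hn : S.X₁.obj.map φ ≫ S.f.hom.app V = S.f.hom.app U ≫ S.X₂.obj.map φ :=
      S.f.hom.naturality φ
    exact (congrArg (fun ψ => ψ.hom g) hn).symm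
  free_transitive {U} p p' := by
    let a : S.X₂.obj.obj U := p.1
    let a' : S.X₂.obj.obj U := p'.1
    have ha : S.g.hom.app U a = secOf q U := p.2
    have ha' : S.g.hom.app U a' = secOf q U := p'.2
    have hd : S.g.hom.app U (a' - a) = 0 := by rw [map_sub, ha, ha', sub_self]
    obtain ⟨g, hg⟩ := sections_exact S hS U _ hd
    refine ⟨g, ?_, ?_⟩
    · apply Subtype.ext
      change S.f.hom.app U g + a = a'
      rw [hg, sub_add_cancel]
    · intro g' hg'
      apply sections_injective S hS U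
      rw [hg]
      have this : S.f.hom.app U g' + a = a' := congrArg Subtype.val hg'
      rw [← this, add_sub_cancel_right]
  locally_nonempty U := by
    haveI := hS.epi_g
    haveI : Sheaf.IsLocallySurjective S.g :=
      (Sheaf.isLocallySurjective_iff_epi' (φ := S.g)).2 inferInstance
    refine ⟨Presheaf.imageSieve S.g.hom (secOf q (op U)),
      Presheaf.imageSieve_mem J S.g.hom (secOf q (op U)), ?_⟩
    intro V f hf
    obtain ⟨t, ht⟩ := hf
    refine ⟨⟨t, ?_⟩⟩
    change S.g.hom.app (op V) t = secOf q (op V)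
    rw [← secOf_map q f.op]
    exact ht

include hS in
theorem exists_lift_of_hasSection (hsec : (torsorOf S hS q).HasSection) :
    ∃ h : Zs J ⟶ S.X₂, h ≫ S.g = q := by
  obtain ⟨p, hp⟩ := family_of_hasSection _ hsec
  let t : ∀ U : Cᵒᵖ, S.X₂.obj.obj U := fun U => (p U).1
  have ht : ∀ {U V : Cᵒᵖ} (φ : U ⟶ V), S.X₂.obj.map φ (t U) = t V := by
    intro U V φ
    exact congrArg Subtype.val (hp φ)
  refine ⟨homOfSec t ht, ?_⟩
  apply hom_ext_secOf
  intro U
  rw [secOf_comp, secOf_homOfSec]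
  exact (p U).2

end TorsorOfHom

section Converse

open Abelian

theorem subsingleton_H1_of_sections (G : Sheaf J AddCommGrpCat.{u})
    (h : ∀ T : Tors.Torsor G, T.HasSection) : Subsingleton (Sheaf.H.{u} G 1) := by
  refine subsingleton_of_forall_eq 0 (fun x => ?_)
  let ι := Injective.ι G
  let S : ShortComplex (Sheaf J AddCommGrpCat.{u}) :=
    ShortComplex.mk ι (cokernel.π ι) (cokernel.condition ι)
  have hS : S.ShortExact :=
    { exact := ShortComplex.exact_cokernel ι
      mono_f := inferInstanceAs (Mono ι)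
      epi_g := inferInstanceAs (Epi (cokernel.π ι)) }
  have hx : x.comp (Ext.mk₀ S.f) (add_zero 1) = 0 := Ext.eq_zero_of_injective _
  obtain ⟨x₃, hx₃⟩ := Ext.covariant_sequence_exact₁ _ hS x hx (zero_add 1)
  obtain ⟨q, rfl⟩ := (Ext.mk₀_bijective _ _).2 x₃
  obtain ⟨l, hl⟩ := exists_lift_of_hasSection S hS q (h (torsorOf S hS q))
  rw [← hx₃]
  have e1 : Ext.mk₀ q = (Ext.mk₀ l).comp (Ext.mk₀ S.g) (add_zero 0) := by
    rw [Ext.mk₀_comp_mk₀]
    exact congrArg _ hl.symm
  have e2 : (Ext.mk₀ S.g).comp hS.extClass (zero_add 1) = 0 := hS.comp_extClass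
  rw [e1, Ext.comp_assoc (Ext.mk₀ l) (Ext.mk₀ S.g) hS.extClass
    (add_zero 0) (zero_add 1) (by omega : 0 + 0 + 1 = 1), e2, Ext.comp_zero]

end Converse

section Diff

variable {G : Sheaf J AddCommGrpCat.{u}} (T : Tors.Torsor G)

/-- the difference `p' - p` of two sections of a torsor -/
noncomputable def diff {U : Cᵒᵖ} (p' p : T.P.obj.obj U) : G.obj.obj U :=
  (T.free_transitive p p').choose

theorem diff_vadd {U : Cᵒᵖ} (p' p : T.P.obj.obj U) : T.vadd (diff T p' p) p = p' :=
  (T.free_transitive p p').choose_spec.1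

theorem diff_unique {U : Cᵒᵖ} (p' p : T.P.obj.obj U) (g : G.obj.obj U) (hg : T.vadd g p = p') :
    g = diff T p' p :=
  (T.free_transitive p p').choose_spec.2 g hg

theorem diff_self {U : Cᵒᵖ} (p : T.P.obj.obj U) : diff T p p = 0 :=
  (diff_unique T p p 0 (T.zero_vadd p)).symm

theorem diff_add {U : Cᵒᵖ} (p'' p' p : T.P.obj.obj U) :
    diff T p'' p' + diff T p' p = diff T p'' p := by
  apply diff_unique
  rw [T.add_vadd, diff_vadd, diff_vadd]

theorem diff_sub {U : Cᵒᵖ} (p'' p' p : T.P.obj.obj U) :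
    diff T p'' p - diff T p' p = diff T p'' p' := by
  rw [← diff_add T p'' p' p, add_sub_cancel_right]

theorem diff_map {U V : Cᵒᵖ} (φ : U ⟶ V) (p' p : T.P.obj.obj U) :
    G.obj.map φ (diff T p' p) = diff T (T.P.obj.map φ p') (T.P.obj.map φ p) := by
  apply diff_unique
  rw [← T.map_vadd, diff_vadd]

theorem vadd_neg_indep {U : Cᵒᵖ} (ψ : T.P.obj.obj U → G.obj.obj U)
    (hψ : ∀ p' p, ψ p' - ψ p = diff T p' p) (p' p : T.P.obj.obj U) :
    T.vadd (-ψ p') p' = T.vadd (-ψ p) p := by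
  have h1 : T.vadd (diff T p' p) p = p' := diff_vadd T p' p
  have h2 : -ψ p = -ψ p' + diff T p' p := by
    rw [← hψ p' p]
    abel
  rw [h2, T.add_vadd, h1]

end Diff

section Glue

variable {G : Sheaf J AddCommGrpCat.{u}} (T : Tors.Torsor G)

/-- the sieve of arrows over which the torsor has a section -/
def neSieve (U : C) : Sieve U where
  arrows V _ := Nonempty (T.P.obj.obj (op V))
  downward_closed := fun ⟨p⟩ g => ⟨T.P.obj.map g.op p⟩

theorem neSieve_mem (U : C) : neSieve T U ∈ J U := by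
  obtain ⟨S, hS, h⟩ := T.locally_nonempty U
  exact J.superset_covering (fun V f hf => h f hf) hS

theorem hasSection_of_partial
    (s : ∀ U : Cᵒᵖ, T.P.obj.obj U → T.P.obj.obj U)
    (hconst : ∀ (U : Cᵒᵖ) (p' p : T.P.obj.obj U), s U p' = s U p)
    (hnat : ∀ {U V : Cᵒᵖ} (φ : U ⟶ V) (p : T.P.obj.obj U),
      T.P.obj.map φ (s U p) = s V (T.P.obj.map φ p)) :
    T.HasSection := by
  have hP : Presieve.IsSheaf J T.P.obj := (isSheaf_iff_isSheaf_of_type _ _).1 T.P.property
  let x : ∀ U : C, Presieve.FamilyOfElements T.P.obj (neSieve T U).arrows :=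
    fun U V f hf => s (op V) (Classical.choice hf)
  have hx : ∀ U : C, (x U).Compatible := by
    intro U Y₁ Y₂ Z g₁ g₂ f₁ f₂ h₁ h₂ _
    change T.P.obj.map g₁.op (s (op Y₁) _) = T.P.obj.map g₂.op (s (op Y₂) _)
    rw [hnat, hnat]
    exact hconst _ _ _
  let σ : ∀ U : Cᵒᵖ, T.P.obj.obj U := fun U =>
    (hP _ (neSieve_mem T U.unop)).amalgamate (x U.unop) (hx U.unop)
  have hσ : ∀ (U : Cᵒᵖ) {V : C} (f : V ⟶ U.unop) (hf : (neSieve T U.unop).arrows f),
      T.P.obj.map f.op (σ U) = s (op V) (Classical.choice hf) := by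
    intro U V f hf
    exact (hP _ (neSieve_mem T U.unop)).valid_glue (hx U.unop) f hf
  refine hasSection_of_family T σ ?_
  intro U V φ
  refine (hP _ (neSieve_mem T V.unop)).isSeparatedFor.ext ?_
  intro W f hf
  rw [hσ V f hf]
  have h1 : T.P.obj.map f.op (T.P.obj.map φ (σ U)) = T.P.obj.map (f ≫ φ.unop).op (σ U) := by
    rw [← FunctorToTypes.map_comp_apply]
    rfl
  rw [h1]
  exact hσ U (f ≫ φ.unop) hf

end Glue

section Forward

variable {G : Sheaf J AddCommGrpCat.{u}} (T : Tors.Torsor G)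

/-- the augmentation `ℤ[α] → ℤ` -/
noncomputable def augHom (α : Type u) : FreeAbelianGroup α →+ ULift.{u} ℤ :=
  FreeAbelianGroup.lift (fun _ => ULift.up 1)

theorem augHom_of (α : Type u) (a : α) : augHom α (FreeAbelianGroup.of a) = ULift.up 1 :=
  FreeAbelianGroup.lift_apply_of _ _

theorem augHom_map {α β : Type u} (f : α → β) (x : FreeAbelianGroup α) :
    augHom β (FreeAbelianGroup.map f x) = augHom α x := by
  have : (augHom β).comp (FreeAbelianGroup.map f) = augHom α := by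
    apply FreeAbelianGroup.lift_ext
    intro a
    change augHom β (FreeAbelianGroup.map f (FreeAbelianGroup.of a)) = augHom α (FreeAbelianGroup.of a)
    rw [FreeAbelianGroup.map_of_apply, augHom_of, augHom_of]
  exact DFunLike.congr_fun this x

/-- the map `Σ nᵢ pᵢ ↦ Σ nᵢ (pᵢ - p₀)` -/
noncomputable def dLift {U : Cᵒᵖ} (p₀ : T.P.obj.obj U) :
    FreeAbelianGroup (T.P.obj.obj U) →+ G.obj.obj U :=
  FreeAbelianGroup.lift (fun p => diff T p p₀)

theorem dLift_of {U : Cᵒᵖ} (p₀ p : T.P.obj.obj U) :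
    dLift T p₀ (FreeAbelianGroup.of p) = diff T p p₀ :=
  FreeAbelianGroup.lift_apply_of _ _

theorem dLift_change {U : Cᵒᵖ} (p₀ p₁ : T.P.obj.obj U) (x : FreeAbelianGroup (T.P.obj.obj U)) :
    dLift T p₀ x = dLift T p₁ x + (augHom _ x).down • diff T p₁ p₀ := by
  have : dLift T p₀ = dLift T p₁ +
      (zmultiplesHom (G.obj.obj U) (diff T p₁ p₀)).comp
        (AddEquiv.ulift.toAddMonoidHom.comp (augHom (T.P.obj.obj U))) := by
    apply FreeAbelianGroup.lift_ext
    intro p
    change dLift T p₀ (FreeAbelianGroup.of p) = dLift T p₁ (FreeAbelianGroup.of p) +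
      (zmultiplesHom (G.obj.obj U) (diff T p₁ p₀)) (augHom _ (FreeAbelianGroup.of p)).down
    rw [dLift_of, dLift_of, augHom_of]
    simp only [zmultiplesHom_apply, one_smul]
    exact (diff_add T p p₁ p₀).symm
  exact DFunLike.congr_fun this x

theorem dLift_eq {U : Cᵒᵖ} (p₀ p₁ : T.P.obj.obj U) (x : FreeAbelianGroup (T.P.obj.obj U))
    (hx : augHom _ x = 0) : dLift T p₀ x = dLift T p₁ x := by
  rw [dLift_change T p₀ p₁ x, hx]
  simp

theorem dLift_map {U V : Cᵒᵖ} (φ : U ⟶ V) (p₀ : T.P.obj.obj U)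
    (x : FreeAbelianGroup (T.P.obj.obj U)) :
    G.obj.map φ (dLift T p₀ x) =
      dLift T (T.P.obj.map φ p₀) (FreeAbelianGroup.map (T.P.obj.map φ) x) := by
  have : (G.obj.map φ).hom.comp (dLift T p₀) =
      (dLift T (T.P.obj.map φ p₀)).comp (FreeAbelianGroup.map (T.P.obj.map φ)) := by
    apply FreeAbelianGroup.lift_ext
    intro p
    change G.obj.map φ (dLift T p₀ (FreeAbelianGroup.of p)) =
      dLift T (T.P.obj.map φ p₀) (FreeAbelianGroup.map (T.P.obj.map φ) (FreeAbelianGroup.of p))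
    rw [FreeAbelianGroup.map_of_apply, dLift_of, dLift_of, diff_map]
  exact DFunLike.congr_fun this x

open Classical in
/-- a (non-natural) additive map `ℤ[P(U)] → G(U)` whose restriction to the augmentation kernel
is the canonical difference map -/
noncomputable def Dmap (U : Cᵒᵖ) : FreeAbelianGroup (T.P.obj.obj U) →+ G.obj.obj U :=
  if h : Nonempty (T.P.obj.obj U) then dLift T (Classical.choice h) else 0

theorem Dmap_eq {U : Cᵒᵖ} (p₀ : T.P.obj.obj U) (x : FreeAbelianGroup (T.P.obj.obj U))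
    (hx : augHom _ x = 0) : Dmap T U x = dLift T p₀ x := by
  unfold Dmap
  rw [dif_pos ⟨p₀⟩]
  exact dLift_eq T _ _ x hx

theorem Dmap_nat {U V : Cᵒᵖ} (φ : U ⟶ V) (x : FreeAbelianGroup (T.P.obj.obj U))
    (hx : augHom _ x = 0) :
    G.obj.map φ (Dmap T U x) = Dmap T V (FreeAbelianGroup.map (T.P.obj.map φ) x) := by
  by_cases h : Nonempty (T.P.obj.obj U)
  · obtain ⟨p₀⟩ := h
    rw [Dmap_eq T p₀ x hx, Dmap_eq T (T.P.obj.map φ p₀) _ (by rw [augHom_map]; exact hx)]
    exact dLift_map T φ p₀ x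
  · haveI : IsEmpty (T.P.obj.obj U) := not_nonempty_iff.1 h
    have hx0 : x = 0 := Subsingleton.elim _ _
    rw [hx0, map_zero, map_zero, map_zero, map_zero]

/-- the free abelian presheaf on the torsor -/
noncomputable abbrev F₀ : Cᵒᵖ ⥤ AddCommGrpCat.{u} := T.P.obj ⋙ AddCommGrpCat.free

/-- the augmentation `ℤ[P] → ℤ` of presheaves -/
noncomputable def aug₀ : F₀ T ⟶ Z₀ C where
  app U := AddCommGrpCat.ofHom (augHom (T.P.obj.obj U))
  naturality := by
    intro U V φ
    refine AddCommGrpCat.hom_ext (AddMonoidHom.ext fun x => ?_)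
    change augHom _ (FreeAbelianGroup.map (T.P.obj.map φ) x) = augHom _ x
    exact augHom_map _ x

theorem ker_aug {U : Cᵒᵖ} (k : (kernel (aug₀ T)).obj U) :
    augHom _ ((kernel.ι (aug₀ T)).app U k) = 0 := by
  have h1 : (kernel.ι (aug₀ T)).app U ≫ (aug₀ T).app U = 0 := by
    have := congrArg (fun ψ => ψ.app U) (kernel.condition (aug₀ T))
    exact this
  exact congrArg (fun ψ => ψ.hom k) h1

/-- the difference map on the kernel of the augmentation -/
noncomputable def δ₀ : kernel (aug₀ T) ⟶ G.obj where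
  app U := (kernel.ι (aug₀ T)).app U ≫ AddCommGrpCat.ofHom (Dmap T U)
  naturality := by
    intro U V φ
    refine AddCommGrpCat.hom_ext (AddMonoidHom.ext fun k => ?_)
    have hnat : (kernel.ι (aug₀ T)).app V ((kernel (aug₀ T)).map φ k) =
        FreeAbelianGroup.map (T.P.obj.map φ) ((kernel.ι (aug₀ T)).app U k) :=
      congrArg (fun ψ => ψ.hom k) ((kernel.ι (aug₀ T)).naturality φ)
    change Dmap T V ((kernel.ι (aug₀ T)).app V ((kernel (aug₀ T)).map φ k)) =
      G.obj.map φ (Dmap T U ((kernel.ι (aug₀ T)).app U k))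
    rw [hnat, Dmap_nat T φ _ (ker_aug T k)]

theorem exists_ker {U : Cᵒᵖ} (x : FreeAbelianGroup (T.P.obj.obj U)) (hx : augHom _ x = 0) :
    ∃ k : (kernel (aug₀ T)).obj U, (kernel.ι (aug₀ T)).app U k = x := by
  let E : (Cᵒᵖ ⥤ AddCommGrpCat.{u}) ⥤ AddCommGrpCat.{u} := (evaluation Cᵒᵖ AddCommGrpCat.{u}).obj U
  have hex : ((ShortComplex.kernelSequence (aug₀ T)).map E).Exact :=
    (ShortComplex.kernelSequence_exact (aug₀ T)).map_of_mono_of_preservesKernel E
      inferInstance inferInstance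
  exact (ShortComplex.ab_exact_iff _).1 hex x hx

theorem epi_aug : Epi ((presheafToSheaf J AddCommGrpCat.{u}).map (aug₀ T)) := by
  constructor
  intro W a b hab
  let a' : Zs J ⟶ W := a
  let b' : Zs J ⟶ W := b
  change a' = b'
  apply hom_ext_secOf
  intro U
  have hpre : aug₀ T ≫ pre a' = aug₀ T ≫ pre b' := by
    have h1 := (adj J).homEquiv_naturality_left (aug₀ T) a
    have h2 := (adj J).homEquiv_naturality_left (aug₀ T) b
    exact h1.symm.trans ((congrArg _ hab).trans h2)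
  have hW : Presieve.IsSheaf J (W.obj ⋙ forget AddCommGrpCat.{u}) :=
    (isSheaf_iff_isSheaf_of_type _ _).1
      ((sheafCompose J (forget AddCommGrpCat.{u})).obj W).property
  refine (hW _ (neSieve_mem T U.unop)).isSeparatedFor.ext ?_
  rintro V f ⟨p⟩
  change W.obj.map f.op (secOf a' U) = W.obj.map f.op (secOf b' U)
  rw [secOf_map, secOf_map]
  have h3 := congrArg (fun ψ => (ψ.app (op V)).hom (FreeAbelianGroup.of p)) hpre
  change (pre a').app (op V) (augHom _ (FreeAbelianGroup.of p)) =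
    (pre b').app (op V) (augHom _ (FreeAbelianGroup.of p)) at h3
  rw [augHom_of] at h3
  exact h3

open Abelian in
theorem hasSection_of_H1 (hH : Subsingleton (Sheaf.H.{u} G 1)) : T.HasSection := by
  let L := presheafToSheaf J AddCommGrpCat.{u}
  let S₀ := ShortComplex.kernelSequence (aug₀ T)
  let S : ShortComplex (Sheaf J AddCommGrpCat.{u}) := S₀.map L
  have hS : S.ShortExact :=
    { exact := (ShortComplex.kernelSequence_exact (aug₀ T)).map_of_mono_of_preservesKernel L
        inferInstance inferInstance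
      mono_f := inferInstanceAs (Mono (L.map (kernel.ι (aug₀ T))))
      epi_g := epi_aug T }
  let δ : S.X₁ ⟶ G := ((adj J).homEquiv (kernel (aug₀ T)) G).symm (δ₀ T)
  have h0 : hS.extClass.comp (Ext.mk₀ δ) (show 1 + 0 = 1 by rfl) = 0 :=
    @Subsingleton.elim _ hH _ _
  obtain ⟨x₂, hx₂⟩ := Ext.contravariant_sequence_exact₁ hS G (Ext.mk₀ δ) (show 1 + 0 = 1 by rfl) h0
  obtain ⟨φ, rfl⟩ := (Ext.mk₀_bijective _ _).2 x₂
  have hφ : S.f ≫ φ = δ := by
    rw [Ext.mk₀_comp_mk₀] at hx₂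
    exact (Ext.mk₀_bijective _ _).1 hx₂
  let φ₀ : F₀ T ⟶ G.obj := (adj J).homEquiv (F₀ T) G φ
  have hφ₀ : kernel.ι (aug₀ T) ≫ φ₀ = δ₀ T := by
    have h1 := (adj J).homEquiv_naturality_left (kernel.ι (aug₀ T)) φ
    refine h1.symm.trans ?_
    have h2 : (adj J).homEquiv (kernel (aug₀ T)) G (S.f ≫ φ) = (adj J).homEquiv _ G δ :=
      congrArg _ hφ
    exact h2.trans (Equiv.apply_symm_apply _ _)
  let ψ : ∀ U : Cᵒᵖ, T.P.obj.obj U → G.obj.obj U :=
    fun U p => (φ₀.app U).hom (FreeAbelianGroup.of p)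
  have hψ : ∀ (U : Cᵒᵖ) (p' p : T.P.obj.obj U), ψ U p' - ψ U p = diff T p' p := by
    intro U p' p
    let x : FreeAbelianGroup (T.P.obj.obj U) := FreeAbelianGroup.of p' - FreeAbelianGroup.of p
    have hx : augHom _ x = 0 := by
      change augHom _ (FreeAbelianGroup.of p' - FreeAbelianGroup.of p) = 0
      rw [map_sub, augHom_of, augHom_of, sub_self]
    obtain ⟨k, hk⟩ := exists_ker T x hx
    have e1 : (φ₀.app U).hom x = Dmap T U x := by
      rw [← hk]
      exact congrArg (fun χ => (χ.app U).hom k) hφ₀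
    have e2 : ψ U p' - ψ U p = (φ₀.app U).hom x := (map_sub (φ₀.app U).hom _ _).symm
    rw [e2, e1, Dmap_eq T p x hx]
    change dLift T p (FreeAbelianGroup.of p' - FreeAbelianGroup.of p) = _
    rw [map_sub, dLift_of, dLift_of, diff_self, sub_zero]
  have hψnat : ∀ {U V : Cᵒᵖ} (φ' : U ⟶ V) (p : T.P.obj.obj U),
      G.obj.map φ' (ψ U p) = ψ V (T.P.obj.map φ' p) := by
    intro U V φ' p
    have h1 := congrArg (fun χ => χ.hom (FreeAbelianGroup.of p)) (φ₀.naturality φ')
    refine h1.symm.trans ?_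
    change (φ₀.app V).hom (FreeAbelianGroup.map (T.P.obj.map φ') (FreeAbelianGroup.of p)) = _
    rw [FreeAbelianGroup.map_of_apply]
  refine hasSection_of_partial T (fun U p => T.vadd (-(ψ U p)) p) ?_ ?_
  · intro U p' p
    exact vadd_neg_indep T (ψ U) (hψ U) p' p
  · intro U V φ' p
    rw [T.map_vadd, map_neg, hψnat]

end Forward

end Groth.Agent.Lib.Lead.TorsorH1
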